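/-
Elements differing from the identity by a rank one map, monomial matrices, and a criterion for a subgroup
of GL(ι, F) containing block monomial matrices to contain the special linear group.
-/
import Mathlib
import Cfsg.Prelude.Def_GeometricClasses
import Cfsg.Agent.Lib.Transvec.Basic
set_option autoImplicit false

namespace Cfsg.Agent.Imprim

open scoped Matrix
open Matrix
open Cfsg.Agent.Transvec

variable {ι : Type} [Fintype ι] [DecidableEq ι] {F : Type*} [Field F]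

/-- The standard basis vector. -/
abbrev ev (k : ι) : ι → F := Pi.single k 1

/-- The coordinate functional. -/
abbrev pr (k : ι) : Module.Dual F (ι → F) := LinearMap.proj k

/-- The coefficient of a functional at a coordinate. -/
abbrev co (φ : Module.Dual F (ι → F)) (k : ι) : F := φ (ev k)

theorem dual_apply (φ : Module.Dual F (ι → F)) (x : ι → F) : φ x = ∑ k, x k * co φ k := by
  conv_lhs => rw [pi_eq_sum_univ' x, map_sum]
  simp [mul_comm]

theorem dual_ext {φ ψ : Module.Dual F (ι → F)} (h : ∀ k, co φ k = co ψ k) : φ = ψ := by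
  refine LinearMap.ext fun x => ?_
  rw [dual_apply φ, dual_apply ψ]
  simp [h]

theorem exists_co_ne_zero {φ : Module.Dual F (ι → F)} (h : φ ≠ 0) : ∃ k, co φ k ≠ 0 := by
  by_contra hc
  push Not at hc
  exact h (dual_ext fun k => by simp [hc k])

theorem mv_eq_sum (g : GL ι F) (x : ι → F) : mv g x = ∑ k, x k • mv g (ev k) := by
  conv_lhs => rw [show x = ∑ k, x k • (ev k : ι → F) from pi_eq_sum_univ' x]
  rw [mv_sum]
  simp [mv_smul]

theorem ext_ev {g h : GL ι F} (H : ∀ k, mv g (ev k) = mv h (ev k)) : g = h :=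
  ext_mv fun x => by rw [mv_eq_sum g, mv_eq_sum h]; simp [H]

/-- The element g acts as x ↦ x + φ(x) u. -/
def IsDev (g : GL ι F) (u : ι → F) (φ : Module.Dual F (ι → F)) : Prop :=
  ∀ x, mv g x = x + φ x • u

theorem IsDev.val_eq {g : GL ι F} {u : ι → F} {φ : Module.Dual F (ι → F)} (h : IsDev g u φ) :
    (g : Matrix ι ι F) = tvMat u φ :=
  Matrix.ext_of_mulVec_single fun i => by rw [tvMat_mulVec]; exact h _

theorem IsDev.det {g : GL ι F} {u : ι → F} {φ : Module.Dual F (ι → F)} (h : IsDev g u φ) :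
    (g : Matrix ι ι F).det = 1 + φ u := by
  rw [h.val_eq, det_tvMat]

theorem det_ne_zero (g : GL ι F) : (g : Matrix ι ι F).det ≠ 0 :=
  ((Matrix.isUnit_iff_isUnit_det _).1 g.isUnit).ne_zero

theorem IsDev.one_add_ne {g : GL ι F} {u : ι → F} {φ : Module.Dual F (ι → F)} (h : IsDev g u φ) :
    1 + φ u ≠ 0 := h.det ▸ det_ne_zero g

theorem mem_sl_iff {g : GL ι F} :
    g ∈ Geo.specialLinear ι F ↔ (g : Matrix ι ι F).det = 1 := by
  rw [Geo.specialLinear, MonoidHom.mem_ker]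
  constructor
  · intro h; rw [← Matrix.GeneralLinearGroup.val_det_apply, h]; rfl
  · intro h; ext; rw [Matrix.GeneralLinearGroup.val_det_apply, h]; rfl

theorem IsDev.mem_sl {g : GL ι F} {u : ι → F} {φ : Module.Dual F (ι → F)} (h : IsDev g u φ)
    (hu : φ u = 0) : g ∈ Geo.specialLinear ι F := by
  rw [mem_sl_iff, h.det, hu, add_zero]

theorem isDev_tv {u : ι → F} {φ : Module.Dual F (ι → F)} (h : φ u = 0) : IsDev (tv u φ h) u φ :=
  mv_tv h

theorem IsDev.eq_tv {g : GL ι F} {u : ι → F} {φ : Module.Dual F (ι → F)} (h : IsDev g u φ)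
    (hu : φ u = 0) : g = tv u φ hu :=
  ext_mv fun x => by rw [h, mv_tv]

theorem exists_isDev {u : ι → F} {φ : Module.Dual F (ι → F)} (h : 1 + φ u ≠ 0) :
    ∃ g : GL ι F, IsDev g u φ :=
  ⟨Matrix.GeneralLinearGroup.mkOfDetNeZero (tvMat u φ) (by rwa [det_tvMat]),
    fun x => tvMat_mulVec u φ x⟩

theorem IsDev.of_eq {g : GL ι F} {u u' : ι → F} {φ φ' : Module.Dual F (ι → F)} (h : IsDev g u φ)
    (H : ∀ x, φ x • u = φ' x • u') : IsDev g u' φ' := fun x => by rw [h, H]

theorem IsDev.inv {g : GL ι F} {u : ι → F} {φ : Module.Dual F (ι → F)} (h : IsDev g u φ) :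
    IsDev g⁻¹ u (-(1 + φ u)⁻¹ • φ) := by
  intro x
  have h1 := h.one_add_ne
  have hv := h (mv g⁻¹ x)
  rw [mv_mv_inv] at hv
  have hφ : φ x = φ (mv g⁻¹ x) * (1 + φ u) := by
    conv_lhs => rw [hv]
    simp [mul_add]
  simp only [LinearMap.smul_apply, smul_eq_mul, hφ]
  rw [show -(1 + φ u)⁻¹ * (φ (mv g⁻¹ x) * (1 + φ u)) = -φ (mv g⁻¹ x) by field_simp]
  conv_rhs => arg 1; rw [hv]
  simp

theorem IsDev.conj {g h : GL ι F} {u : ι → F} {φ φ' : Module.Dual F (ι → F)} (H : IsDev h u φ)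
    (hφ : ∀ x, φ' (mv g x) = φ x) : IsDev (g * h * g⁻¹) (mv g u) φ' := by
  intro x
  obtain ⟨y, rfl⟩ : ∃ y, x = mv g y := ⟨mv g⁻¹ x, (mv_mv_inv g x).symm⟩
  rw [mv_mul, mv_mul, mv_inv_mv, H, mv_add, mv_smul, hφ]

/-- The commutator of two such elements, when one pairing vanishes. -/
theorem IsDev.commutator {g h : GL ι F} {u w : ι → F} {φ ψ : Module.Dual F (ι → F)}
    (Hg : IsDev g u φ) (Hh : IsDev h w ψ) (h0 : ψ u = 0) :
    IsDev (g * h * g⁻¹ * h⁻¹) ((φ w / (1 + ψ w)) • u) ψ := by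
  intro x
  have h1 := Hh.one_add_ne
  obtain ⟨z, rfl⟩ : ∃ z, x = mv (h * g) z := ⟨mv (h * g)⁻¹ x, (mv_mv_inv _ x).symm⟩
  have hl : g * h * g⁻¹ * h⁻¹ * (h * g) = g * h := by group
  rw [← mv_mul, hl, mv_mul, mv_mul, Hh z, Hg z, mv_add, mv_smul, Hg, Hg, Hh]
  simp only [map_add, map_smul, smul_eq_mul, h0, mul_zero, add_zero, smul_add, smul_smul]
  rw [show (ψ z + ψ z * ψ w) * (φ w / (1 + ψ w)) = ψ z * φ w by field_simp]
  abel

/-- K contains an element x ↦ x + φ(x) u. -/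
def Has (K : Subgroup (GL ι F)) (u : ι → F) (φ : Module.Dual F (ι → F)) : Prop :=
  ∃ g ∈ K, IsDev g u φ

theorem Has.of_eq {K : Subgroup (GL ι F)} {u u' : ι → F} {φ φ' : Module.Dual F (ι → F)}
    (h : Has K u φ) (H : ∀ x, φ x • u = φ' x • u') : Has K u' φ' :=
  let ⟨g, hg, hd⟩ := h
  ⟨g, hg, hd.of_eq H⟩

theorem Has.conj {K : Subgroup (GL ι F)} {u : ι → F} {φ φ' : Module.Dual F (ι → F)} {g : GL ι F}
    (h : Has K u φ) (hg : g ∈ K) (hφ : ∀ x, φ' (mv g x) = φ x) : Has K (mv g u) φ' :=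
  let ⟨_, hh, hd⟩ := h
  ⟨_, K.mul_mem (K.mul_mem hg hh) (K.inv_mem hg), hd.conj hφ⟩

theorem Has.commutator {K : Subgroup (GL ι F)} {u w : ι → F} {φ ψ : Module.Dual F (ι → F)}
    (hg : Has K u φ) (hh : Has K w ψ) (h0 : ψ u = 0) : Has K ((φ w / (1 + ψ w)) • u) ψ :=
  let ⟨_, hg, Hg⟩ := hg
  let ⟨_, hh, Hh⟩ := hh
  ⟨_, K.mul_mem (K.mul_mem (K.mul_mem hg hh) (K.inv_mem hg)) (K.inv_mem hh), Hg.commutator Hh h0⟩

theorem Has.add_fun {K : Subgroup (GL ι F)} {u : ι → F} {φ ψ : Module.Dual F (ι → F)}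
    (hg : Has K u φ) (hh : Has K u ψ) (h0 : φ u = 0) : Has K u (φ + ψ) := by
  obtain ⟨g, hg, Hg⟩ := hg
  obtain ⟨h, hh, Hh⟩ := hh
  refine ⟨g * h, K.mul_mem hg hh, fun x => ?_⟩
  rw [mv_mul, Hh, Hg]
  simp [h0, add_smul, add_assoc, add_comm (φ x • u)]

theorem Has.add_vec {K : Subgroup (GL ι F)} {u w : ι → F} {φ : Module.Dual F (ι → F)}
    (hg : Has K u φ) (hh : Has K w φ) (hw : φ w = 0) : Has K (u + w) φ := by
  obtain ⟨g, hg, Hg⟩ := hg
  obtain ⟨h, hh, Hh⟩ := hh
  refine ⟨g * h, K.mul_mem hg hh, fun x => ?_⟩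
  rw [mv_mul, Hh, Hg]
  simp [hw, add_assoc, add_comm (φ x • w)]

theorem Has.neg_vec {K : Subgroup (GL ι F)} {u : ι → F} {φ : Module.Dual F (ι → F)}
    (hg : Has K u φ) (hu : φ u = 0) : Has K (-u) φ := by
  obtain ⟨g, hg, Hg⟩ := hg
  exact ⟨g⁻¹, K.inv_mem hg, Hg.inv.of_eq fun x => by simp [hu]⟩

/-! ### Diagonal and monomial elements -/

/-- A diagonal matrix. -/
def dg (t : ι → Fˣ) : GL ι F where
  val := Matrix.diagonal fun k => (t k : F)
  inv := Matrix.diagonal fun k => ((t k)⁻¹ : Fˣ)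
  val_inv := by simp [Matrix.diagonal_mul_diagonal]
  inv_val := by simp [Matrix.diagonal_mul_diagonal]

theorem mv_dg (t : ι → Fˣ) (x : ι → F) : mv (dg t) x = fun k => (t k : F) * x k :=
  funext fun k => Matrix.mulVec_diagonal _ x k

theorem mv_dg_ev (t : ι → Fˣ) (k : ι) : mv (dg t) (ev k) = (t k : F) • ev k := by
  rw [mv_dg]
  ext l
  rcases eq_or_ne l k with rfl | h <;> simp [*]

theorem det_dg (t : ι → Fˣ) : ((dg t : GL ι F) : Matrix ι ι F).det = ∏ k, (t k : F) :=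
  Matrix.det_diagonal

theorem dg_mem_sl {t : ι → Fˣ} (h : ∏ k, (t k : F) = 1) : dg t ∈ Geo.specialLinear ι F := by
  rw [mem_sl_iff, det_dg, h]

theorem dg_inv (t : ι → Fˣ) : (dg t : GL ι F)⁻¹ = dg (t⁻¹) := Units.ext rfl

/-- The diagonal element with a single entry different from one. -/
def dk (k : ι) (η : Fˣ) : GL ι F := dg (Function.update 1 k η)

theorem isDev_dk (k : ι) (η : Fˣ) : IsDev (dk k η) (((η : F) - 1) • ev k) (pr k) := by
  intro x
  rw [dk, mv_dg]
  ext l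
  rcases eq_or_ne l k with rfl | h
  · simp; ring
  · simp [h]

/-- The diagonal element with two mutually inverse entries. -/
def d2 (k l : ι) (η : Fˣ) : GL ι F := dg (Function.update (Function.update 1 k η) l η⁻¹)

theorem mv_d2 {k l : ι} (hkl : k ≠ l) (η : Fˣ) (x : ι → F) :
    mv (d2 k l η) x = x + ((((η : F) - 1) * x k) • ev k + (((η : F)⁻¹ - 1) * x l) • ev l) := by
  rw [d2, mv_dg]
  ext i
  rcases eq_or_ne i l with rfl | h
  · simp [hkl.symm]; ring
  · rcases eq_or_ne i k with rfl | h'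
    · simp [h]; ring
    · simp [h, h']

theorem d2_prod {k l : ι} (hkl : k ≠ l) (η : Fˣ) :
    ∏ i, ((Function.update (Function.update (1 : ι → Fˣ) k η) l η⁻¹ i : Fˣ) : F) = 1 := by
  rw [← Units.coe_prod, Finset.prod_update_of_mem (Finset.mem_univ l)]
  have : k ∈ (Finset.univ \ {l} : Finset ι) := by simp [hkl]
  rw [Finset.prod_update_of_mem this]
  simp

theorem d2_mem_sl {k l : ι} (hkl : k ≠ l) (η : Fˣ) : d2 k l η ∈ Geo.specialLinear ι F :=
  dg_mem_sl (d2_prod hkl η)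

/-- A permutation matrix. -/
def pm (σ : Equiv.Perm ι) : GL ι F where
  val := σ⁻¹.permMatrix F
  inv := σ.permMatrix F
  val_inv := by rw [← Matrix.permMatrix_mul]; simp
  inv_val := by rw [← Matrix.permMatrix_mul]; simp

theorem mv_pm (σ : Equiv.Perm ι) (x : ι → F) : mv (pm σ) x = fun k => x (σ⁻¹ k) :=
  Matrix.permMatrix_mulVec _

theorem mv_pm_ev (σ : Equiv.Perm ι) (k : ι) : mv (pm σ : GL ι F) (ev k) = ev (σ k) := by
  rw [mv_pm]
  ext l
  rcases eq_or_ne l (σ k) with rfl | h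
  · simp
  · have : (Equiv.symm σ) l ≠ k := fun e => h (by rw [← e]; simp)
    simp [h, this]

theorem det_pm (σ : Equiv.Perm ι) :
    ((pm σ : GL ι F) : Matrix ι ι F).det = ((Equiv.Perm.sign σ : ℤ) : F) := by
  show (σ⁻¹.permMatrix F).det = _
  rw [Matrix.det_permutation, Equiv.Perm.sign_inv]

/-- A monomial matrix: the basis vector k goes to c(k) times the basis vector σ(k). -/
def mp (σ : Equiv.Perm ι) (c : ι → Fˣ) : GL ι F := pm σ * dg c

theorem mv_mp_ev (σ : Equiv.Perm ι) (c : ι → Fˣ) (k : ι) :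
    mv (mp σ c) (ev k) = (c k : F) • ev (σ k) := by
  rw [mp, mv_mul, mv_dg_ev, mv_smul, mv_pm_ev]

theorem det_mp (σ : Equiv.Perm ι) (c : ι → Fˣ) :
    ((mp σ c : GL ι F) : Matrix ι ι F).det = ((Equiv.Perm.sign σ : ℤ) : F) * ∏ k, (c k : F) := by
  rw [mp, Units.val_mul, Matrix.det_mul, det_pm, det_dg]

theorem exists_mp_mem_sl (σ : Equiv.Perm ι) (z : ι) :
    ∃ c : ι → Fˣ, mp σ c ∈ Geo.specialLinear ι F ∧ ∀ k, k ≠ z → c k = 1 := by
  rcases Int.units_eq_one_or (Equiv.Perm.sign σ) with hs | hs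
  · refine ⟨1, ?_, fun _ _ => rfl⟩
    rw [mem_sl_iff, det_mp, hs]; simp
  · refine ⟨Function.update 1 z (-1), ?_, fun k hk => by simp [hk]⟩
    rw [mem_sl_iff, det_mp, hs, ← Units.coe_prod, Finset.prod_update_of_mem (Finset.mem_univ z)]
    simp

/-- A monomial element. -/
def Mon (g : GL ι F) : Prop := ∀ k, ∃ (l : ι) (c : F), mv g (ev k) = c • ev l

theorem mv_ev_ne_zero (g : GL ι F) (k : ι) : mv g (ev k) ≠ 0 := fun h => by
  have := mv_inj g (h.trans (mv_zero g).symm)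
  simpa using congrFun this k

theorem Mon.exists_mp {g : GL ι F} (h : Mon g) : ∃ σ c, g = mp σ c := by
  choose l c hlc using h
  have hc : ∀ k, c k ≠ 0 := fun k e => mv_ev_ne_zero g k (by rw [hlc, e, zero_smul])
  have hinj : Function.Injective l := by
    intro a b hab
    by_contra hne
    have : mv g (c b • ev a) = mv g (c a • ev b) := by
      rw [mv_smul, mv_smul, hlc, hlc, hab, smul_smul, smul_smul, mul_comm]
    have := congrFun (mv_inj g this) a
    exact hc b (by simpa [hne] using this)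
  refine ⟨Equiv.ofBijective l (Finite.injective_iff_bijective.1 hinj),
    fun k => Units.mk0 (c k) (hc k), ext_ev fun k => ?_⟩
  rw [mv_mp_ev, hlc]
  rfl

theorem mon_mp (σ : Equiv.Perm ι) (c : ι → Fˣ) : Mon (mp σ c) :=
  fun k => ⟨σ k, c k, mv_mp_ev σ c k⟩

theorem Mon.mul {g h : GL ι F} (hg : Mon g) (hh : Mon h) : Mon (g * h) := by
  intro k
  obtain ⟨l, c, hl⟩ := hh k
  obtain ⟨l', c', hl'⟩ := hg l
  exact ⟨l', c * c', by rw [mv_mul, hl, mv_smul, hl', smul_smul]⟩

theorem Mon.inv {g : GL ι F} (hg : Mon g) : Mon g⁻¹ := by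
  obtain ⟨σ, c, rfl⟩ := hg.exists_mp
  intro k
  refine ⟨σ⁻¹ k, ((c (σ⁻¹ k))⁻¹ : Fˣ), ?_⟩
  rw [← mv_inv_mv (mp σ c) ((((c (σ⁻¹ k))⁻¹ : Fˣ) : F) • ev (σ⁻¹ k)), mv_smul, mv_mp_ev,
    smul_smul, ← Units.val_mul, inv_mul_cancel, Units.val_one, one_smul,
    show σ (σ⁻¹ k) = k from Equiv.apply_symm_apply σ k]

theorem mon_dg (t : ι → Fˣ) : Mon (dg t : GL ι F) := fun k => ⟨k, t k, mv_dg_ev t k⟩

theorem Mon.of_mul_left {g h : GL ι F} (hg : Mon g) (hgh : Mon (g * h)) : Mon h := by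
  simpa using hg.inv.mul hgh

theorem Mon.of_mul_right {g h : GL ι F} (hh : Mon h) (hgh : Mon (g * h)) : Mon g := by
  simpa using hgh.mul hh.inv

/-! ### Containing the special linear group -/

variable {t m : ℕ}

/-- The final step: one elementary transvection between two blocks suffices. -/
theorem sl_le (hn : 3 ≤ Fintype.card ι) (e : ι ≃ Fin t × Fin m) {K : Subgroup (GL ι F)}
    (hM : ∀ (σ : Equiv.Perm ι) (c : ι → Fˣ), mp σ c ∈ Geo.specialLinear ι F →
      (∀ i j, (e i).1 = (e j).1 → (e (σ i)).1 = (e (σ j)).1) → mp σ c ∈ K)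
    (hsame : ∀ k l, k ≠ l → (e k).1 = (e l).1 → ∀ μ : F, Has K (μ • ev k) (pr l))
    {k0 l0 : ι} (hkl : (e k0).1 ≠ (e l0).1) {a : F} (ha : a ≠ 0)
    (h0 : Has K (a • ev k0) (pr l0)) : Geo.specialLinear ι F ≤ K := by
  classical
  have hne : ∀ i j : ι, ∃ z, z ≠ i ∧ z ≠ j := by
    intro i j
    obtain ⟨z, hz⟩ : ∃ z, z ∈ ({i, j} : Finset ι)ᶜ := by
      refine Finset.card_pos.1 ?_
      rw [Finset.card_compl]
      have := Finset.card_le_two (a := i) (b := j)
      omega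
    exact ⟨z, by simpa [not_or] using hz⟩
  -- block permutations with signs lie in K
  have hperm : ∀ (σ : Equiv.Perm ι), (∀ i j, (e i).1 = (e j).1 → (e (σ i)).1 = (e (σ j)).1) →
      ∀ z, ∃ c : ι → Fˣ, mp σ c ∈ K ∧ ∀ k, k ≠ z → c k = 1 := by
    intro σ hσ z
    obtain ⟨c, hc, hc1⟩ := exists_mp_mem_sl (F := F) σ z
    exact ⟨c, hM σ c hc hσ, hc1⟩
  have hdiag : ∀ t : ι → Fˣ, ∏ k, (t k : F) = 1 → dg t ∈ K := by
    intro t ht
    have h1 : mp 1 t = (dg t : GL ι F) := ext_ev fun k => by rw [mv_mp_ev, mv_dg_ev]; rfl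
    rw [← h1]
    exact hM 1 t (by rw [h1]; exact dg_mem_sl ht) fun i j hij => hij
  -- all elementary transvections
  have hall : ∀ k l, k ≠ l → ∀ μ : F, Has K (μ • ev k) (pr l) := by
    intro k l hne' μ
    by_cases hb : (e k).1 = (e l).1
    · exact hsame k l hne' hb μ
    rcases eq_or_ne μ 0 with rfl | hμ
    · exact ⟨1, K.one_mem, fun x => by simp [mv_one]⟩
    -- a block permutation taking (k0, l0) to (k, l)
    obtain ⟨σ, hσ, hσk, hσl⟩ : ∃ σ : Equiv.Perm ι,
        (∀ i j, (e i).1 = (e j).1 → (e (σ i)).1 = (e (σ j)).1) ∧ σ k0 = k ∧ σ l0 = l := by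
      let τ : Equiv.Perm (Fin t) :=
        Equiv.swap ((Equiv.swap (e k0).1 (e k).1) (e l0).1) (e l).1 * Equiv.swap (e k0).1 (e k).1
      have hτk : τ (e k0).1 = (e k).1 := by
        simp only [τ, Equiv.Perm.mul_apply, Equiv.swap_apply_left]
        refine Equiv.swap_apply_of_ne_of_ne ?_ hb
        intro h
        have := congrArg (Equiv.swap (e k0).1 (e k).1) h
        simp at this
        exact hkl this
      have hτl : τ (e l0).1 = (e l).1 := by simp [τ]
      let π0 : Equiv.Perm ι := e.trans ((τ.prodCongr (Equiv.refl _)).trans e.symm)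
      have hπ0 : ∀ i, (e (π0 i)).1 = τ (e i).1 := fun i => by simp [π0]
      refine ⟨Equiv.swap ((Equiv.swap (π0 k0) k) (π0 l0)) l * (Equiv.swap (π0 k0) k * π0), ?_, ?_, ?_⟩
      · have hsw : ∀ a b, (e a).1 = (e b).1 → ∀ i, (e (Equiv.swap a b i)).1 = (e i).1 := by
          intro a b hab i
          rw [Equiv.swap_apply_def]
          split_ifs with h1 h2
          · rw [h1, hab]
          · rw [h2, hab]
          · rfl
        have h1 : (e (π0 k0)).1 = (e k).1 := by rw [hπ0, hτk]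
        have h2 : (e ((Equiv.swap (π0 k0) k) (π0 l0))).1 = (e l).1 := by
          rw [hsw _ _ h1, hπ0, hτl]
        intro i j hij
        simp only [Equiv.Perm.mul_apply]
        rw [hsw _ _ h2, hsw _ _ h2, hsw _ _ h1, hsw _ _ h1, hπ0, hπ0, hij]
      · simp only [Equiv.Perm.mul_apply, Equiv.swap_apply_left]
        refine Equiv.swap_apply_of_ne_of_ne ?_ hne'
        intro h
        have := congrArg (Equiv.swap (π0 k0) k) h
        simp at this
        exact hkl (congrArg (fun i => (e i).1) this)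
      · simp
    obtain ⟨z, hz1, hz2⟩ := hne k0 l0
    obtain ⟨c, hc, hc1⟩ := hperm σ hσ z
    have h1 : Has K (mv (mp σ c) (a • ev k0)) (pr l) := by
      refine h0.conj hc fun x => ?_
      show mv (mp σ c) x l = x l0
      rw [mp, mv_mul, mv_pm, mv_dg]
      simp [← hσl, hc1 l0 hz2.symm]
    rw [mv_smul, mv_mp_ev, hσk, hc1 k0 hz1.symm, Units.val_one, one_smul] at h1
    obtain ⟨j, hj1, hj2⟩ := hne k l
    have hd := hdiag _ (d2_prod hj1.symm (Units.mk0 (μ / a) (div_ne_zero hμ ha)))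
    have h2 : Has K (mv (d2 k j (Units.mk0 (μ / a) (div_ne_zero hμ ha))) (a • ev k)) (pr l) := by
      refine h1.conj hd fun x => ?_
      show mv (d2 k j _) x l = x l
      rw [mv_d2 hj1.symm]
      simp [hne'.symm, hj2.symm]
    rwa [mv_smul, d2, mv_dg_ev, smul_smul, Function.update_of_ne hj1.symm, Function.update_self,
      Units.val_mk0, mul_div_cancel₀ μ ha] at h2
  refine specialLinear_le fun v φ h => ?_
  suffices hc : ∀ k, (ev k : ι → F) ∈ centreSpace K by
    have : v ∈ centreSpace K := by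
      rw [show v = ∑ k, v k • (ev k : ι → F) from pi_eq_sum_univ' v]
      exact Submodule.sum_mem _ fun k _ => Submodule.smul_mem _ _ (hc k)
    exact this φ h
  intro k ψ hψ
  -- split ψ into coordinate functionals
  have hsum : ψ = ∑ l, co ψ l • pr l := LinearMap.ext fun x => by
    rw [dual_apply ψ x]
    simp [LinearMap.sum_apply, mul_comm]
  have : ∀ s : Finset ι, Has K (ev k) (∑ l ∈ s, co ψ l • pr l) := by
    intro s
    induction s using Finset.induction with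
    | empty => exact ⟨1, K.one_mem, fun x => by simp [mv_one]⟩
    | insert l s hl ih =>
      rw [Finset.sum_insert hl]
      refine Has.add_fun ?_ ih ?_
      · rcases eq_or_ne k l with rfl | hne'
        · exact ⟨1, K.one_mem, fun x => by simp [mv_one, show co ψ k = 0 from hψ]⟩
        · exact (hall k l hne' (co ψ l)).of_eq fun x => by simp [smul_smul, mul_comm]
      · rcases eq_or_ne k l with rfl | hne'
        · simp [show co ψ k = 0 from hψ]
        · simp [hne'.symm]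
  obtain ⟨g, hg, hd⟩ := this Finset.univ
  rw [← hsum] at hd
  rw [← hd.eq_tv hψ]
  exact hg

end Cfsg.Agent.Imprim
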