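/-
An overgroup of the stabiliser of a decomposition into blocks of size at least two contains an elementary
transvection between two blocks.
-/
import Mathlib
import Cfsg.Agent.Lib.Imprimitive.Basic
set_option autoImplicit false

namespace Cfsg.Agent.Imprim

open scoped Matrix
open Matrix
open Cfsg.Agent.Transvec

attribute [-simp] Matrix.mulVec_single Matrix.mulVec_single_one

variable {ι : Type} [Fintype ι] [DecidableEq ι] {F : Type*} [Field F] {t m : ℕ}

/-- A vector supported in the block i. -/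
def InBlock (e : ι ≃ Fin t × Fin m) (i : Fin t) (x : ι → F) : Prop :=
  ∀ k, (e k).1 ≠ i → x k = 0

/-- A functional supported in the block i. -/
def FunIn (e : ι ≃ Fin t × Fin m) (i : Fin t) (φ : Module.Dual F (ι → F)) : Prop :=
  ∀ k, (e k).1 ≠ i → co φ k = 0

/-- An element permuting the blocks. -/
def BlockMon (e : ι ≃ Fin t × Fin m) (g : GL ι F) : Prop :=
  ∀ i, ∃ j, ∀ x, InBlock e i x → InBlock e j (mv g x)

theorem inBlock_ev (e : ι ≃ Fin t × Fin m) (k : ι) (c : F) : InBlock e (e k).1 (c • (ev k : ι → F)) :=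
  fun l hl => by
    have : l ≠ k := fun h => hl (by rw [h])
    simp [this]

theorem funIn_pr (e : ι ≃ Fin t × Fin m) (k : ι) : FunIn e (e k).1 (pr k : Module.Dual F (ι → F)) :=
  fun l hl => by
    have : k ≠ l := fun h => hl (by rw [h])
    show (ev l : ι → F) k = 0
    exact Pi.single_eq_of_ne this _

theorem FunIn.apply_eq_zero {e : ι ≃ Fin t × Fin m} {i j : Fin t} {φ : Module.Dual F (ι → F)}
    (hφ : FunIn e i φ) {x : ι → F} (hx : InBlock e j x) (hij : i ≠ j) : φ x = 0 := by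
  rw [dual_apply φ x]
  refine Finset.sum_eq_zero fun k _ => ?_
  by_cases h : (e k).1 = i
  · rw [hx k (h ▸ hij), zero_mul]
  · rw [hφ k h, mul_zero]

theorem BlockMon.mul {e : ι ≃ Fin t × Fin m} {g h : GL ι F} (hg : BlockMon e g) (hh : BlockMon e h) :
    BlockMon e (g * h) := by
  intro i
  obtain ⟨j, hj⟩ := hh i
  obtain ⟨j', hj'⟩ := hg j
  exact ⟨j', fun x hx => by rw [mv_mul]; exact hj' _ (hj x hx)⟩

theorem blockMon_of_isDev {e : ι ≃ Fin t × Fin m} {g : GL ι F} {u : ι → F}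
    {φ : Module.Dual F (ι → F)} {i : Fin t} (hu : InBlock e i u) (hφ : FunIn e i φ) (h : IsDev g u φ) :
    BlockMon e g := by
  intro r
  refine ⟨r, fun x hx k hk => ?_⟩
  rw [h]
  rcases eq_or_ne i r with rfl | hir
  · simp [hx k hk, hu k hk]
  · simp [hφ.apply_eq_zero hx hir, hx k hk]

theorem exists_same_block (hm : 2 ≤ m) (e : ι ≃ Fin t × Fin m) (k : ι) :
    ∃ l, l ≠ k ∧ (e l).1 = (e k).1 := by
  haveI : Nontrivial (Fin m) := Fin.nontrivial_iff_two_le.2 hm
  obtain ⟨s, hs⟩ := exists_ne (e k).2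
  exact ⟨e.symm ((e k).1, s), fun h => hs (by rw [← h]; simp), by simp⟩

theorem exists_elem_block (hm : 2 ≤ m) (e : ι ≃ Fin t × Fin m)
    (hex : 3 ≤ m ∨ 3 ≤ t ∧ ∃ c : F, c ≠ 0 ∧ c ≠ 1) {K : Subgroup (GL ι F)}
    (hM : ∀ g ∈ Geo.specialLinear ι F, BlockMon e g → g ∈ K) (hne : ∃ g ∈ K, ¬ BlockMon e g) :
    ∃ k l, (e k).1 ≠ (e l).1 ∧ ∃ a : F, a ≠ 0 ∧ Has K (a • ev k) (pr l) := by
  classical
  have hblock : ∀ (i : Fin t) (a : ι → F) (β : Module.Dual F (ι → F)), InBlock e i a → FunIn e i β →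
      β a = 0 → Has K a β := fun i a β ha hβ h0 =>
    ⟨tv a β h0, hM _ (tv_mem_specialLinear h0) (blockMon_of_isDev ha hβ (isDev_tv h0)), isDev_tv h0⟩
  have hS : ∀ k l, k ≠ l → (e k).1 = (e l).1 → Has K (ev l : ι → F) (pr k) := fun k l hkl hb =>
    hblock (e k).1 _ _ (by simpa [hb] using inBlock_ev e l (1 : F)) (funIn_pr e k) (by simp [hkl])
  -- a centre inside one block suffices
  have centre : ∀ (j : Fin t) (w : ι → F) (φ : Module.Dual F (ι → F)), Has K w φ → InBlock e j w →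
      w ≠ 0 → (∃ k, (e k).1 ≠ j ∧ co φ k ≠ 0) →
      ∃ k l, (e k).1 ≠ (e l).1 ∧ ∃ a : F, a ≠ 0 ∧ Has K (a • ev k) (pr l) := by
    intro j w φ h hw hw0 ⟨k, hk, hφk⟩
    obtain ⟨l, hlk, hlb⟩ := exists_same_block hm e k
    have hlj : (e l).1 ≠ j := by rw [hlb]; exact hk
    have h1 := h.commutator (hS l k hlk hlb) (by simp [hw l hlj])
    obtain ⟨k2, hk2⟩ := Function.ne_iff.1 hw0
    have hk2j : (e k2).1 = j := by_contra fun hc => hk2 (by simpa using hw k2 hc)
    obtain ⟨k3, hk3, hk3b⟩ := exists_same_block hm e k2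
    have hk3l : k3 ≠ l := fun hc => hlj (by rw [← hc, hk3b, hk2j])
    have h2 := (hS k2 k3 (Ne.symm hk3) hk3b.symm).commutator h1 (by simp [Ne.symm hk3l])
    refine ⟨k3, l, by rw [hk3b, hk2j]; exact Ne.symm hlj, _, ?_, h2⟩
    simp [hw l hlj, hlk, hφk]
    simpa using hk2
  -- an axis inside one block suffices
  have axis : ∀ (u : ι → F) (φ : Module.Dual F (ι → F)) (j : Fin t) (a : ι → F)
      (β : Module.Dual F (ι → F)), Has K u φ → (∃ k, (e k).1 ≠ j ∧ u k ≠ 0) → InBlock e j a →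
      FunIn e j β → β u = 0 → β a = 0 → φ a ≠ 0 → β ≠ 0 →
      ∃ k l, (e k).1 ≠ (e l).1 ∧ ∃ a : F, a ≠ 0 ∧ Has K (a • ev k) (pr l) := by
    intro u φ j a β h ⟨k, hk, huk⟩ ha hβ hβu hβa hφa hβ0
    have h1 := h.commutator (hblock j a β ha hβ hβa) hβu
    obtain ⟨l, hlk, hlb⟩ := exists_same_block hm e k
    have hlj : (e l).1 ≠ j := by rw [hlb]; exact hk
    have h2 := (hS k l (Ne.symm hlk) hlb.symm).commutator h1 (hβ l hlj)
    obtain ⟨l2, hl2⟩ := exists_co_ne_zero hβ0
    have hl2j : (e l2).1 = j := by_contra fun hc => hl2 (hβ l2 hc)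
    obtain ⟨l3, hl3, hl3b⟩ := exists_same_block hm e l2
    have hl3l : l3 ≠ l := fun hc => hlj (by rw [← hc, hl3b, hl2j])
    have h3 := h2.commutator (hS l3 l2 hl3 hl3b) (by simp [hl3l.symm])
    rw [smul_smul] at h3
    refine ⟨l, l3, by rw [hl3b, hl2j]; exact hlj, _, ?_, h3⟩
    simp [hβu, hβa, hφa, huk, hl3, hl2]
  -- a transvection whose centre meets two blocks
  obtain ⟨g, hg, hgb⟩ := hne
  obtain ⟨i, u0, φ0, hu0, hφ0, h00, hφ0ne, hmulti⟩ : ∃ (i : Fin t) (u0 : ι → F)
      (φ0 : Module.Dual F (ι → F)), InBlock e i u0 ∧ FunIn e i φ0 ∧ φ0 u0 = 0 ∧ φ0 ≠ 0 ∧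
      ∀ j, ∃ k, (e k).1 ≠ j ∧ mv g u0 k ≠ 0 := by
    by_contra hcon
    push Not at hcon
    apply hgb
    intro i
    haveI : NeZero m := ⟨by omega⟩
    have hone : ∀ k, (e k).1 = i → ∃ j, InBlock e j (mv g (ev k)) := by
      intro k hk
      obtain ⟨l, hlk, hlb⟩ := exists_same_block hm e k
      obtain ⟨j, hj⟩ := hcon i (ev k) (pr l) (by simpa [hk] using inBlock_ev e k (1 : F))
        (by simpa [hlb, hk] using funIn_pr (F := F) e l) (by simp [hlk])
        (fun h => by simpa using congrArg (fun f : Module.Dual F (ι → F) => f (ev l)) h)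
      exact ⟨j, hj⟩
    obtain ⟨j, hj⟩ := hone (e.symm (i, 0)) (by simp)
    refine ⟨j, fun x hx r hr => ?_⟩
    rw [mv_eq_sum g x, Finset.sum_apply]
    refine Finset.sum_eq_zero fun k _ => ?_
    by_cases hk : (e k).1 = i
    swap
    · simp [hx k hk]
    suffices mv g (ev k) r = 0 by simp [this]
    rcases eq_or_ne k (e.symm (i, 0)) with rfl | hk0
    · exact hj r hr
    obtain ⟨j', hj'⟩ := hone k hk
    suffices j' = j by exact hj' r (this ▸ hr)
    set k0 := e.symm (i, 0)
    have hk0b : (e k0).1 = i := by simp [k0]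
    obtain ⟨j'', hj''⟩ := hcon i (ev k + ev k0) (pr k - pr k0)
      (fun r hr => by
        simp [show r ≠ k from fun h => hr (h ▸ hk), show r ≠ k0 from fun h => hr (h ▸ hk0b)])
      (fun r hr => by
        simp [show k ≠ r from fun h => hr (h ▸ hk), show k0 ≠ r from fun h => hr (h ▸ hk0b)])
      (by simp [hk0, Ne.symm hk0])
      (fun h => by simpa [hk0, Ne.symm hk0] using congrArg (fun f : Module.Dual F (ι → F) => f (ev k)) h)
    by_contra hne'
    obtain ⟨a, ha⟩ := Function.ne_iff.1 (mv_ev_ne_zero g k)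
    obtain ⟨b, hb⟩ := Function.ne_iff.1 (mv_ev_ne_zero g k0)
    have haj : (e a).1 = j' := by_contra fun hc => ha (by simpa using hj' a hc)
    have hbj : (e b).1 = j := by_contra fun hc => hb (by simpa using hj b hc)
    have e1 : mv g (ev k + ev k0) a ≠ 0 := by
      rw [mv_add, Pi.add_apply, hj a (by rw [haj]; exact hne'), add_zero]
      simpa using ha
    have e2 : mv g (ev k + ev k0) b ≠ 0 := by
      rw [mv_add, Pi.add_apply, hj' b (by rw [hbj]; exact Ne.symm hne'), zero_add]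
      simpa using hb
    have c1 : (e a).1 = j'' := by_contra fun hc => e1 (hj'' a hc)
    have c2 : (e b).1 = j'' := by_contra fun hc => e2 (hj'' b hc)
    exact hne' (by rw [← haj, ← hbj, c1, c2])
  set u := mv g u0 with hu
  set φ := φ0.comp (mvLin g⁻¹) with hφdef
  have hcomp : ∀ x, φ (mv g x) = φ0 x := fun x => by
    show φ0 (mvLin g⁻¹ (mv g x)) = φ0 x
    rw [Matrix.toLin'_apply]
    exact congrArg φ0 (mv_inv_mv _ x)
  have hT : Has K u φ := (hblock i u0 φ0 hu0 hφ0 h00).conj hg hcomp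
  have hφu : φ u = 0 := by rw [hu, hcomp, h00]
  have hφne : φ ≠ 0 := fun h => hφ0ne (LinearMap.ext fun x => by rw [← hcomp, h]; simp)
  -- the easy cases
  by_cases c1 : ∃ k, co φ k ≠ 0 ∧ ∀ l, (e l).1 = (e k).1 → u l = 0
  · obtain ⟨k, hk, hk'⟩ := c1
    obtain ⟨l, hlk, hlb⟩ := exists_same_block hm e k
    exact axis u φ (e k).1 (ev k) (pr l) hT (hmulti _) (by simpa using inBlock_ev e k (1 : F))
      (hlb ▸ funIn_pr e l) (by simpa using hk' l hlb) (by simp [hlk])
      hk (fun h => by simpa using congrArg (fun f : Module.Dual F (ι → F) => f (ev l)) h)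
  push Not at c1
  by_cases c2 : ∃ k, u k ≠ 0 ∧ ∀ l, (e l).1 = (e k).1 → co φ l = 0
  · obtain ⟨k, hk, hk'⟩ := c2
    obtain ⟨l, hlk, hlb⟩ := exists_same_block hm e k
    have h1 := (hS k l (Ne.symm hlk) hlb.symm).commutator hT (hk' l hlb)
    obtain ⟨r, hr⟩ := exists_co_ne_zero hφne
    refine centre (e l).1 _ φ h1 (inBlock_ev e l _) ?_ ⟨r, fun hc => hr (hk' r (hc.trans hlb)), hr⟩
    simp [hk, hφu]
  push Not at c2
  let uj : Fin t → ι → F := fun j r => if (e r).1 = j then u r else 0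
  have huj : ∀ j, InBlock e j (uj j) := fun j r hr => by simp [uj, hr]
  by_cases c3 : ∃ j, φ (uj j) ≠ 0
  · obtain ⟨j, hj⟩ := c3
    obtain ⟨k, hk⟩ := Function.ne_iff.1 (show uj j ≠ 0 from fun h => hj (by rw [h, map_zero]))
    have hkj : (e k).1 = j := by_contra fun hc => hk (by simp [uj, hc])
    have huk : u k ≠ 0 := by simpa [uj, hkj] using hk
    obtain ⟨l, hlk, hlb⟩ := exists_same_block hm e k
    refine axis u φ j (uj j) (u l • pr k - u k • pr l) hT (hmulti _) (huj j) (fun r hr => ?_) ?_ ?_ hj ?_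
    · simp [show k ≠ r from fun h => hr (h ▸ hkj), show l ≠ r from fun h => hr (h ▸ hlb.trans hkj)]
    · simp [mul_comm]
    · simp [uj, hkj, hlb, mul_comm]
    · intro h
      have := congrArg (fun f : Module.Dual F (ι → F) => f (ev l)) h
      simp [hlk, Ne.symm hlk] at this
      exact huk this
  push Not at c3
  by_cases h3 : 3 ≤ m
  · obtain ⟨k, hk⟩ := exists_co_ne_zero hφne
    haveI : Nontrivial (Fin m) := Fin.nontrivial_iff_two_le.2 hm
    obtain ⟨s, hs⟩ := exists_ne (e k).2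
    obtain ⟨s', -, hs'⟩ := Finset.exists_mem_notMem_of_card_lt_card
      (show ({(e k).2, s} : Finset (Fin m)).card < (Finset.univ : Finset (Fin m)).card by
        rw [Finset.card_univ, Fintype.card_fin]
        have := Finset.card_le_two (a := (e k).2) (b := s); omega)
    simp only [Finset.mem_insert, Finset.mem_singleton, not_or] at hs'
    set l := e.symm ((e k).1, s)
    set l' := e.symm ((e k).1, s')
    have hl : l ≠ k := fun h => hs (by rw [← h]; simp [l])
    have hl' : l' ≠ k := fun h => hs'.1 (by rw [← h]; simp [l'])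
    have hll : l ≠ l' := fun h => hs'.2 (by simpa [l, l'] using (congrArg (fun r => (e r).2) h).symm)
    have hlb : (e l).1 = (e k).1 := by simp [l]
    have hlb' : (e l').1 = (e k).1 := by simp [l']
    by_cases hul : u l = 0
    · exact axis u φ (e k).1 (ev k) (pr l) hT (hmulti _) (by simpa using inBlock_ev e k (1 : F))
        (hlb ▸ funIn_pr e l) (by simpa using hul) (by simp [hl])
        hk (fun h => by simpa using congrArg (fun f : Module.Dual F (ι → F) => f (ev l)) h)
    · refine axis u φ (e k).1 (ev k) (u l' • pr l - u l • pr l') hT (hmulti _)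
        (by simpa using inBlock_ev e k (1 : F)) (fun r hr => ?_) ?_ ?_ hk ?_
      · simp [show l ≠ r from fun h => hr (h ▸ hlb), show l' ≠ r from fun h => hr (h ▸ hlb')]
      · simp [mul_comm]
      · simp [hl, hl']
      · intro h
        have := congrArg (fun f : Module.Dual F (ι → F) => f (ev l')) h
        simp [hll, Ne.symm hll] at this
        exact hul this
  obtain ⟨ht, c, hc0, hc1⟩ := hex.resolve_left h3
  obtain ⟨kj, hkj⟩ := exists_co_ne_zero hφne
  set j := (e kj).1 with hjdef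
  obtain ⟨kl0, hkl0, hukl0⟩ := hmulti j
  obtain ⟨kl, hklb, hkl⟩ := c2 kl0 hukl0
  have hklj : (e kl).1 ≠ j := by rw [hklb]; exact hkl0
  obtain ⟨i3, -, hi3⟩ := Finset.exists_mem_notMem_of_card_lt_card
    (show ({j, (e kl).1} : Finset (Fin t)).card < (Finset.univ : Finset (Fin t)).card by
      rw [Finset.card_univ, Fintype.card_fin]
      have := Finset.card_le_two (a := j) (b := (e kl).1); omega)
  simp only [Finset.mem_insert, Finset.mem_singleton, not_or] at hi3
  -- the pseudo-reflection in block j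
  let φj : Module.Dual F (ι → F) := ∑ r ∈ Finset.univ.filter (fun r => (e r).1 = j), co φ r • pr r
  have hφj : ∀ x, φj x = φ (fun r => if (e r).1 = j then x r else 0) := fun x => by
    rw [dual_apply φ]
    simp only [φj, Finset.sum_filter, LinearMap.sum_apply]
    refine Finset.sum_congr rfl fun r _ => ?_
    split_ifs <;> simp [mul_comm]
  obtain ⟨l0, hl0b, hul0⟩ : ∃ l0, ((e l0).1 = j ∧ l0 ≠ kj) ∧ u l0 ≠ 0 := by
    by_contra hcon
    push Not at hcon
    have h0 : φ (uj j) = u kj * co φ kj := by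
      rw [dual_apply φ, Finset.sum_eq_single kj (fun r _ hr => ?_) (by simp)]
      · simp [uj, hjdef]
      · by_cases hrb : (e r).1 = j
        · simp [uj, hcon r ⟨hrb, hr⟩]
        · simp [uj, hrb]
    have hukj : u kj = 0 := (mul_eq_zero.1 (h0.symm.trans (c3 j))).resolve_right hkj
    obtain ⟨r, hrb, hur⟩ := c1 kj hkj
    rcases eq_or_ne r kj with rfl | hne'
    · exact hur hukj
    · exact hur (hcon r ⟨hrb, hne'⟩)
  set w : ι → F := (co φ kj)⁻¹ • ev kj with hw
  have hwb : InBlock e j w := inBlock_ev e kj _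
  set ψ : Module.Dual F (ι → F) := (c / u l0) • pr l0 + (c - 1) • φj with hψ
  have hψb : FunIn e j ψ := fun r hr => by
    have h0 : (fun s => if (e s).1 = j then (ev r : ι → F) s else 0) = 0 := funext fun s => by
      by_cases h : (e s).1 = j
      · rw [if_pos h, Pi.zero_apply]
        exact Pi.single_eq_of_ne (fun hsr : s = r => hr (hsr ▸ h)) _
      · rw [if_neg h, Pi.zero_apply]
    show ψ (ev r) = 0
    rw [hψ, LinearMap.add_apply, LinearMap.smul_apply, LinearMap.smul_apply, hφj, h0, map_zero]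
    simp [show l0 ≠ r from fun h => hr (h ▸ hl0b.1)]
  have hψu : ψ u = c := by
    have : φj u = 0 := by rw [hφj]; exact c3 j
    simp [hψ, this, hul0]
  have hψw : ψ w = c - 1 := by
    have h0 : (fun s => if (e s).1 = j then w s else 0) = w := funext fun s => by
      by_cases h : (e s).1 = j
      · rw [if_pos h]
      · rw [if_neg h, hwb s h]
    have : φj w = 1 := by rw [hφj, h0, hw, map_smul, smul_eq_mul, inv_mul_cancel₀ hkj]
    rw [hψ, LinearMap.add_apply, LinearMap.smul_apply, LinearMap.smul_apply, this]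
    simp [hw, hl0b.2]
  have hφw : φ w = 1 := by rw [hw, map_smul, smul_eq_mul, inv_mul_cancel₀ hkj]
  obtain ⟨hj', hdj⟩ := exists_isDev (u := w) (φ := ψ) (by rw [hψw]; simpa using hc0)
  -- the compensation in block i3
  obtain ⟨w3, β, hw3, hβ, hβu, hβw⟩ : ∃ (w3 : ι → F) (β : Module.Dual F (ι → F)),
      InBlock e i3 w3 ∧ FunIn e i3 β ∧ β u = 0 ∧ β w3 = 1 := by
    haveI : NeZero m := ⟨by omega⟩
    set k := e.symm (i3, 0)
    have hk : (e k).1 = i3 := by simp [k]
    obtain ⟨l, hlk, hlb⟩ := exists_same_block hm e k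
    by_cases huk : u k = 0
    · exact ⟨ev k, pr k, by simpa [hk] using inBlock_ev e k (1 : F), hk ▸ funIn_pr e k,
        by simpa using huk, by simp⟩
    · refine ⟨(-(u k))⁻¹ • ev l, u l • pr k - u k • pr l, (hlb.trans hk) ▸ inBlock_ev e l _,
        fun r hr => ?_, by simp [mul_comm], ?_⟩
      · simp [show k ≠ r from fun h => hr (h ▸ hk), show l ≠ r from fun h => hr (h ▸ hlb.trans hk)]
      · simp [hlk, Ne.symm hlk, huk]
  obtain ⟨hi', hdi⟩ := exists_isDev (u := w3) (φ := (c⁻¹ - 1) • β)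
    (by simp [hβw, hc0])
  set H := hj' * hi' with hH
  have hHK : H ∈ K := by
    refine hM H ?_ (BlockMon.mul (blockMon_of_isDev hwb hψb hdj)
      (blockMon_of_isDev hw3 (fun r hr => by simp [hβ r hr]) hdi))
    rw [mem_sl_iff, hH, Units.val_mul, Matrix.det_mul, hdj.det, hdi.det, hψw]
    simp [hβw, hc0]
  have hHu : mv H u = u + c • w := by rw [hH, mv_mul, hdi u, LinearMap.smul_apply, hβu]; simp [hdj u, hψu]
  have hHinv : mv H⁻¹ u = u - w := by
    rw [← mv_inv_mv H (u - w)]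
    congr 1
    rw [hH, mv_mul, hdi (u - w), LinearMap.smul_apply, map_sub, hβu,
      hβ.apply_eq_zero hwb hi3.1, sub_zero, smul_zero, zero_smul, add_zero, hdj (u - w), map_sub,
      hψu, hψw, sub_sub_cancel, one_smul, sub_add_cancel]
  set φ' := φ.comp (mvLin H⁻¹) with hφ'
  have hφ'x : ∀ x, φ' x = φ (mv H⁻¹ x) := fun x => by rw [hφ', LinearMap.comp_apply, Matrix.toLin'_apply]
  have hT' : Has K (mv H u) φ' := hT.conj hHK fun x => by rw [hφ'x, mv_inv_mv]
  obtain ⟨T', hT'K, hT'd⟩ := hT'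
  set φ'' := φ.comp (mvLin T'⁻¹) with hφ''
  have hφ''x : ∀ x, φ'' x = φ (mv T'⁻¹ x) := fun x => by
    rw [hφ'', LinearMap.comp_apply, Matrix.toLin'_apply]
  have hT'' := hT.conj hT'K (φ' := φ'') fun x => by rw [hφ''x, mv_inv_mv]
  have e1 : φ' u = -1 := by rw [hφ'x, hHinv, map_sub, hφu, hφw, zero_sub]
  have e2 : φ' (mv H u) = 0 := by rw [hφ'x, mv_inv_mv, hφu]
  have hu'' : mv T' u = (-c) • w := by
    rw [hT'd u, e1, hHu]; module
  rw [hu''] at hT''
  refine centre j _ φ'' hT'' (fun r hr => by simp [hwb r hr]) ?_ ⟨kl, hklj, ?_⟩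
  · refine smul_ne_zero (neg_ne_zero.2 hc0) (smul_ne_zero (inv_ne_zero hkj) fun h => ?_)
    simpa using congrFun h kj
  · have hfix : mv H⁻¹ (ev kl) = ev kl := by
      have : mv H (ev kl) = ev kl := by
        rw [hH, mv_mul, hdi (ev kl), LinearMap.smul_apply, show β (ev kl) = 0 from hβ kl (Ne.symm hi3.2),
          smul_zero, zero_smul, add_zero, hdj (ev kl), show ψ (ev kl) = 0 from hψb kl hklj, zero_smul,
          add_zero]
      conv_lhs => rw [← this]
      rw [mv_inv_mv]
    have hval : φ' (ev kl) = co φ kl := by rw [hφ'x, hfix]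
    show φ'' (ev kl) ≠ 0
    rw [hφ''x, hT'd.inv (ev kl), LinearMap.smul_apply, hval, e2, map_add, map_smul, hHu, map_add,
      map_smul, hφu, hφw]
    simp only [add_zero, inv_one, smul_eq_mul, zero_add, mul_one]
    intro h
    exact hkl ((mul_eq_zero.1 (show (1 - c) * co φ kl = 0 by linear_combination h)).resolve_left
      (sub_ne_zero.2 (Ne.symm hc1)))

end Cfsg.Agent.Imprim
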