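/-
An overgroup of the monomial group in SL that is not monomial contains a non-monomial element fixing a
coordinate line.
-/
import Mathlib
import Cfsg.Agent.Lib.Imprimitive.Basic
set_option autoImplicit false

namespace Cfsg.Agent.Imprim

open scoped Matrix
open Matrix
open Cfsg.Agent.Transvec

attribute [-simp] Matrix.mulVec_single Matrix.mulVec_single_one

variable {ι : Type} [Fintype ι] [DecidableEq ι] {F : Type*} [Field F]

theorem mv_mp (σ : Equiv.Perm ι) (c : ι → Fˣ) (x : ι → F) :
    mv (mp σ c) x = fun k => (c (σ⁻¹ k) : F) * x (σ⁻¹ k) := by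
  rw [mp, mv_mul, mv_pm, mv_dg]

theorem exists_unit (hq : 5 ≤ Nat.card F) :
    ∃ ε : Fˣ, (ε : F) ≠ 1 ∧ (ε : F) ^ 2 ≠ 1 ∧ (ε : F) ^ 3 ≠ 1 := by
  haveI : Finite F := Nat.finite_of_card_ne_zero (by omega)
  obtain ⟨ε, hε⟩ := IsCyclic.exists_generator (α := Fˣ)
  have ho : orderOf ε = Nat.card F - 1 := by
    rw [orderOf_eq_card_of_forall_mem_zpowers hε, Nat.card_units]
  have key : ∀ k, 0 < k → k < 4 → (ε : F) ^ k ≠ 1 := by
    intro k hk hk4 h
    have h' : ε ^ k = 1 := Units.ext (by simpa using h)
    have := Nat.le_of_dvd hk (orderOf_dvd_of_pow_eq_one h')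
    omega
  exact ⟨ε, by simpa using key 1 (by norm_num) (by norm_num), key 2 (by norm_num) (by norm_num),
    key 3 (by norm_num) (by norm_num)⟩

open scoped Classical in
/-- The coordinates moved by a monomial element. -/
noncomputable def moved (z : GL ι F) : Finset ι := Finset.univ.filter fun i => mv z (ev i) ≠ ev i

theorem mem_moved {z : GL ι F} {i : ι} : i ∈ moved z ↔ mv z (ev i) ≠ ev i := by
  classical
  simp [moved]

theorem sub_apply_of_notMem_moved {z : GL ι F} (hz : Mon z) (x : ι → F) {k : ι} (hk : k ∉ moved z) :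
    (mv z x - x) k = 0 := by
  rw [mem_moved, not_not] at hk
  obtain ⟨σ, c, rfl⟩ := hz.exists_mp
  have h := congrFun hk k
  rw [mv_mp_ev] at h
  have hσ : σ k = k := by
    by_contra hne
    simp [Ne.symm hne] at h
  have hσ' : σ⁻¹ k = k := by
    conv_lhs => rw [← hσ]
    exact Equiv.symm_apply_apply σ k
  have hc : (c k : F) = 1 := by simpa [hσ] using h
  simp [mv_mp, show (Equiv.symm σ) k = k from hσ', hc]

theorem dev_of_ev {z : GL ι F} {W : Submodule F (ι → F)} (h : ∀ k, mv z (ev k) - ev k ∈ W)
    (x : ι → F) : mv z x - x ∈ W := by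
  have : mv z x - x = ∑ k, x k • (mv z (ev k) - ev k) := by
    rw [mv_eq_sum z x]
    conv_lhs => arg 2; rw [show x = ∑ k, x k • (ev k : ι → F) from pi_eq_sum_univ' x]
    simp [smul_sub, Finset.sum_sub_distrib]
  rw [this]
  exact Submodule.sum_mem _ fun k _ => Submodule.smul_mem _ _ (h k)

theorem finrank_span_pair_le (p q : ι → F) :
    Module.finrank F (Submodule.span F ({p, q} : Set (ι → F))) ≤ 2 := by
  classical
  have h := finrank_span_finset_le_card (R := F) ({p, q} : Finset (ι → F))
  rw [Finset.coe_pair] at h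
  exact h.trans Finset.card_le_two

theorem card_le_of_ev_mem {W : Submodule F (ι → F)} (s : Finset ι) (h : ∀ i ∈ s, (ev i : ι → F) ∈ W) :
    s.card ≤ Module.finrank F W := by
  classical
  have hli : LinearIndependent F (fun i : s => (⟨ev i.1, h i.1 i.2⟩ : W)) := by
    refine LinearIndependent.of_comp W.subtype ?_
    have h0 : LinearIndependent F (fun i : ι => (ev i : ι → F)) := by
      have := (Pi.basisFun F ι).linearIndependent
      rwa [show ⇑(Pi.basisFun F ι) = fun i : ι => (ev i : ι → F) from funext fun i => Pi.basisFun_apply F ι i] at this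
    exact h0.comp Subtype.val Subtype.val_injective
  simpa using hli.fintype_card_le_finrank

/-- Three moved coordinates in triangular position. -/
theorem three_le_dev {σ : Equiv.Perm ι} {c : ι → Fˣ} {W : Submodule F (ι → F)}
    (hd : ∀ x, mv (mp σ c) x - x ∈ W) {i1 i2 i3 : ι} (hi1 : i1 ∈ moved (mp σ c))
    (hi2 : i2 ∈ moved (mp σ c)) (hi3 : i3 ∈ moved (mp σ c)) (hi2' : ¬i2 = i1 ∧ ¬i2 = σ i1)
    (hi3' : ¬i3 = i1 ∧ ¬i3 = σ i1 ∧ ¬i3 = i2 ∧ ¬i3 = σ i2) : 2 < Module.finrank F W := by
  classical
  set J := moved (mp σ c)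
  let v : ι → (ι → F) := fun i => mv (mp σ c) (ev i) - ev i
  have hoff : ∀ i k, k ≠ i → k ≠ σ i → v i k = 0 := fun i k h1 h2 => by
    simp [v, mv_mp_ev, h1, h2]
  have hon : ∀ i ∈ J, v i i ≠ 0 := by
    intro i hi
    rw [mem_moved, mv_mp_ev] at hi
    rcases eq_or_ne (σ i) i with h | h
    · simp only [v, mv_mp_ev, h, Pi.sub_apply, Pi.smul_apply, Pi.single_eq_same, smul_eq_mul, mul_one]
      intro h'
      rw [sub_eq_zero] at h'
      exact hi (by rw [h', h, one_smul])
    · simp [v, mv_mp_ev, Ne.symm h]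
  have hli : LinearIndependent F (fun j : Fin 3 => (⟨v (![i1, i2, i3] j), hd _⟩ : W)) := by
    refine LinearIndependent.of_comp W.subtype ?_
    rw [Fintype.linearIndependent_iff]
    intro g hg
    simp only [Function.comp_apply, Submodule.subtype_apply, Fin.sum_univ_three] at hg
    have e3 := congrFun hg i3
    have e2 := congrFun hg i2
    have e1 := congrFun hg i1
    simp only [Pi.add_apply, Pi.smul_apply, smul_eq_mul, Pi.zero_apply, Matrix.cons_val_zero,
      Matrix.cons_val_one, Matrix.cons_val_two, Matrix.head_cons, Matrix.tail_cons,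
      Matrix.cons_val] at e1 e2 e3
    rw [hoff i1 i3 hi3'.1 hi3'.2.1, hoff i2 i3 hi3'.2.2.1 hi3'.2.2.2, mul_zero, mul_zero, zero_add,
      zero_add] at e3
    have g3 : g 2 = 0 := (mul_eq_zero.1 e3).resolve_right (hon i3 hi3)
    rw [hoff i1 i2 hi2'.1 hi2'.2, g3, mul_zero, zero_add, zero_mul, add_zero] at e2
    have g2 : g 1 = 0 := (mul_eq_zero.1 e2).resolve_right (hon i2 hi2)
    rw [g2, g3, zero_mul, zero_mul, add_zero, add_zero] at e1
    have g1 : g 0 = 0 := (mul_eq_zero.1 e1).resolve_right (hon i1 hi1)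
    intro j
    fin_cases j <;> assumption
  have := hli.fintype_card_le_finrank
  simp at this
  omega

/-- A monomial element differing from one by a map of rank at most two moves at most four coordinates. -/
theorem sparse_of_rank_two {z : GL ι F} (hz : Mon z) {W : Submodule F (ι → F)}
    (hW : Module.finrank F W ≤ 2) (hd : ∀ x, mv z x - x ∈ W) :
    ∃ T : Finset ι, T.card ≤ 4 ∧ ∀ x, ∀ k ∉ T, (mv z x - x) k = 0 := by
  classical
  refine ⟨moved z, ?_, fun x k hk => sub_apply_of_notMem_moved hz x hk⟩
  by_contra hc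
  push Not at hc
  obtain ⟨σ, c, rfl⟩ := hz.exists_mp
  set J := moved (mp σ c)
  have pick : ∀ s : Finset ι, s.card ≤ 4 → ∃ i ∈ J, i ∉ s := fun s hs =>
    Finset.exists_mem_notMem_of_card_lt_card (by omega)
  obtain ⟨i1, hi1, -⟩ := pick ∅ (by simp)
  obtain ⟨i2, hi2, hi2'⟩ := pick {i1, σ i1} (Finset.card_le_two.trans (by norm_num))
  obtain ⟨i3, hi3, hi3'⟩ := pick {i1, σ i1, i2, σ i2} Finset.card_le_four
  simp only [Finset.mem_insert, Finset.mem_singleton, not_or] at hi2' hi3'
  exact absurd hW (not_le.2 (three_le_dev hd hi1 hi2 hi3 hi2' hi3'))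

/-- A monomial element of order three differing from one by a map of rank at most two moves at most
three coordinates. -/
theorem sparse_of_order_three {z : GL ι F} (hz : Mon z) (h3 : z * z * z = 1) {W : Submodule F (ι → F)}
    (hW : Module.finrank F W ≤ 2) (hd : ∀ x, mv z x - x ∈ W) :
    ∃ T : Finset ι, T.card ≤ 3 ∧ ∀ x, ∀ k ∉ T, (mv z x - x) k = 0 := by
  classical
  refine ⟨moved z, ?_, fun x k hk => sub_apply_of_notMem_moved hz x hk⟩
  by_contra hc
  push Not at hc
  obtain ⟨σ, c, rfl⟩ := hz.exists_mp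
  set J := moved (mp σ c)
  have hσ3 : ∀ j, σ (σ (σ j)) = j := by
    intro j
    have h := congrArg (fun g : GL ι F => mv g (ev j) (σ (σ (σ j)))) h3
    simp only [mv_mul, mv_mp_ev, mv_smul, mv_one] at h
    by_contra hne
    simp [hne] at h
  have pick : ∀ s : Finset ι, s.card ≤ 3 → ∃ i ∈ J, i ∉ s := fun s hs =>
    Finset.exists_mem_notMem_of_card_lt_card (by omega)
  refine absurd hW (not_le.2 ?_)
  by_cases hfix : ∃ i ∈ J, σ i = i
  · obtain ⟨i1, hi1, h1⟩ := hfix
    obtain ⟨i2, hi2, hi2'⟩ := pick {i1} (by simp)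
    obtain ⟨i3, hi3, hi3'⟩ := pick {i1, i2, σ i2} Finset.card_le_three
    simp only [Finset.mem_insert, Finset.mem_singleton, not_or] at hi2' hi3'
    exact three_le_dev hd hi1 hi2 hi3 ⟨hi2', h1.symm ▸ hi2'⟩
      ⟨hi3'.1, h1.symm ▸ hi3'.1, hi3'.2.1, hi3'.2.2⟩
  push Not at hfix
  obtain ⟨j, hj, -⟩ := pick ∅ (by simp)
  obtain ⟨i2, hi2, hi2'⟩ := pick {j, σ j, σ (σ j)} Finset.card_le_three
  simp only [Finset.mem_insert, Finset.mem_singleton, not_or] at hi2'
  have hm : ∀ i, σ i ≠ i → i ∈ J := fun i hi => by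
    rw [mem_moved, mv_mp_ev]
    intro h
    have := congrFun h i
    simp [Ne.symm hi] at this
  refine three_le_dev hd (hm (σ j) fun h => hfix j hj (σ.injective h)) hi2 hj ⟨hi2'.2.1, hi2'.2.2⟩
    ⟨(hfix j hj).symm, fun h => hfix j hj ?_, Ne.symm hi2'.1, fun h => hi2'.2.2 ?_⟩
  · exact (congrArg σ h).trans (hσ3 j)
  · rw [h, hσ3]

/-- A monomial element acting on a plane with eigenvalues ε, ε⁻¹ and trivially modulo it: the plane is
spanned by at most two coordinate vectors. -/
theorem plane_of_eigen {z : GL ι F} (hz : Mon z) {p q : ι → F} {ε : F} (hε0 : ε ≠ 0) (hε1 : ε ≠ 1)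
    (hε2 : ε ^ 2 ≠ 1) (hε3 : ε ^ 3 ≠ 1) (hp : mv z p = ε • p) (hq : mv z q = ε⁻¹ • q)
    (hd : ∀ x, mv z x - x ∈ Submodule.span F ({p, q} : Set (ι → F))) :
    ∃ T : Finset ι, T.card ≤ 2 ∧ ∀ k ∉ T, p k = 0 ∧ q k = 0 := by
  classical
  set W := Submodule.span F ({p, q} : Set (ι → F))
  refine ⟨moved z, ?_, fun k hk => ?_⟩
  swap
  · have h1 := sub_apply_of_notMem_moved hz p hk
    have h2 := sub_apply_of_notMem_moved hz q hk
    rw [hp] at h1
    rw [hq] at h2
    simp only [Pi.sub_apply, Pi.smul_apply, smul_eq_mul] at h1 h2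
    refine ⟨?_, ?_⟩
    · have : (ε - 1) * p k = 0 := by linear_combination h1
      exact (mul_eq_zero.1 this).resolve_left (sub_ne_zero.2 hε1)
    · have : (ε⁻¹ - 1) * q k = 0 := by linear_combination h2
      exact (mul_eq_zero.1 this).resolve_left (sub_ne_zero.2 (by simpa using hε1))
  refine (card_le_of_ev_mem (moved z) ?_).trans (finrank_span_pair_le p q)
  set s := ε + ε⁻¹
  have hs : s * ε = ε ^ 2 + 1 := by simp [s, add_mul, hε0]; ring
  -- the quadratic relation on the plane
  have hquad : ∀ w ∈ W, mv z (mv z w) - s • mv z w + w = 0 := by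
    intro w hw
    obtain ⟨a, b, rfl⟩ := Submodule.mem_span_pair.1 hw
    simp only [mv_add, mv_smul, hp, hq]
    ext k
    simp only [Pi.add_apply, Pi.sub_apply, Pi.smul_apply, smul_eq_mul, Pi.zero_apply, s]
    field_simp
    ring
  obtain ⟨σ, c, rfl⟩ := hz.exists_mp
  intro i hi
  rw [mem_moved, mv_mp_ev] at hi
  have hw := hd (ev i)
  rw [mv_mp_ev] at hw
  rcases eq_or_ne (σ i) i with hfix | hmove
  · have hc : (c i : F) - 1 ≠ 0 := fun h => hi (by rw [hfix, sub_eq_zero.1 h, one_smul])
    rw [hfix] at hw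
    have : (ev i : ι → F) = ((c i : F) - 1)⁻¹ • ((c i : F) • ev i - ev i) := by
      rw [← one_smul F (ev i : ι → F), smul_smul, ← sub_smul, smul_smul]
      congr 1
      field_simp
    rw [this]
    exact W.smul_mem _ hw
  · have E := hquad _ hw
    simp only [mv_sub, mv_smul, mv_mp_ev, smul_smul] at E
    set j := σ i
    set k := σ j
    set l := σ k
    set a := (c i : F) with ha_def
    set b := (c j : F) with hb_def
    set d := (c k : F) with hd_def
    have ha : a ≠ 0 := Units.ne_zero _
    have hb : b ≠ 0 := Units.ne_zero _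
    have hkj : k ≠ j := fun h => hmove (σ.injective h)
    have ev' : ∀ r : ι, a * b * d * (if r = l then (1 : F) else 0) - (s + 1) * a * b * (if r = k then 1 else 0)
        + (s + 1) * a * (if r = j then 1 else 0) - (if r = i then 1 else 0) = 0 := by
      intro r
      have := congrFun E r
      simp only [Pi.add_apply, Pi.sub_apply, Pi.smul_apply, smul_eq_mul, Pi.zero_apply, Pi.single_apply,
        smul_sub] at this
      linear_combination this
    have hki : k = i := by
      by_contra hki
      have hli : l = i := by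
        by_contra hli
        have := ev' i
        simp [Ne.symm hmove, Ne.symm hki, Ne.symm hli] at this
      have := ev' k
      rw [if_neg (fun h => hki (h.trans hli)), if_pos rfl, if_neg hkj, if_neg hki] at this
      have hs1 : s + 1 = 0 := by
        simp only [mul_zero, mul_one, zero_sub, add_zero, sub_zero, neg_eq_zero] at this
        exact ((mul_eq_zero.1 ((mul_eq_zero.1 this).resolve_right hb)).resolve_right ha)
      apply hε3
      linear_combination (ε - 1) * ε * hs1 - (ε - 1) * hs
    have hlj : l = j := by rw [show l = σ k from rfl, hki]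
    have hda : d = a := by rw [hd_def, hki]
    have e1 := ev' i
    have e2 := ev' j
    simp only [hlj, hki, if_neg (Ne.symm hmove), if_true] at e1
    simp only [hlj, hki, if_neg hmove, if_true, hda] at e2
    have e2' : a * b + (s + 1) = 0 := by
      have : a * (a * b + (s + 1)) = 0 := by linear_combination e2
      exact (mul_eq_zero.1 this).resolve_left ha
    have hss : s * (s + 2) = 0 := by
      linear_combination (s + 1) * e2' + e1
    have hab : a * b ≠ 1 := by
      intro hab
      rcases mul_eq_zero.1 hss with h | h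
      · have h2 : (2 : F) = 0 := by linear_combination e2' - h - hab
        apply hε2
        linear_combination ε * h - hs - h2
      · have h2 : (ε + 1) ^ 2 = 0 := by linear_combination ε * h - hs
        have : ε = -1 := by linear_combination pow_eq_zero_iff two_ne_zero |>.1 h2
        exact hε2 (by rw [this]; ring)
    have hwj := hd (ev j)
    rw [mv_mp_ev] at hwj
    have hki' : σ j = i := hki
    rw [hki'] at hwj
    have : (ev i : ι → F) = (a * b - 1)⁻¹ • ((a • ev j - ev i) + a • (b • ev i - ev j)) := by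
      have h' : (a • (ev j : ι → F) - ev i) + a • (b • ev i - ev j) = (a * b - 1) • ev i := by
        rw [smul_sub, smul_smul, sub_smul, one_smul]; abel
      rw [h', smul_smul, inv_mul_cancel₀ (sub_ne_zero.2 hab), one_smul]
    rw [this]
    exact W.smul_mem _ (W.add_mem hw (W.smul_mem _ hwj))

/-- If no non-monomial element of K maps a coordinate line to a coordinate line, conjugates of monomial
elements fixing a column are monomial. -/
theorem mon_conj_of_fix {K : Subgroup (GL ι F)}
    (hM : ∀ g ∈ Geo.specialLinear ι F, Mon g → g ∈ K)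
    (NX : ∀ z ∈ K, ∀ (m l : ι) (c : F), mv z (ev m) = c • ev l → Mon z) :
    ∀ g ∈ K, ∀ w ∈ Geo.specialLinear ι F, Mon w → ∀ m,
      mv w (mv g (ev m)) = mv g (ev m) → Mon (g⁻¹ * w * g) := by
  intro g hg w hw hwm m hfix
  refine NX _ (K.mul_mem (K.mul_mem (K.inv_mem hg) (hM w hw hwm)) hg) m m 1 ?_
  rw [mv_mul, mv_mul, hfix, mv_inv_mv, one_smul]

theorem image_dev (g w : GL ι F) (v : ι → F) :
    mv (g⁻¹ * w * g) (mv g⁻¹ v) - mv g⁻¹ v = mv g⁻¹ (mv w v - v) := by
  rw [mv_mul, mv_mul, mv_mv_inv, mv_sub]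

theorem dev_conj (g w : GL ι F) (W : Submodule F (ι → F)) (hW : ∀ x, mv w x - x ∈ W) (x : ι → F) :
    mv (g⁻¹ * w * g) x - x ∈ W.map (mvLin g⁻¹) := by
  refine ⟨mv w (mv g x) - mv g x, hW _, ?_⟩
  have h1 := image_dev g w (mv g x)
  rw [mv_inv_mv] at h1
  rw [Matrix.toLin'_apply]
  exact h1.symm

/-- If no non-monomial element of K maps a coordinate line to a coordinate line, every column of a
non-monomial element has at most two zeros. -/
theorem col_zeros (hq : 5 ≤ Nat.card F) {K : Subgroup (GL ι F)}
    (hM : ∀ g ∈ Geo.specialLinear ι F, Mon g → g ∈ K)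
    (NX : ∀ z ∈ K, ∀ (m l : ι) (c : F), mv z (ev m) = c • ev l → Mon z) [DecidableEq F] :
    ∀ g ∈ K, ¬ Mon g → ∀ m, (Finset.univ.filter fun k => mv g (ev m) k = 0).card ≤ 2 := by
    obtain ⟨ε, hε1, hε2, hε3⟩ := exists_unit hq
    have conjMon := mon_conj_of_fix hM NX
    have devConj := dev_conj (ι := ι) (F := F)
    have image := image_dev (ι := ι) (F := F)
    intro g hg hgm m
    by_contra hc
    push Not at hc
    obtain ⟨a, b, c, ha, hb, hc', hab, hac, hbc⟩ := Finset.two_lt_card_iff.1 hc
    simp only [Finset.mem_filter, Finset.mem_univ, true_and] at ha hb hc'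
    have plane : ∀ a b, a ≠ b → mv g (ev m) a = 0 → mv g (ev m) b = 0 → ∃ T : Finset ι,
        T.card ≤ 2 ∧ ∀ k ∉ T, mv g⁻¹ (ev a) k = 0 ∧ mv g⁻¹ (ev b) k = 0 := by
      intro a b hab ha hb
      have hz := conjMon g hg (d2 a b ε) (d2_mem_sl hab ε) (mon_dg _) m (by
        rw [mv_d2 hab, ha, hb]; simp)
      refine plane_of_eigen hz ε.ne_zero hε1 hε2 hε3 ?_ ?_ ?_
      · rw [mv_mul, mv_mul, mv_mv_inv, mv_d2 hab, ← mv_smul]
        congr 1
        ext k
        rcases eq_or_ne k a with rfl | hk <;> simp [*, hab.symm]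
      · rw [mv_mul, mv_mul, mv_mv_inv, mv_d2 hab, ← mv_smul]
        congr 1
        ext k
        rcases eq_or_ne k b with rfl | hk <;> simp [*, hab]
      · intro x
        have h1 := devConj g (d2 a b ε) (Submodule.span F {ev a, ev b}) (fun y => by
          rw [mv_d2 hab, add_sub_cancel_left]
          exact Submodule.mem_span_pair.2 ⟨_, _, rfl⟩) x
        rw [Submodule.map_span, Set.image_pair] at h1
        simp only [Matrix.toLin'_apply] at h1; exact h1
    obtain ⟨T1, hT1, hT1'⟩ := plane a b hab ha hb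
    obtain ⟨T2, hT2, hT2'⟩ := plane a c hac ha hc'
    set S := Finset.univ.filter fun k => mv g⁻¹ (ev a) k ≠ 0 with hS
    have hS1 : S ⊆ T1 := fun k hk => by
      by_contra hk'
      exact (Finset.mem_filter.1 hk).2 (hT1' k hk').1
    have hS2 : S ⊆ T2 := fun k hk => by
      by_contra hk'
      exact (Finset.mem_filter.1 hk).2 (hT2' k hk').1
    have hSpos : 0 < S.card := by
      refine Finset.card_pos.2 ?_
      by_contra he
      rw [Finset.not_nonempty_iff_eq_empty, Finset.filter_eq_empty_iff] at he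
      exact mv_ev_ne_zero g⁻¹ a (funext fun k => by simpa using @he k (Finset.mem_univ k))
    rcases Nat.lt_or_ge S.card 2 with hS' | hS'
    · obtain ⟨l, hl⟩ := Finset.card_eq_one.1 (show S.card = 1 by omega)
      refine hgm ?_
      have := NX g⁻¹ (K.inv_mem hg) a l (mv g⁻¹ (ev a) l) (funext fun k => by
        rcases eq_or_ne k l with rfl | hk
        · simp
        · have : k ∉ S := by simp [hl, hk]
          simp only [hS, Finset.mem_filter, Finset.mem_univ, true_and, not_not] at this
          simp [this, hk])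
      simpa using this.inv
    · have e1 : T1 = S := (Finset.eq_of_subset_of_card_le hS1 (by omega)).symm
      have e2 : T2 = S := (Finset.eq_of_subset_of_card_le hS2 (by omega)).symm
      subst e1
      -- three independent vectors supported on two coordinates
      let W : Submodule F (ι → F) := Submodule.span F ((fun i => (ev i : ι → F)) '' (S : Set ι))
      have hW : Module.finrank F W ≤ 2 := by
        refine le_trans ?_ (show S.card ≤ 2 from hT1)
        rw [show W = Submodule.span F ((S.image fun i => (ev i : ι → F)) : Set (ι → F)) by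
          simp [W]]
        exact (finrank_span_finset_le_card _).trans Finset.card_image_le
      have hmem : ∀ v : ι → F, (∀ k ∉ S, v k = 0) → v ∈ W := fun v hv => by
        rw [show v = ∑ k, v k • (ev k : ι → F) from pi_eq_sum_univ' v]
        refine Submodule.sum_mem _ fun k _ => ?_
        by_cases hk : k ∈ S
        · exact Submodule.smul_mem _ _ (Submodule.subset_span ⟨k, hk, rfl⟩)
        · simp [hv k hk]
      have h3 : ({a, b, c} : Finset ι).card ≤ Module.finrank F (W.map (mvLin g)) := by
        refine card_le_of_ev_mem _ fun i hi => ⟨mv g⁻¹ (ev i), hmem _ fun k hk => ?_, by simp [mv_mv_inv]⟩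
        simp only [Finset.mem_insert, Finset.mem_singleton] at hi
        rcases hi with rfl | rfl | rfl
        · exact (hT1' k hk).1
        · exact (hT1' k hk).2
        · exact (hT2' k (e2 ▸ hk)).2
      have := Submodule.finrank_map_le (mvLin g) W
      rw [Finset.card_eq_three.2 ⟨a, b, c, hab, hac, hbc, rfl⟩] at h3
      omega

/-- An overgroup in SL of the monomial subgroup, if not monomial, has a non-monomial element mapping some
coordinate line to a coordinate line. -/
theorem exists_line (hn : 10 ≤ Fintype.card ι) (hq : 5 ≤ Nat.card F) {K : Subgroup (GL ι F)}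
    (hK : K ≤ Geo.specialLinear ι F) (hM : ∀ g ∈ Geo.specialLinear ι F, Mon g → g ∈ K)
    (hne : ∃ g ∈ K, ¬ Mon g) : ∃ z ∈ K, ¬ Mon z ∧ ∃ (m : ι) (c : F), mv z (ev m) = c • ev m := by
  classical
  obtain ⟨ε, hε1, hε2, hε3⟩ := exists_unit hq
  by_contra hcon
  push Not at hcon
  -- no non-monomial element maps a coordinate line to a coordinate line
  have NX : ∀ z ∈ K, ∀ (m l : ι) (c : F), mv z (ev m) = c • ev l → Mon z := by
    intro z hz m l c h
    by_contra hz'
    obtain ⟨d, hd, -⟩ := exists_mp_mem_sl (F := F) (Equiv.swap l m) l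
    have hπ := hM _ hd (mon_mp _ d)
    refine hcon _ (K.mul_mem hπ hz) (fun h' => hz' ((mon_mp _ d).of_mul_left h')) m (c * (d l : F)) ?_
    rw [mv_mul, h, mv_smul, mv_mp_ev, smul_smul, Equiv.swap_apply_left]
  obtain ⟨g, hgK, hg⟩ := hne
  set h := g⁻¹ with hh
  have hhK : h ∈ K := K.inv_mem hgK
  have hhm : ¬ Mon h := fun e => hg (by simpa [hh] using e.inv)
  -- the conjugate of an element of the monomial group fixing a column is monomial
  have conjMon : ∀ g ∈ K, ∀ w ∈ Geo.specialLinear ι F, Mon w → ∀ m,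
      mv w (mv g (ev m)) = mv g (ev m) → Mon (g⁻¹ * w * g) := by
    intro g hg w hw hwm m hfix
    refine NX _ (K.mul_mem (K.mul_mem (K.inv_mem hg) (hM w hw hwm)) hg) m m 1 ?_
    rw [mv_mul, mv_mul, hfix, mv_inv_mv, one_smul]
  have image : ∀ (g w : GL ι F) (v : ι → F), mv (g⁻¹ * w * g) (mv g⁻¹ v) - mv g⁻¹ v = mv g⁻¹ (mv w v - v) :=
    fun g w v => by rw [mv_mul, mv_mul, mv_mv_inv, mv_sub]
  have devConj : ∀ (g w : GL ι F) (W : Submodule F (ι → F)), (∀ x, mv w x - x ∈ W) →
      ∀ x, mv (g⁻¹ * w * g) x - x ∈ W.map (mvLin g⁻¹) := by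
    intro g w W hW x
    refine ⟨mv w (mv g x) - mv g x, hW _, ?_⟩
    have h1 := image g w (mv g x)
    rw [mv_inv_mv] at h1
    rw [Matrix.toLin'_apply]
    exact h1.symm
  -- every column of a non-monomial element has at most two zeros
  have hA := col_zeros hq hM NX
  -- columns of the inverse are dense
  have hdense : ∀ (a : ι) (T : Finset ι), T.card ≤ 7 → ∀ g ∈ K, ¬ Mon g →
      ¬ ∀ k ∉ T, mv g (ev a) k = 0 := by
    intro a T hT g hg hgm hall
    have h1 := hA g hg hgm a
    have h2 : Tᶜ.card ≤ 2 := le_trans (Finset.card_le_card fun k hk =>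
      Finset.mem_filter.2 ⟨Finset.mem_univ k, hall k (Finset.mem_compl.1 hk)⟩) h1
    rw [Finset.card_compl] at h2
    omega
  have hzeros : ∀ m, 8 ≤ (Finset.univ.filter fun k => mv g (ev m) k ≠ 0).card := by
    intro m
    have := hA g hgK hg m
    have h2 := Finset.card_filter_add_card_filter_not (s := (Finset.univ : Finset ι))
      (fun k => mv g (ev m) k = 0)
    rw [Finset.card_univ] at h2
    simp only [ne_eq]
    omega
  have pickOne : ∀ (m : ι) (s : Finset ι), s.card ≤ 6 → ∃ a, mv g (ev m) a ≠ 0 ∧ a ∉ s := by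
    intro m s hs
    obtain ⟨a, ha, ha'⟩ := Finset.exists_mem_notMem_of_card_lt_card
      (show s.card < (Finset.univ.filter fun k => mv g (ev m) k ≠ 0).card by have := hzeros m; omega)
    exact ⟨a, (Finset.mem_filter.1 ha).2, ha'⟩
  -- differences map to sparse vectors
  have hdiff : ∀ m a b, a ≠ b → mv g (ev m) a ≠ 0 → mv g (ev m) b ≠ 0 → ∃ T : Finset ι,
      T.card ≤ 3 ∧ ∀ k ∉ T, mv h (mv g (ev m) b • ev b - mv g (ev m) a • ev a) k = 0 := by
    intro m a b hab ha hb
    obtain ⟨c, hc, hc'⟩ := pickOne m {a, b} (Finset.card_le_two.trans (by norm_num))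
    simp only [Finset.mem_insert, Finset.mem_singleton, not_or] at hc'
    obtain ⟨hca, hcb⟩ := hc'
    set x := mv g (ev m) with hx
    let σ : Equiv.Perm ι := Equiv.swap a b * Equiv.swap b c
    have sa : σ a = b := by simp [σ, Equiv.swap_apply_of_ne_of_ne hab (Ne.symm hca)]
    have sb : σ b = c := by simp [σ, Equiv.swap_apply_of_ne_of_ne hca hcb]
    have sc : σ c = a := by simp [σ]
    have so : ∀ k, k ≠ a → k ≠ b → k ≠ c → σ k = k := fun k h1 h2 h3 => by
      simp [σ, Equiv.swap_apply_of_ne_of_ne h2 h3, Equiv.swap_apply_of_ne_of_ne h1 h2]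
    let cc : ι → Fˣ := Function.update (Function.update (Function.update 1
      a (Units.mk0 (x b / x a) (div_ne_zero hb ha))) b (Units.mk0 (x c / x b) (div_ne_zero hc hb)))
      c (Units.mk0 (x a / x c) (div_ne_zero ha hc))
    have ca : (cc a : F) = x b / x a := by simp [cc, hab, Ne.symm hca]
    have cb : (cc b : F) = x c / x b := by simp [cc, Ne.symm hcb]
    have c_c : (cc c : F) = x a / x c := by simp [cc]
    have co : ∀ k, k ≠ a → k ≠ b → k ≠ c → (cc k : F) = 1 := fun k h1 h2 h3 => by simp [cc, h1, h2, h3]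
    have hsl : mp σ cc ∈ Geo.specialLinear ι F := by
      rw [mem_sl_iff, det_mp]
      have hs : Equiv.Perm.sign σ = 1 := by
        rw [map_mul, Equiv.Perm.sign_swap hab, Equiv.Perm.sign_swap (Ne.symm hcb)]; rfl
      rw [hs, ← Finset.prod_subset (Finset.subset_univ {a, b, c}) fun k _ hk => by
        simp only [Finset.mem_insert, Finset.mem_singleton, not_or] at hk
        exact co k hk.1 hk.2.1 hk.2.2]
      rw [Finset.prod_insert (by simp [hab, Ne.symm hca]), Finset.prod_pair (Ne.symm hcb), ca, cb, c_c]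
      simp
      field_simp
    let W : Submodule F (ι → F) := Submodule.span F {x b • ev b - x a • ev a, x c • ev c - x b • ev b}
    have hv1 : mv (mp σ cc) (x a • ev a) - x a • ev a = x b • ev b - x a • ev a := by
      rw [mv_smul, mv_mp_ev, sa, ca, smul_smul, mul_div_cancel₀ _ ha]
    have hdev : ∀ y, mv (mp σ cc) y - y ∈ W := by
      refine dev_of_ev fun k => ?_
      rw [mv_mp_ev]
      by_cases h1 : k = a
      · subst h1
        refine Submodule.mem_span_pair.2 ⟨(x k)⁻¹, 0, ?_⟩
        rw [sa, ca, zero_smul, add_zero, smul_sub, smul_smul, smul_smul, inv_mul_cancel₀ ha, one_smul,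
          inv_mul_eq_div]
      by_cases h2 : k = b
      · subst h2
        refine Submodule.mem_span_pair.2 ⟨0, (x k)⁻¹, ?_⟩
        rw [sb, cb, zero_smul, zero_add, smul_sub, smul_smul, smul_smul, inv_mul_cancel₀ hb, one_smul,
          inv_mul_eq_div]
      by_cases h3 : k = c
      · subst h3
        refine Submodule.mem_span_pair.2 ⟨-(x k)⁻¹, -(x k)⁻¹, ?_⟩
        rw [sc, c_c, ← smul_add, show x b • (ev b : ι → F) - x a • ev a + (x k • ev k - x b • ev b) =
          x k • ev k - x a • ev a by abel, smul_sub, smul_smul, smul_smul, neg_mul, inv_mul_cancel₀ hc,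
          neg_mul, inv_mul_eq_div, neg_smul, one_smul, neg_smul]
        abel
      · rw [so k h1 h2 h3, co k h1 h2 h3, one_smul, sub_self]
        exact W.zero_mem
    have hfix : mv (mp σ cc) x = x := by
      funext k
      rw [mv_mp]
      obtain ⟨l, rfl⟩ := σ.surjective k
      simp only [show σ⁻¹ (σ l) = l from σ.symm_apply_apply l]
      by_cases h1 : l = a
      · subst h1; rw [sa, ca, div_mul_cancel₀ _ ha]
      by_cases h2 : l = b
      · subst h2; rw [sb, cb, div_mul_cancel₀ _ hb]
      by_cases h3 : l = c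
      · subst h3; rw [sc, c_c, div_mul_cancel₀ _ hc]
      · rw [so l h1 h2 h3, co l h1 h2 h3, one_mul]
    have hz := conjMon g hgK _ hsl (mon_mp σ cc) m hfix
    have hw3 : mp σ cc * mp σ cc * mp σ cc = (1 : GL ι F) := by
      refine ext_ev fun k => ?_
      rw [mv_mul, mv_mul, mv_mp_ev, mv_smul, mv_mp_ev, mv_smul, mv_smul, mv_mp_ev, smul_smul,
        smul_smul, mv_one]
      by_cases h1 : k = a
      · subst h1; rw [sa, sb, sc, ca, cb, c_c]; convert one_smul F (ev k : ι → F) using 2; field_simp
      by_cases h2 : k = b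
      · subst h2; rw [sb, sc, sa, ca, cb, c_c]; convert one_smul F (ev k : ι → F) using 2; field_simp
      by_cases h3 : k = c
      · subst h3; rw [sc, sa, sb, ca, cb, c_c]; convert one_smul F (ev k : ι → F) using 2; field_simp
      · rw [so k h1 h2 h3, so k h1 h2 h3, so k h1 h2 h3, co k h1 h2 h3]; simp
    obtain ⟨T, hT, hT'⟩ := sparse_of_order_three hz (by
        rw [show g⁻¹ * mp σ cc * g * (g⁻¹ * mp σ cc * g) * (g⁻¹ * mp σ cc * g) =
          g⁻¹ * (mp σ cc * mp σ cc * mp σ cc) * g by group, hw3, mul_one, inv_mul_cancel])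
      (le_trans (Submodule.finrank_map_le _ W) (finrank_span_pair_le _ _)) (devConj g _ W hdev)
    refine ⟨T, hT, fun k hk => ?_⟩
    have := hT' (mv g⁻¹ (x a • ev a)) k hk
    rwa [image, hv1] at this
  -- two columns are proportional on their common support
  have hratio : ∀ m m' a b, mv g (ev m) a ≠ 0 → mv g (ev m) b ≠ 0 → mv g (ev m') a ≠ 0 →
      mv g (ev m') b ≠ 0 → mv g (ev m') a * mv g (ev m) b = mv g (ev m) a * mv g (ev m') b := by
    intro m m' a b h1 h2 h3 h4
    rcases eq_or_ne a b with rfl | hab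
    · ring
    by_contra hne'
    obtain ⟨T, hT, hT'⟩ := hdiff m a b hab h1 h2
    obtain ⟨T2, hT2, hT2'⟩ := hdiff m' a b hab h3 h4
    set x := mv g (ev m)
    set y := mv g (ev m')
    refine hdense b (T ∪ T2) ((Finset.card_union_le _ _).trans (by omega)) h hhK hhm fun k hk => ?_
    rw [Finset.mem_union, not_or] at hk
    have e : (y a * x b - x a * y b) • (ev b : ι → F) =
        y a • (x b • ev b - x a • ev a) - x a • (y b • ev b - y a • ev a) := by
      simp only [smul_sub, smul_smul, sub_smul, mul_comm (y a) (x a)]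
      abel
    have := congrArg (fun v => mv h v k) e
    simp only [mv_sub, mv_smul, Pi.sub_apply, Pi.smul_apply, smul_eq_mul] at this
    have h5 := hT' k hk.1
    have h6 := hT2' k hk.2
    simp only [mv_sub, mv_smul, Pi.sub_apply, Pi.smul_apply, smul_eq_mul] at h5 h6
    rw [h5, h6, mul_zero, mul_zero, sub_zero] at this
    exact (mul_eq_zero.1 this).resolve_left (sub_ne_zero.2 hne')
  haveI : Nontrivial ι := Fintype.one_lt_card_iff_nontrivial.1 (by omega)
  by_cases h2 : (2 : F) = 0
  · -- characteristic two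
    obtain ⟨m⟩ : Nonempty ι := inferInstance
    obtain ⟨a, ha, -⟩ := pickOne m ∅ (by simp)
    obtain ⟨b, hb, hb'⟩ := pickOne m {a} (by simp)
    obtain ⟨c, hc, hc'⟩ := pickOne m {a, b} (Finset.card_le_two.trans (by norm_num))
    obtain ⟨d, hd, hd'⟩ := pickOne m {a, b, c} (Finset.card_le_three.trans (by norm_num))
    obtain ⟨e, he, he'⟩ := pickOne m {a, b, c, d} (Finset.card_le_four.trans (by norm_num))
    simp only [Finset.mem_insert, Finset.mem_singleton, not_or] at hb' hc' hd' he'
    set x := mv g (ev m) with hx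
    set t : GL ι F := d2 a b ε * d2 c d ε with ht
    have hab : a ≠ b := Ne.symm hb'
    have hcd : c ≠ d := Ne.symm hd'.2.2
    have htK : t ∈ K := K.mul_mem (hM _ (d2_mem_sl hab ε) (mon_dg _)) (hM _ (d2_mem_sl hcd ε) (mon_dg _))
    have htx : mv t x = x + (((ε : F) - 1) • (x c • ev c - x a • ev a)
        + (((ε : F)⁻¹ - 1) • (x d • ev d - x b • ev b))) := by
      have hneg : ∀ y : F, -y = y := fun y => by linear_combination (-y) * h2
      rw [ht, mv_mul, mv_d2 hcd, mv_d2 hab]
      ext k
      simp only [Pi.add_apply, Pi.sub_apply, Pi.smul_apply, smul_eq_mul, Pi.single_apply]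
      simp only [Ne.symm hc'.1, Ne.symm hd'.1, Ne.symm hc'.2, Ne.symm hd'.2.1, if_false, mul_zero,
        add_zero]
      linear_combination (((ε : F) - 1) * (x a * (if k = a then (1:F) else 0)) +
        ((ε : F)⁻¹ - 1) * (x b * (if k = b then (1:F) else 0))) * h2
    set z := h * t * g with hz
    have hzK : z ∈ K := K.mul_mem (K.mul_mem hhK htK) hgK
    by_cases hzm : Mon z
    · obtain ⟨l, μ, hl⟩ := hzm m
      have hl' : mv t x = μ • mv g (ev l) := by
        have := congrArg (mv g) hl
        rwa [hz, mv_mul, mv_mul, mv_mv_inv, mv_smul] at this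
      have hta : mv t x a = (ε : F) * x a := by
        rw [ht, mv_mul, mv_d2 hcd, mv_d2 hab]
        simp [hab, Ne.symm hc'.1, Ne.symm hd'.1]
        ring
      have hte : mv t x e = x e := by
        rw [ht, mv_mul, mv_d2 hcd, mv_d2 hab]
        simp [he'.1, he'.2.1, he'.2.2.1, he'.2.2.2]
      have hea := congrFun hl' a
      have hee := congrFun hl' e
      rw [hta] at hea
      rw [hte] at hee
      simp only [Pi.smul_apply, smul_eq_mul] at hea hee
      have hμ : μ ≠ 0 := fun e0 => he (by rw [hee, e0, zero_mul])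
      have := hratio m l a e ha he
        (fun e0 => mul_ne_zero ε.ne_zero ha (by rw [hea, e0, mul_zero]))
        (fun e0 => he (by rw [hee, e0, mul_zero]))
      have h7 : ((ε : F) - 1) * (x a * x e) = 0 := by
        linear_combination x e * hea + μ * this - x a * hee
      exact mul_ne_zero (sub_ne_zero.2 hε1) (mul_ne_zero ha he) h7
    · obtain ⟨T, hT, hT'⟩ := hdiff m a c (Ne.symm hc'.1) ha hc
      obtain ⟨T2, hT2, hT2'⟩ := hdiff m b d (Ne.symm hd'.2.1) hb hd
      refine hdense m (insert m (T ∪ T2)) ?_ z hzK hzm fun k hk => ?_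
      · have := Finset.card_union_le T T2
        have := Finset.card_insert_le m (T ∪ T2)
        omega
      · rw [Finset.mem_insert, Finset.mem_union, not_or, not_or] at hk
        rw [hz, mv_mul, mv_mul, ← hx, htx, mv_add, mv_add, mv_smul, mv_smul, hx, mv_inv_mv]
        simp [hk.1, hT' k hk.2.1, hT2' k hk.2.2]
  · -- odd characteristic: all columns are full
    have hfull : ∀ m o, mv g (ev m) o ≠ 0 := by
      intro m o ho
      obtain ⟨a, ha, -⟩ := pickOne m ∅ (by simp)
      obtain ⟨b, hb, hb'⟩ := pickOne m {a} (by simp)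
      rw [Finset.mem_singleton] at hb'
      have hao : a ≠ o := fun e => ha (e ▸ ho)
      have hbo : b ≠ o := fun e => hb (e ▸ ho)
      set x := mv g (ev m)
      let σ : Equiv.Perm ι := Equiv.swap a b
      let cc : ι → Fˣ := Function.update (Function.update (Function.update 1
        a (Units.mk0 (x b / x a) (div_ne_zero hb ha))) b (Units.mk0 (x a / x b) (div_ne_zero ha hb))) o (-1)
      have ca : (cc a : F) = x b / x a := by simp [cc, hao, Ne.symm hb']
      have cb : (cc b : F) = x a / x b := by simp [cc, hbo]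
      have c_o : (cc o : F) = -1 := by simp [cc]
      have co : ∀ k, k ≠ a → k ≠ b → k ≠ o → (cc k : F) = 1 := fun k h1 h2 h3 => by simp [cc, h1, h2, h3]
      have hsl : mp σ cc ∈ Geo.specialLinear ι F := by
        rw [mem_sl_iff, det_mp, Equiv.Perm.sign_swap (Ne.symm hb'),
          ← Finset.prod_subset (Finset.subset_univ {a, b, o}) fun k _ hk => by
          simp only [Finset.mem_insert, Finset.mem_singleton, not_or] at hk
          exact co k hk.1 hk.2.1 hk.2.2]
        rw [Finset.prod_insert (by simp [Ne.symm hb', hao]), Finset.prod_pair hbo, ca, cb, c_o]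
        simp
        field_simp
      let W : Submodule F (ι → F) := Submodule.span F {x b • ev b - x a • ev a, ev o}
      have hdev : ∀ y, mv (mp σ cc) y - y ∈ W := by
        refine dev_of_ev fun k => ?_
        rw [mv_mp_ev]
        by_cases h1 : k = a
        · subst h1
          refine Submodule.mem_span_pair.2 ⟨(x k)⁻¹, 0, ?_⟩
          rw [ca, Equiv.swap_apply_left, zero_smul, add_zero, smul_sub, smul_smul, smul_smul,
            inv_mul_cancel₀ ha, one_smul, inv_mul_eq_div]
        by_cases h2 : k = b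
        · subst h2
          refine Submodule.mem_span_pair.2 ⟨-(x k)⁻¹, 0, ?_⟩
          rw [cb, Equiv.swap_apply_right, zero_smul, add_zero, smul_sub, smul_smul, smul_smul,
            neg_mul, inv_mul_cancel₀ hb, neg_mul, inv_mul_eq_div, neg_smul, one_smul, neg_smul]
          abel
        by_cases h3 : k = o
        · subst h3
          refine Submodule.mem_span_pair.2 ⟨0, -2, ?_⟩
          rw [c_o, Equiv.swap_apply_of_ne_of_ne h1 h2, zero_smul, zero_add]
          module
        · rw [Equiv.swap_apply_of_ne_of_ne h1 h2, co k h1 h2 h3, one_smul, sub_self]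
          exact W.zero_mem
      have hfix : mv (mp σ cc) x = x := by
        funext k
        rw [mv_mp]
        obtain ⟨l, rfl⟩ := σ.surjective k
        simp only [show σ⁻¹ (σ l) = l from σ.symm_apply_apply l]
        by_cases h1 : l = a
        · subst h1; rw [ca, div_mul_cancel₀ _ ha, Equiv.swap_apply_left]
        by_cases h2 : l = b
        · subst h2; rw [cb, div_mul_cancel₀ _ hb, Equiv.swap_apply_right]
        rw [show σ l = l from Equiv.swap_apply_of_ne_of_ne h1 h2]
        by_cases h3 : l = o
        · subst h3; rw [ho, mul_zero]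
        · rw [co l h1 h2 h3, one_mul]
      have hz := conjMon g hgK _ hsl (mon_mp σ cc) m hfix
      obtain ⟨T, hT, hT'⟩ := sparse_of_rank_two hz
        (le_trans (Submodule.finrank_map_le _ W) (finrank_span_pair_le _ _)) (devConj g _ W hdev)
      refine hdense o T (by omega) h hhK hhm fun k hk => ?_
      have := hT' (mv g⁻¹ (ev o)) k hk
      rw [image, mv_mp_ev, show σ o = o from Equiv.swap_apply_of_ne_of_ne (Ne.symm hao) (Ne.symm hbo),
        c_o, mv_sub, mv_smul] at this
      have h8 : (2 : F) * mv g⁻¹ (ev o) k = 0 := by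
        simp only [Pi.sub_apply, Pi.smul_apply, smul_eq_mul] at this
        linear_combination -this
      exact (mul_eq_zero.1 h8).resolve_left h2
    obtain ⟨m, m', hmm⟩ := exists_pair_ne ι
    set x := mv g (ev m) with hx
    set y := mv g (ev m') with hy
    have hcomb : mv g (y m • ev m - x m • ev m') = 0 := by
      funext k
      rw [mv_sub, mv_smul, mv_smul, ← hx, ← hy]
      simp only [Pi.sub_apply, Pi.smul_apply, smul_eq_mul, Pi.zero_apply]
      have := hratio m m' m k (hfull _ _) (hfull _ _) (hfull _ _) (hfull _ _)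
      linear_combination this
    have := congrFun (mv_inj g (hcomb.trans (mv_zero g).symm)) m
    simp [hmm] at this
    exact hfull m' m this

end Cfsg.Agent.Imprim
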