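/-
A subgroup of GL containing all monomial matrices and something else contains an elementary transvection;
lifting this from the stabiliser of a coordinate line.
-/
import Mathlib
import Cfsg.Agent.Lib.Imprimitive.Basic
import Cfsg.Agent.Lib.Imprimitive.Monomial
set_option autoImplicit false

namespace Cfsg.Agent.Imprim

open scoped Matrix
open Matrix
open Cfsg.Agent.Transvec

attribute [-simp] Matrix.mulVec_single Matrix.mulVec_single_one

section Gen

variable {κ : Type} [Fintype κ] [DecidableEq κ] {F : Type*} [Field F]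

/-- The conclusion: an elementary transvection. -/
def HasElem (H : Subgroup (GL κ F)) : Prop :=
  ∃ k l : κ, k ≠ l ∧ ∃ a : F, a ≠ 0 ∧ Has H (a • ev k) (pr l)

theorem co_comp_pm (π : Equiv.Perm κ) (φ : Module.Dual F (κ → F)) (k : κ) :
    co (φ.comp (mvLin (pm π : GL κ F)⁻¹)) (π k) = co φ k := by
  show φ (mvLin (pm π : GL κ F)⁻¹ (ev (π k))) = _
  rw [Matrix.toLin'_apply, ← mv_pm_ev (F := F) π k]
  exact congrArg φ (mv_inv_mv _ _)

theorem exists_elem (hn : 5 ≤ Fintype.card κ) (hq : 5 ≤ Nat.card F) {H : Subgroup (GL κ F)}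
    (hH : ∀ g, Mon g → g ∈ H) (hne : ∃ A ∈ H, ¬ Mon A) : HasElem H := by
  classical
  obtain ⟨ε, hε1, hε2, -⟩ := exists_unit hq
  have hc : (ε : F) - 1 ≠ 0 := sub_ne_zero.2 hε1
  have hdk : ∀ k, ∀ η : Fˣ, Has H (((η : F) - 1) • ev k) (pr k) :=
    fun k η => ⟨dk k η, hH _ (mon_dg _), isDev_dk k η⟩
  -- one-way orthogonality gives an elementary transvection
  have oneway1 : ∀ u φ k, Has H u φ → u k = 0 → co φ k ≠ 0 → u ≠ 0 → HasElem H := by
    intro u φ k h hk hφ hu
    obtain ⟨j, hj⟩ := Function.ne_iff.1 hu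
    have hjk : j ≠ k := fun e => hj (e ▸ hk)
    have hT := h.commutator (hdk k ε) (by simpa using hk)
    have hT' := (hdk j ε).commutator hT (by simp [hjk.symm])
    rw [smul_smul] at hT'
    refine ⟨j, k, hjk, _, ?_, hT'⟩
    simp [hk, hc, hφ]
    simpa using hj
  have oneway2 : ∀ u φ k, Has H u φ → u k ≠ 0 → co φ k = 0 → φ ≠ 0 → HasElem H := by
    intro u φ k h hk hφ hne0
    obtain ⟨l, hl⟩ := exists_co_ne_zero hne0
    have hkl : k ≠ l := fun e => hl (e ▸ hφ)
    have hT := (hdk k ε).commutator h (by simp [hφ])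
    have h1 : 1 + φ u ≠ 0 := let ⟨g, _, hg⟩ := h; hg.one_add_ne
    have hT' := hT.commutator (hdk l ε) (by simp [hkl.symm])
    rw [smul_smul, smul_smul] at hT'
    refine ⟨k, l, hkl, _, ?_, hT'⟩
    simp [hφ, hc, hl, hk, h1]
  by_contra hno
  let PR : (κ → F) → Module.Dual F (κ → F) → Prop := fun u φ =>
    φ u = 1 ∧ ∀ η : Fˣ, Has H (((η : F) - 1) • u) φ
  -- supports of the two vectors of a pseudo-reflection agree
  have hsupp : ∀ u φ, PR u φ → ∀ k, (u k ≠ 0 ↔ co φ k ≠ 0) := by
    intro u φ h k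
    have hu : ((ε : F) - 1) • u ≠ 0 := by
      refine smul_ne_zero hc fun e => ?_
      have := h.1
      simp [e] at this
    have hφ : φ ≠ 0 := fun e => by have := h.1; simp [e] at this
    constructor
    · intro hk hφk
      exact hno (oneway2 _ φ k (h.2 ε) (by simp [hk, hc]) hφk hφ)
    · intro hφk hk
      exact hno (oneway1 _ φ k (h.2 ε) (by simp [hk]) hφk hu)
  -- growing the support
  have grow : ∀ u φ, PR u φ → ∀ A : Finset κ, (∀ k, k ∈ A ↔ u k ≠ 0) → 2 ≤ A.card →
      2 * A.card - 1 ≤ Fintype.card κ →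
      ∃ (u' : κ → F) (φ' : Module.Dual F (κ → F)) (A' : Finset κ), PR u' φ' ∧
        (∀ k, k ∈ A' ↔ u' k ≠ 0) ∧ 2 * A.card - 1 ≤ A'.card := by
    intro u φ h A hA h2 hle
    obtain ⟨k0, hk0⟩ : A.Nonempty := Finset.card_pos.1 (by omega)
    obtain ⟨B, hB, hBc⟩ := Finset.exists_subset_card_eq
      (show A.card - 1 ≤ Aᶜ.card by rw [Finset.card_compl]; omega)
    have hBA : ∀ b ∈ B, b ∉ A := fun b hb => Finset.mem_compl.1 (hB hb)
    have hk0B : k0 ∉ B := fun hb => hBA k0 hb hk0
    set A1 := insert k0 B with hA1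
    have hA1c : A.card = A1.card := by rw [hA1, Finset.card_insert_of_notMem hk0B, hBc]; omega
    let π : Equiv.Perm κ := (Finset.equivOfCardEq hA1c).extendSubtype
    have hπ : ∀ k, π k ∈ A1 ↔ k ∈ A := by
      intro k
      by_cases hk : k ∈ A
      · exact iff_of_true (Equiv.extendSubtype_mem _ k hk) hk
      · exact iff_of_false (Equiv.extendSubtype_not_mem _ k hk) hk
    set φ1 := φ.comp (mvLin (pm π : GL κ F)⁻¹) with hφ1
    set u1 := mv (pm π : GL κ F) u with hu1
    have hu1k : ∀ k, u1 (π k) = u k := fun k => by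
      rw [hu1, mv_pm]
      exact congrArg u (π.symm_apply_apply k)
    have hφ1k : ∀ k, co φ1 (π k) = co φ k := co_comp_pm π φ
    have hs := hsupp u φ h
    have hsu : ∀ k, u1 k ≠ 0 ↔ k ∈ A1 := fun k => by
      obtain ⟨l, rfl⟩ := π.surjective k
      rw [hu1k, hπ, hA]
    have hsφ : ∀ k, co φ1 k ≠ 0 ↔ k ∈ A1 := fun k => by
      obtain ⟨l, rfl⟩ := π.surjective k
      rw [hφ1k, hπ, hA, hs]
    have hcomp : ∀ x, φ1 (mv (pm π : GL κ F) x) = φ x := fun x => by
      show φ (mvLin (pm π : GL κ F)⁻¹ (mv (pm π) x)) = φ x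
      rw [Matrix.toLin'_apply]
      exact congrArg φ (mv_inv_mv _ x)
    have hmonπ : Mon (pm π : GL κ F) := fun k => ⟨π k, 1, by rw [mv_pm_ev, one_smul]⟩
    have h1 : PR u1 φ1 := ⟨by rw [hu1, hcomp]; exact h.1, fun η => by
      have := (h.2 η).conj (hH _ hmonπ) hcomp
      rwa [mv_smul] at this⟩
    obtain ⟨g0, hg0, hd0⟩ := h.2 ε
    set u2 := mv g0 u1 with hu2
    set φ2 := φ1.comp (mvLin g0⁻¹) with hφ2
    have h2' : PR u2 φ2 := by
      have hcomp2 : ∀ x, φ2 (mv g0 x) = φ1 x := fun x => by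
        show φ1 (mvLin g0⁻¹ (mv g0 x)) = φ1 x
        rw [Matrix.toLin'_apply]
        exact congrArg φ1 (mv_inv_mv _ x)
      refine ⟨by rw [hu2, hcomp2]; exact h1.1, fun η => ?_⟩
      have := (h1.2 η).conj hg0 hcomp2
      rwa [mv_smul] at this
    -- the values
    have hk01 : k0 ∈ A1 := Finset.mem_insert_self _ _
    have hmeet : ∀ l, l ∈ A → l ∈ A1 → l = k0 := by
      intro l hl hl'
      rcases Finset.mem_insert.1 hl' with e | e
      · exact e
      · exact absurd hl (hBA l e)
    have e1 : φ u1 = u1 k0 * co φ k0 := by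
      rw [dual_apply φ u1]
      refine Finset.sum_eq_single k0 (fun l _ hl => ?_) (by simp)
      by_contra hz
      exact hl (hmeet l ((hA l).2 ((hs l).2 (right_ne_zero_of_mul hz)))
        ((hsu l).1 (left_ne_zero_of_mul hz)))
    have e2 : φ1 u = u k0 * co φ1 k0 := by
      rw [dual_apply φ1 u]
      refine Finset.sum_eq_single k0 (fun l _ hl => ?_) (by simp)
      by_contra hz
      exact hl (hmeet l ((hA l).2 (left_ne_zero_of_mul hz)) ((hsφ l).1 (right_ne_zero_of_mul hz)))
    have hu2k : ∀ k, u2 k = u1 k + (u1 k0 * co φ k0) * ((ε : F) - 1) * u k := by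
      intro k
      rw [hu2, hd0 u1, e1]
      simp [mul_assoc]
    have hφ2k : ∀ k, co φ2 k = co φ1 k - co φ k * (((ε : F) - 1) / ε) * (u k0 * co φ1 k0) := by
      intro k
      show φ1 (mvLin g0⁻¹ (ev k)) = _
      rw [Matrix.toLin'_apply]
      show φ1 (mv g0⁻¹ (ev k)) = _
      rw [hd0.inv (ev k)]
      simp only [map_add, LinearMap.smul_apply, map_smul, e2, h.1, smul_eq_mul, mul_one, add_sub_cancel]
      field_simp
      ring
    set A2 := Finset.univ.filter fun k => u2 k ≠ 0 with hA2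
    refine ⟨u2, φ2, A2, h2', fun k => by simp [hA2], ?_⟩
    have hout : ∀ k, k ≠ k0 → k ∈ A ∪ A1 → u2 k ≠ 0 := by
      intro k hk hk'
      rw [hu2k]
      rcases Finset.mem_union.1 hk' with hkA | hkA
      · rw [show u1 k = 0 from not_not.1 fun e => hk (hmeet k hkA ((hsu k).1 e)), zero_add]
        exact mul_ne_zero (mul_ne_zero (mul_ne_zero ((hsu k0).2 hk01)
          ((hs k0).1 ((hA k0).1 hk0))) hc) ((hA k).1 hkA)
      · rw [show u k = 0 from not_not.1 fun e => hk (hmeet k ((hA k).2 e) hkA), mul_zero, add_zero]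
        exact (hsu k).2 hkA
    have hk02 : u2 k0 ≠ 0 := by
      intro hz
      have hφz : co φ2 k0 = 0 := not_not.1 fun e => (hsupp u2 φ2 h2' k0).2 e hz
      rw [hu2k] at hz
      rw [hφ2k] at hφz
      have z1 : 1 + ((ε : F) - 1) * (u k0 * co φ k0) = 0 := by
        refine (mul_eq_zero.1 (show u1 k0 * (1 + ((ε : F) - 1) * (u k0 * co φ k0)) = 0 by
          linear_combination hz)).resolve_left ((hsu k0).2 hk01)
      have z2 : 1 - ((ε : F) - 1) / ε * (u k0 * co φ k0) = 0 := by
        refine (mul_eq_zero.1 (show co φ1 k0 * (1 - ((ε : F) - 1) / ε * (u k0 * co φ k0)) = 0 by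
          linear_combination hφz)).resolve_left ((hsφ k0).2 hk01)
      have z3 : (ε : F) - ((ε : F) - 1) * (u k0 * co φ k0) = 0 := by
        have := congrArg (fun y => (ε : F) * y) z2
        simp only [mul_zero, mul_sub, mul_one] at this
        rw [← mul_assoc, mul_div_cancel₀ _ ε.ne_zero] at this
        exact this
      exact hε2 (by linear_combination ((ε : F) - 1) * (z1 + z3))
    have hsub : A ∪ B ⊆ A2 := by
      intro k hk
      rw [hA2, Finset.mem_filter]
      refine ⟨Finset.mem_univ k, ?_⟩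
      rcases eq_or_ne k k0 with rfl | hne0
      · exact hk02
      · refine hout k hne0 ?_
        rcases Finset.mem_union.1 hk with e | e
        · exact Finset.mem_union_left _ e
        · exact Finset.mem_union_right _ (Finset.mem_insert_of_mem e)
    have := Finset.card_le_card hsub
    rw [Finset.card_union_of_disjoint (Finset.disjoint_right.2 hBA), hBc] at this
    omega
  -- finishing once the support has at least four points
  have finish : ∀ u φ, PR u φ → ∀ A : Finset κ, (∀ k, k ∈ A ↔ u k ≠ 0) → 4 ≤ A.card → False := by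
    intro u φ h A hA h4
    have hs := hsupp u φ h
    have good : ∀ D : κ → Fˣ, φ (mv (dg D) u) = 0 → φ (mv (dg D)⁻¹ u) ≠ 0 →
        ∀ μ : F, Has H (μ • mv (dg D) u) φ := by
      intro D hD0 hD1
      set w := mv (dg D) u with hw
      set K0 := ((ε : F) - 1) * φ (mv (dg D)⁻¹ u) / (ε : F) with hK0
      have hK : K0 ≠ 0 := div_ne_zero (mul_ne_zero hc hD1) ε.ne_zero
      have base : ∀ μ : F, μ ≠ -K0 → Has H (μ • w) φ := by
        intro μ hμ
        have hne1 : μ / K0 + 1 ≠ 0 := by
          intro e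
          apply hμ
          field_simp at e
          linear_combination e
        have hconj : ∀ x, (φ.comp (mvLin (dg D : GL κ F)⁻¹)) (mv (dg D) x) = φ x := fun x => by
          show φ (mvLin (dg D : GL κ F)⁻¹ (mv (dg D) x)) = φ x
          rw [Matrix.toLin'_apply]
          exact congrArg φ (mv_inv_mv _ x)
        have h1 := (h.2 (Units.mk0 _ hne1)).conj (hH _ (mon_dg D)) hconj
        rw [mv_smul, ← hw] at h1
        have h2 := h1.commutator (h.2 ε) (by rw [map_smul, hD0, smul_zero])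
        refine h2.of_eq fun x => ?_
        simp only [smul_smul]
        congr 1
        simp only [Units.val_mk0, map_smul, LinearMap.comp_apply, Matrix.toLin'_apply, h.1, smul_eq_mul,
          mul_one, add_sub_cancel, add_sub_cancel_right]
        field_simp
        have hKe : ((ε : F) - 1) * φ (mv (dg D)⁻¹ u) = ε * K0 := by
          rw [hK0, mul_div_cancel₀ _ ε.ne_zero]
        linear_combination φ x * μ * hKe
      intro μ
      by_cases hμ : μ = -K0
      · -- split the exceptional value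
        haveI : Finite F := Nat.finite_of_card_ne_zero (by omega)
        haveI := Fintype.ofFinite F
        obtain ⟨b, -, hb⟩ := Finset.exists_mem_notMem_of_card_lt_card
          (show ({μ, 0} : Finset F).card < (Finset.univ : Finset F).card by
            rw [Finset.card_univ, ← Nat.card_eq_fintype_card]
            have := Finset.card_le_two (a := μ) (b := (0 : F))
            omega)
        simp only [Finset.mem_insert, Finset.mem_singleton, not_or] at hb
        have := (base b (hμ ▸ hb.1)).add_vec (base (μ - b) (hμ ▸ fun e => hb.2 (by linear_combination -e)))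
          (by rw [map_smul, hD0, smul_zero])
        rwa [← add_smul, add_sub_cancel] at this
      · exact base μ hμ
    obtain ⟨a, ha⟩ : A.Nonempty := Finset.card_pos.1 (by omega)
    obtain ⟨b, hb, hba⟩ := Finset.exists_mem_ne (show 1 < A.card by omega) a
    obtain ⟨d, hd, hd'⟩ := Finset.exists_mem_notMem_of_card_lt_card
      (show ({a, b} : Finset κ).card < A.card by have := Finset.card_le_two (a := a) (b := b); omega)
    obtain ⟨c, hcA, hc'⟩ := Finset.exists_mem_notMem_of_card_lt_card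
      (show ({a, b, d} : Finset κ).card < A.card by
        have := Finset.card_le_three (a := a) (b := b) (c := d); omega)
    simp only [Finset.mem_insert, Finset.mem_singleton, not_or] at hd' hc'
    set A' := A \ {a, b, d} with hA'
    let p : κ → F := fun k => u k * co φ k
    have hp : ∀ k ∈ A, p k ≠ 0 := fun k hk => mul_ne_zero ((hA k).1 hk) ((hs k).1 ((hA k).1 hk))
    haveI : Finite F := Nat.finite_of_card_ne_zero (by omega)
    haveI := Fintype.ofFinite F
    have hcardF : 5 ≤ (Finset.univ : Finset F).card := by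
      rwa [Finset.card_univ, ← Nat.card_eq_fintype_card]
    obtain ⟨v1, -, hv1⟩ := Finset.exists_mem_notMem_of_card_lt_card
      (show ({0, -(A'.card : F)} : Finset F).card < (Finset.univ : Finset F).card by
        have := Finset.card_le_two (a := (0 : F)) (b := -(A'.card : F)); omega)
    obtain ⟨v2, -, hv2⟩ := Finset.exists_mem_notMem_of_card_lt_card
      (show ({0, -(A'.card : F), v1} : Finset F).card < (Finset.univ : Finset F).card by
        have := Finset.card_le_three (a := (0 : F)) (b := -(A'.card : F)) (c := v1); omega)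
    simp only [Finset.mem_insert, Finset.mem_singleton, not_or] at hv1 hv2
    have mk : ∀ v : F, v ≠ 0 → v ≠ -(A'.card : F) → ∃ D : κ → Fˣ, φ (mv (dg D) u) = 0 ∧
        φ (mv (dg D)⁻¹ u) ≠ 0 ∧ (D c : F) = 1 / p c ∧ (D d : F) = v / p d := by
      intro v hv hv'
      set R : F := v + A'.card with hR
      have hR0 : R ≠ 0 := fun e => hv' (by linear_combination e)
      set C : F := p d ^ 2 / v + ∑ k ∈ A', p k ^ 2 with hC
      obtain ⟨y, hy0, hyR, hyf⟩ : ∃ y : F, y ≠ 0 ∧ y ≠ -R ∧
          C + p a ^ 2 / y + p b ^ 2 / (-R - y) ≠ 0 := by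
        by_contra hcon
        push Not at hcon
        have hroot : ∀ y : F, y ≠ 0 → y ≠ -R →
            (-C) * y ^ 2 + (p b ^ 2 - p a ^ 2 - C * R) * y + (-(p a ^ 2) * R) = 0 := by
          intro y h0 h1
          have h2 : -R - y ≠ 0 := fun e => h1 (by linear_combination -e)
          have := hcon y h0 h1
          field_simp at this
          linear_combination this
        obtain ⟨y1, -, h1⟩ := Finset.exists_mem_notMem_of_card_lt_card
          (show ({0, -R} : Finset F).card < (Finset.univ : Finset F).card by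
            have := Finset.card_le_two (a := (0 : F)) (b := -R); omega)
        obtain ⟨y2, -, h2⟩ := Finset.exists_mem_notMem_of_card_lt_card
          (show ({0, -R, y1} : Finset F).card < (Finset.univ : Finset F).card by
            have := Finset.card_le_three (a := (0 : F)) (b := -R) (c := y1); omega)
        obtain ⟨y3, -, h3⟩ := Finset.exists_mem_notMem_of_card_lt_card
          (show ({0, -R, y1, y2} : Finset F).card < (Finset.univ : Finset F).card by
            have := Finset.card_le_four (a := (0 : F)) (b := -R) (c := y1) (d := y2); omega)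
        simp only [Finset.mem_insert, Finset.mem_singleton, not_or] at h1 h2 h3
        have r1 := hroot y1 h1.1 h1.2
        have r2 := hroot y2 h2.1 h2.2.1
        have r3 := hroot y3 h3.1 h3.2.1
        set al := -C
        set be := p b ^ 2 - p a ^ 2 - C * R
        have s12 : al * (y1 + y2) + be = 0 :=
          (mul_eq_zero.1 (show (y2 - y1) * (al * (y1 + y2) + be) = 0 by
            linear_combination r2 - r1)).resolve_left (sub_ne_zero.2 h2.2.2)
        have s13 : al * (y1 + y3) + be = 0 :=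
          (mul_eq_zero.1 (show (y3 - y1) * (al * (y1 + y3) + be) = 0 by
            linear_combination r3 - r1)).resolve_left (sub_ne_zero.2 h3.2.2.1)
        have hal : al = 0 :=
          (mul_eq_zero.1 (show al * (y3 - y2) = 0 by linear_combination s13 - s12)).resolve_right
            (sub_ne_zero.2 h3.2.2.2)
        have hbe : be = 0 := by linear_combination s12 - (y1 + y2) * hal
        have : p a ^ 2 * R = 0 := by linear_combination -r1 + y1 ^ 2 * hal + y1 * hbe
        exact mul_ne_zero (pow_ne_zero 2 (hp a ha)) hR0 this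
      have hyb : -R - y ≠ 0 := fun e => hyR (by linear_combination -e)
      obtain ⟨x, hxdef⟩ : ∃ x : κ → F,
          x = fun k => if k = a then y else if k = b then -R - y else if k = d then v else 1 := ⟨_, rfl⟩
      have hx : ∀ k, x k ≠ 0 := fun k => by
        simp only [hxdef]; split_ifs <;> simp [hy0, hyb, hv]
      let D : κ → Fˣ := fun k =>
        if hk : k ∈ A then Units.mk0 (x k / p k) (div_ne_zero (hx k) (hp k hk)) else 1
      have hDA : ∀ k ∈ A, (D k : F) = x k / p k := fun k hk => by simp [D, hk]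
      have hout : ∀ k ∉ A, co φ k = 0 := fun k hk => not_not.1 fun e => hk ((hA k).2 ((hs k).2 e))
      have hAeq : A = insert a (insert b (insert d A')) := by
        ext k
        simp only [hA', Finset.mem_insert, Finset.mem_sdiff, Finset.mem_singleton]
        by_cases h1 : k = a
        · simp [h1, ha]
        by_cases h2 : k = b
        · simp [h2, hb]
        by_cases h3 : k = d
        · simp [h3, hd]
        simp [h1, h2, h3]
      have hxA' : ∀ k ∈ A', x k = 1 := by
        intro k hk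
        simp only [hA', Finset.mem_sdiff, Finset.mem_insert, Finset.mem_singleton, not_or] at hk
        simp [hxdef, hk.2]
      have hsumA : ∀ f : κ → F, ∑ k ∈ A, f k = f a + (f b + (f d + ∑ k ∈ A', f k)) := by
        intro f
        conv_lhs => rw [hAeq]
        rw [Finset.sum_insert (by simp [hA', hba.symm, Ne.symm hd'.1]),
          Finset.sum_insert (by simp [hA', Ne.symm hd'.2]), Finset.sum_insert (by simp [hA'])]
      have hxa : x a = y := by simp [hxdef]
      have hxb : x b = -R - y := by simp [hxdef, hba]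
      have hxd : x d = v := by simp [hxdef, hd'.1, hd'.2]
      refine ⟨D, ?_, ?_, ?_, ?_⟩
      · rw [dual_apply φ, mv_dg, ← Finset.sum_subset (Finset.subset_univ A) fun k _ hk => by
          rw [hout k hk, mul_zero]]
        rw [Finset.sum_congr rfl (fun k hk => show (D k : F) * u k * co φ k = x k by
          rw [hDA k hk, mul_assoc]; exact div_mul_cancel₀ _ (hp k hk))]
        rw [hsumA, hxa, hxb, hxd, Finset.sum_congr rfl hxA', Finset.sum_const, nsmul_one]
        ring
      · rw [dual_apply φ, dg_inv, mv_dg, ← Finset.sum_subset (Finset.subset_univ A) fun k _ hk => by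
          rw [hout k hk, mul_zero]]
        rw [Finset.sum_congr rfl (fun k hk => show ((D⁻¹) k : F) * u k * co φ k = p k ^ 2 / x k by
          rw [Pi.inv_apply, Units.val_inv_eq_inv_val, hDA k hk, inv_div, mul_assoc, div_mul_eq_mul_div]
          simp only [p]
          ring)]
        rw [hsumA, hxa, hxb, hxd, Finset.sum_congr rfl (fun k hk => show p k ^ 2 / x k = p k ^ 2 by
          rw [hxA' k hk, div_one])]
        intro e
        exact hyf (by rw [hC]; linear_combination e)
      · rw [hDA c hcA]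
        simp [hxdef, hc']
      · rw [hDA d hd, hxd]
    obtain ⟨D1, a1, b1, c1, d1⟩ := mk v1 hv1.1 hv1.2
    obtain ⟨D2, a2, b2, c2, d2'⟩ := mk v2 hv2.1 hv2.2.1
    have t1 := good D1 a1 b1 1
    have t2 := good D2 a2 b2 (-1)
    have t3 := t1.add_vec t2 (by rw [map_smul, a2, smul_zero])
    refine hno (oneway1 _ φ c t3 ?_ ((hs c).1 ((hA c).1 hcA)) ?_)
    · simp [mv_dg, c1, c2]
    · intro e
      have := congrFun e d
      simp [mv_dg, d1, d2'] at this
      have h9 : (v1 - v2) * (u d / p d) = 0 := by linear_combination this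
      exact mul_ne_zero (sub_ne_zero.2 (Ne.symm hv2.2.2)) (div_ne_zero ((hA d).1 hd) (hp d hd)) h9
  -- start
  obtain ⟨A0, hA0, hA0m⟩ := hne
  obtain ⟨k0, hk0⟩ : ∃ k, ∀ l : κ, ∀ c : F, mv A0 (ev k) ≠ c • ev l := by
    by_contra hcon
    push Not at hcon
    exact hA0m hcon
  set u := mv A0 (ev k0) with hu
  set φ := (pr k0 : Module.Dual F (κ → F)).comp (mvLin A0⁻¹) with hφ
  have hcomp : ∀ x, φ (mv A0 x) = pr k0 x := fun x => by
    show pr k0 (mvLin A0⁻¹ (mv A0 x)) = _
    rw [Matrix.toLin'_apply]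
    exact congrArg (fun y : κ → F => y k0) (mv_inv_mv _ x)
  have hPR : PR u φ := by
    refine ⟨by rw [hu, hcomp]; simp, fun η => ?_⟩
    have := (hdk k0 η).conj hA0 hcomp
    rwa [mv_smul] at this
  set A := Finset.univ.filter fun k => u k ≠ 0 with hAdef
  have hA : ∀ k, k ∈ A ↔ u k ≠ 0 := fun k => by simp [hAdef]
  have h2 : 2 ≤ A.card := by
    by_contra hlt
    have hne0 : A.Nonempty := by
      obtain ⟨l, hl⟩ := Function.ne_iff.1 (mv_ev_ne_zero A0 k0)
      exact ⟨l, (hA l).2 (by simpa using hl)⟩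
    obtain ⟨l, hl⟩ := Finset.card_eq_one.1 (show A.card = 1 by have := hne0.card_pos; omega)
    refine hk0 l (u l) (funext fun k => ?_)
    rcases eq_or_ne k l with rfl | hk
    · simp [hu]
    · have : k ∉ A := by simp [hl, hk]
      rw [hA, not_not] at this
      simp [← hu, this, hk]
  by_cases h4 : 4 ≤ A.card
  · exact finish u φ hPR A hA h4
  obtain ⟨u1, φ1, A1, hPR1, hA1, hc1⟩ := grow u φ hPR A hA h2 (by omega)
  by_cases h41 : 4 ≤ A1.card
  · exact finish u1 φ1 hPR1 A1 hA1 h41
  obtain ⟨u2, φ2, A2, hPR2, hA2, hc2⟩ := grow u1 φ1 hPR1 A1 hA1 (by omega) (by omega)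
  exact finish u2 φ2 hPR2 A2 hA2 (by omega)

end Gen

section Lift

variable {ι : Type} [Fintype ι] [DecidableEq ι] {F : Type*} [Field F]

theorem val_apply_eq (g : GL ι F) (i j : ι) : (g : Matrix ι ι F) i j = mv g (ev j) i := by
  show _ = ((g : Matrix ι ι F) *ᵥ Pi.single j 1) i
  rw [Matrix.mulVec_single_one]
  rfl

theorem isDev_of_fix {y : GL ι F} {m : ι} (hy : y ∈ Geo.specialLinear ι F)
    (h : ∀ j i, i ≠ m → mv y (ev j) i = (ev j : ι → F) i) :
    ∃ φ : Module.Dual F (ι → F), φ (ev m) = 0 ∧ IsDev y (ev m) φ := by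
  have hd : IsDev y (ev m) ((pr m : Module.Dual F (ι → F)).comp (mvLin y) - pr m) := by
    intro x
    ext i
    rcases eq_or_ne i m with rfl | hi
    · simp
    · have : mv y x i = x i := by
        rw [mv_eq_sum y x, Finset.sum_apply]
        simp only [Pi.smul_apply, h _ i hi]
        simp [Pi.single_apply]
      simp [this, hi]
  refine ⟨_, ?_, hd⟩
  have := hd.det
  rw [mem_sl_iff.1 hy] at this
  linear_combination -this

/-- A transvection with centre a basis vector yields an elementary transvection. -/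
theorem elem_of_centre (hn : 4 ≤ Fintype.card ι) (hq : 5 ≤ Nat.card F) {K : Subgroup (GL ι F)}
    (hM : ∀ g ∈ Geo.specialLinear ι F, Mon g → g ∈ K) {m : ι} {φ : Module.Dual F (ι → F)}
    (hm : φ (ev m) = 0) (hφ : φ ≠ 0) (h : Has K (ev m) φ) : HasElem K := by
  classical
  obtain ⟨ε, hε1, -, -⟩ := exists_unit hq
  obtain ⟨i, hi⟩ := exists_co_ne_zero hφ
  have him : i ≠ m := fun e => hi (e ▸ hm)
  obtain ⟨j, -, hj⟩ := Finset.exists_mem_notMem_of_card_lt_card
    (show ({i, m} : Finset ι).card < (Finset.univ : Finset ι).card by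
      rw [Finset.card_univ]; have := Finset.card_le_two (a := i) (b := m); omega)
  obtain ⟨l, -, hl⟩ := Finset.exists_mem_notMem_of_card_lt_card
    (show ({i, m, j} : Finset ι).card < (Finset.univ : Finset ι).card by
      rw [Finset.card_univ]; have := Finset.card_le_three (a := i) (b := m) (c := j); omega)
  simp only [Finset.mem_insert, Finset.mem_singleton, not_or] at hj hl
  have step : ∀ (ψ : Module.Dual F (ι → F)) (a b : ι), ψ (ev m) = 0 → Has K (ev m) ψ → a ≠ b → a ≠ m →
      b ≠ m → ∃ δ : Module.Dual F (ι → F), Has K (ev m) δ ∧ co δ a = ((ε : F)⁻¹ - 1) * co ψ a ∧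
        co δ b = ((ε : F) - 1) * co ψ b ∧ (∀ k, k ≠ a → k ≠ b → co δ k = 0) := by
    intro ψ a b hψ h hab ham hbm
    have hd := hM _ (d2_mem_sl hab ε) (mon_dg _)
    have hfix : mv (d2 a b ε) (ev m) = ev m := by
      rw [mv_d2 hab]; simp [ham, hbm]
    set ψ' := ψ.comp (mvLin (d2 a b ε)⁻¹)
    have h1 : Has K (ev m) ψ' := by
      have := h.conj (g := d2 a b ε) hd (φ' := ψ') fun x => by
        show ψ (mvLin (d2 a b ε)⁻¹ (mv (d2 a b ε) x)) = ψ x
        rw [Matrix.toLin'_apply]
        exact congrArg ψ (mv_inv_mv _ x)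
      rwa [hfix] at this
    have h2 : Has K (ev m) (-ψ) := (h.neg_vec hψ).of_eq fun x => by simp
    have hψ' : ψ' (ev m) = 0 := by
      show ψ (mvLin (d2 a b ε)⁻¹ (ev m)) = 0
      rw [Matrix.toLin'_apply]
      show ψ (mv (d2 a b ε)⁻¹ (ev m)) = 0
      rw [← hfix, mv_inv_mv, hψ]
    have hco : ∀ k, co ψ' k = (((Function.update (Function.update (1 : ι → Fˣ) a ε) b ε⁻¹) k)⁻¹ : Fˣ) * co ψ k := by
      intro k
      show ψ (mvLin (d2 a b ε)⁻¹ (ev k)) = _
      rw [Matrix.toLin'_apply]
      show ψ (mv (d2 a b ε)⁻¹ (ev k)) = _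
      rw [d2, dg_inv, mv_dg_ev, map_smul]
      rfl
    refine ⟨ψ' + -ψ, h1.add_fun h2 hψ', ?_, ?_, ?_⟩
    · show co ψ' a + -(co ψ a) = _
      rw [hco]; simp [hab]; ring
    · show co ψ' b + -(co ψ b) = _
      rw [hco]; simp; ring
    · intro k hka hkb
      show co ψ' k + -(co ψ k) = _
      rw [hco]; simp [hka, hkb]
  obtain ⟨δ, hδ, hδi, hδj, hδ0⟩ := step φ i j hm h (Ne.symm hj.1) him hj.2
  have hδm : δ (ev m) = 0 := hδ0 m (Ne.symm him) (Ne.symm hj.2)
  obtain ⟨η, hη, hηi, hηl, hη0⟩ := step δ i l hδm hδ (Ne.symm hl.1) him hl.2.1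
  refine ⟨m, i, Ne.symm him, co η i, ?_, hη.of_eq fun x => ?_⟩
  · rw [hηi, hδi]
    have : (ε : F)⁻¹ - 1 ≠ 0 := sub_ne_zero.2 (by simpa using hε1)
    exact mul_ne_zero this (mul_ne_zero this hi)
  · rw [smul_smul]
    congr 1
    rw [dual_apply η x, Finset.sum_eq_single i (fun k _ hk => ?_) (by simp)]
    · simp
    · rcases eq_or_ne k l with rfl | hkl
      · rw [hηl, hδ0 k hl.1 hl.2.2, mul_zero, mul_zero]
      · rw [hη0 k hk hkl, mul_zero]

/-- A non-monomial element fixing a coordinate line yields an elementary transvection. -/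
theorem elem_of_line (hn : 6 ≤ Fintype.card ι) (hq : 5 ≤ Nat.card F) {K : Subgroup (GL ι F)}
    (hK : K ≤ Geo.specialLinear ι F) (hM : ∀ g ∈ Geo.specialLinear ι F, Mon g → g ∈ K) {z : GL ι F}
    (hzK : z ∈ K) (hz : ¬ Mon z) {m : ι} {c : F} (hzm : mv z (ev m) = c • ev m) : HasElem K := by
  classical
  set P := K ⊓ Geo.subspaceStabilizer (Submodule.span F {(ev m : ι → F)})
  have hPcol : ∀ g ∈ P, ∀ i, i ≠ m → (g : Matrix ι ι F) i m = 0 := by
    intro g hg i hi
    obtain ⟨a, ha⟩ := Submodule.mem_span_singleton.1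
      (mv_mem_of_mem_stab hg.2 (Submodule.mem_span_singleton_self (ev m : ι → F)))
    rw [val_apply_eq, ← ha]
    simp [hi]
  have hPfix : ∀ g ∈ P, ∃ a : F, mv g (ev m) = a • ev m := fun g hg => by
    obtain ⟨a, ha⟩ := Submodule.mem_span_singleton.1
      (mv_mem_of_mem_stab hg.2 (Submodule.mem_span_singleton_self (ev m : ι → F)))
    exact ⟨a, ha.symm⟩
  have memP : ∀ g ∈ K, (∃ a : F, mv g (ev m) = a • ev m) → g ∈ P := by
    rintro g hg ⟨a, ha⟩
    refine ⟨hg, mem_subspaceStabilizer_of_le fun v hv => ?_⟩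
    obtain ⟨b, rfl⟩ := Submodule.mem_span_singleton.1 hv
    rw [mv_smul, ha]
    exact Submodule.smul_mem _ _ (Submodule.smul_mem _ _ (Submodule.mem_span_singleton_self _))
  let ρ0 : P →* Matrix {k // k ≠ m} {k // k ≠ m} F :=
    { toFun := fun g => ((g : GL ι F) : Matrix ι ι F).submatrix Subtype.val Subtype.val
      map_one' := by
        simp [Matrix.submatrix_one _ Subtype.val_injective]
      map_mul' := fun g h => by
        ext i j
        simp only [Matrix.submatrix_apply, Subgroup.coe_mul, Units.val_mul, Matrix.mul_apply]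
        rw [Fintype.sum_eq_add_sum_subtype_ne _ m, hPcol _ g.2 _ i.2, zero_mul, zero_add] }
  let ρ : P →* GL {k // k ≠ m} F := ρ0.toHomUnits
  have hρ : ∀ (g : P) (i j : {k // k ≠ m}), (ρ g : Matrix _ _ F) i j = mv (g : GL ι F) (ev j.1) i.1 :=
    fun g i j => val_apply_eq (g : GL ι F) i.1 j.1
  have hcard : 5 ≤ Fintype.card {k // k ≠ m} := by
    rw [Fintype.card_subtype_compl, Fintype.card_subtype_eq]
    omega
  -- monomial elements lift
  have hlift : ∀ A, Mon A → ∃ g : P, ρ g = A ∧ Mon (g : GL ι F) := by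
    intro A hA
    obtain ⟨σ, d, rfl⟩ := hA.exists_mp
    let σ' : Equiv.Perm ι := Equiv.Perm.ofSubtype σ
    let d0 : ι → Fˣ := fun k => if h : k ≠ m then d ⟨k, h⟩ else 1
    let δ : Fˣ := Units.map (Int.castRingHom F).toMonoidHom (Equiv.Perm.sign σ') * ∏ k, d0 k
    let d' : ι → Fˣ := Function.update d0 m δ⁻¹
    have hd'm : d0 m = 1 := by simp [d0]
    have hsl : mp σ' d' ∈ Geo.specialLinear ι F := by
      rw [mem_sl_iff, det_mp, ← Units.coe_prod, Finset.prod_update_of_mem (Finset.mem_univ m)]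
      have : ∏ k ∈ (Finset.univ \ {m} : Finset ι), d0 k = ∏ k, d0 k :=
        Finset.prod_subset (Finset.subset_univ _) fun k _ hk => by
          simp only [Finset.mem_sdiff, Finset.mem_univ, Finset.mem_singleton, true_and, not_not] at hk
          rw [hk, hd'm]
      rw [this]
      have he : (((Equiv.Perm.sign σ' : ℤˣ) : ℤ) : F) =
          ((Units.map (Int.castRingHom F).toMonoidHom (Equiv.Perm.sign σ') : Fˣ) : F) := by simp
      rw [he, ← Units.val_mul, mul_left_comm, inv_mul_cancel, Units.val_one]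
    have hfixm : σ' m = m := Equiv.Perm.ofSubtype_apply_of_not_mem σ (by simp)
    have hgP : mp σ' d' ∈ P := memP _ (hM _ hsl (mon_mp _ _)) ⟨_, by rw [mv_mp_ev, hfixm]⟩
    refine ⟨⟨_, hgP⟩, Units.ext (Matrix.ext fun i j => ?_), mon_mp _ _⟩
    rw [hρ, val_apply_eq, mv_mp_ev, mv_mp_ev, Equiv.Perm.ofSubtype_apply_coe]
    have : d' j.1 = d j := by simp [d', d0, j.2]
    simp [this, Pi.single_apply, Subtype.coe_injective.eq_iff]
  -- elements acting trivially off m
  have hker : ∀ g : P, ρ g = 1 → ∃ φ : Module.Dual F (ι → F), φ (ev m) = 0 ∧ IsDev (g : GL ι F) (ev m) φ := by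
    intro g hg
    refine isDev_of_fix (hK g.2.1) fun j i hi => ?_
    rcases eq_or_ne j m with rfl | hj
    · obtain ⟨a, ha⟩ := hPfix _ g.2
      rw [ha]
      simp [hi]
    · have := hρ g ⟨i, hi⟩ ⟨j, hj⟩
      rw [hg] at this
      rw [← this]
      simp [Matrix.one_apply, Pi.single_apply, Subtype.ext_iff]
  set z' : P := ⟨z, memP z hzK ⟨c, hzm⟩⟩
  by_cases hA : Mon (ρ z')
  · obtain ⟨g, hg, hgm⟩ := hlift _ hA
    obtain ⟨φ, hφm, hd⟩ := hker (g⁻¹ * z') (by rw [map_mul, map_inv, hg, inv_mul_cancel])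
    refine elem_of_centre (by omega) hq hM hφm (fun e => ?_) ⟨_, (g⁻¹ * z').2.1, hd⟩
    subst e
    have h1 : ((g⁻¹ * z' : P) : GL ι F) = 1 := ext_mv fun x => by rw [hd x, mv_one]; simp
    rw [Subgroup.coe_mul, Subgroup.coe_inv, inv_mul_eq_one] at h1
    exact hz (by rw [show z = (g : GL ι F) from h1.symm]; exact hgm)
  obtain ⟨k, l, hkl, a, ha, A, ⟨g, rfl⟩, hAd⟩ := exists_elem (H := ρ.range) hcard hq
    (fun A hA => let ⟨g, hg, _⟩ := hlift A hA; ⟨g, hg⟩) ⟨_, ⟨z', rfl⟩, hA⟩
  set G : GL ι F := (g : GL ι F) with hG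
  have hT0 : (pr l.1 : Module.Dual F (ι → F)) (a • ev k.1) = 0 := by
    simp [Pi.single_apply]
    exact fun e => absurd (Subtype.ext e.symm) hkl
  set T : GL ι F := tv (a • ev k.1) (pr l.1) hT0
  have hTd : IsDev T (a • ev k.1) (pr l.1) := isDev_tv hT0
  have hTm : mv T (ev m) = ev m := by rw [hTd]; simp [l.2]
  -- G is T followed by a transvection with centre at m
  have hcols : ∀ j i, i ≠ m → mv G (ev j) i = mv T (ev j) i := by
    intro j i hi
    rcases eq_or_ne j m with rfl | hj
    · obtain ⟨b, hb⟩ := hPfix _ g.2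
      rw [hb, hTm]
      simp [hi]
    · have h1 := hρ g ⟨i, hi⟩ ⟨j, hj⟩
      rw [val_apply_eq, hAd] at h1
      rw [← h1, hTd]
      simp [Pi.single_apply, Subtype.ext_iff]
      split_ifs <;> simp_all [Pi.single_apply, Subtype.ext_iff]
  obtain ⟨φ', hφ'm, hd'⟩ := isDev_of_fix (m := m) (y := G * T⁻¹)
    (Subgroup.mul_mem _ (hK g.2.1) (Subgroup.inv_mem _ (hTd.mem_sl hT0))) (fun j i hi => by
      have h1 : mv (G * T⁻¹) (ev j) i = mv T (mv T⁻¹ (ev j)) i := by
        rw [mv_mul, mv_eq_sum G, mv_eq_sum T (mv T⁻¹ (ev j)), Finset.sum_apply, Finset.sum_apply]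
        exact Finset.sum_congr rfl fun k _ => by simp [hcols k i hi]
      rw [h1, mv_mv_inv])
  set φ := φ'.comp (mvLin T) with hφdef
  have hGx : ∀ x, mv G x = mv T x + φ x • ev m := fun x => by
    have := hd' (mv T x)
    rw [mv_mul, mv_inv_mv] at this
    rw [this, hφdef]
    rfl
  have hφm : φ (ev m) = 0 := by
    show φ' (mvLin T (ev m)) = 0
    rw [Matrix.toLin'_apply]
    exact (congrArg φ' hTm).trans hφ'm
  by_cases hφ : φ = 0
  · refine ⟨k.1, l.1, fun e => hkl (Subtype.ext e), a, ha, G, g.2.1, fun x => ?_⟩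
    rw [hGx, hφ, hTd]
    simp
  obtain ⟨i, hi⟩ := exists_co_ne_zero hφ
  have him : i ≠ m := fun e => hi (e ▸ hφm)
  obtain ⟨j, -, hj⟩ := Finset.exists_mem_notMem_of_card_lt_card
    (show ({i, m, k.1, l.1} : Finset ι).card < (Finset.univ : Finset ι).card by
      rw [Finset.card_univ]; have := Finset.card_le_four (a := i) (b := m) (c := k.1) (d := l.1); omega)
  simp only [Finset.mem_insert, Finset.mem_singleton, not_or] at hj
  obtain ⟨ε, hε1, -, -⟩ := exists_unit hq
  obtain ⟨t, htprod, htm, htkl, hti⟩ : ∃ t : ι → Fˣ, ∏ r, (t r : F) = 1 ∧ t m = 1 ∧ t k.1 = t l.1 ∧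
      (t i : F) ≠ 1 := by
    by_cases hikl : i = k.1 ∨ i = l.1
    · refine ⟨Function.update (Function.update (Function.update 1 k.1 ε) l.1 ε) j (ε⁻¹ * ε⁻¹), ?_, ?_, ?_, ?_⟩
      · have hkl' : k.1 ≠ l.1 := fun e => hkl (Subtype.ext e)
        rw [← Units.coe_prod, Finset.prod_update_of_mem (Finset.mem_univ j),
          Finset.prod_update_of_mem (by simp [Ne.symm hj.2.2.2]),
          Finset.prod_update_of_mem (by simp [Ne.symm hj.2.2.1, hkl'])]
        simp
      · simp [Ne.symm hj.2.1, Ne.symm k.2, Ne.symm l.2]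
      · have hkl' : k.1 ≠ l.1 := fun e => hkl (Subtype.ext e)
        simp [Ne.symm hj.2.2.1, Ne.symm hj.2.2.2, hkl']
      · have hkl' : k.1 ≠ l.1 := fun e => hkl (Subtype.ext e)
        rcases hikl with e | e <;> subst e <;>
          simp [Ne.symm hj.2.2.1, Ne.symm hj.2.2.2, hkl', hε1]
    · push Not at hikl
      refine ⟨Function.update (Function.update 1 i ε) j ε⁻¹, d2_prod (Ne.symm hj.1) ε, ?_, ?_, ?_⟩
      · simp [Ne.symm hj.2.1, Ne.symm him]
      · simp [Ne.symm hj.2.2.1, Ne.symm hj.2.2.2, Ne.symm hikl.1, Ne.symm hikl.2]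
      · simp [Ne.symm hj.1, hε1]
  have htK := hM _ (dg_mem_sl htprod) (mon_dg t)
  set G' := dg t * G * (dg t)⁻¹
  have hG'K : G' * G⁻¹ ∈ K :=
    K.mul_mem (K.mul_mem (K.mul_mem htK g.2.1) (K.inv_mem htK)) (K.inv_mem g.2.1)
  set ψ := φ.comp (mvLin (dg t : GL ι F)⁻¹) with hψ
  have hψx : ∀ x, ψ x = φ (mv (dg t)⁻¹ x) := fun x => by
    show φ (mvLin (dg t : GL ι F)⁻¹ x) = _
    rw [Matrix.toLin'_apply]
  have hG'x : ∀ x, mv G' x = mv T x + ψ x • ev m := by
    intro x
    obtain ⟨y, rfl⟩ : ∃ y, x = mv (dg t) y := ⟨mv (dg t)⁻¹ x, (mv_mv_inv _ x).symm⟩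
    rw [hψx, mv_inv_mv]
    show mv (dg t * G * (dg t)⁻¹) (mv (dg t) y) = _
    rw [mv_mul, mv_mul, mv_inv_mv, hGx, mv_add, mv_smul, mv_dg_ev, htm, Units.val_one, one_smul]
    congr 1
    rw [hTd, hTd, mv_add, mv_smul, mv_smul, mv_dg_ev]
    simp only [LinearMap.proj_apply, mv_dg, htkl, smul_smul]
    congr 2
    ring
  have hdiffd : IsDev (G' * G⁻¹) (ev m) ((ψ - φ).comp (mvLin G⁻¹)) := by
    intro x
    obtain ⟨y, rfl⟩ : ∃ y, x = mv G y := ⟨mv G⁻¹ x, (mv_mv_inv _ x).symm⟩
    rw [mv_mul, mv_inv_mv]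
    show _ = mv G y + (ψ - φ) (mvLin G⁻¹ (mv G y)) • ev m
    rw [Matrix.toLin'_apply, show (G⁻¹ : GL ι F).1 *ᵥ mv G y = y from mv_inv_mv G y, hG'x, hGx,
      LinearMap.sub_apply, sub_smul]
    abel
  have hGm : mv G⁻¹ (ev m) = ev m := by
    have : mv G (ev m) = ev m := by rw [hGx, hTm, hφm]; simp
    conv_lhs => rw [← this]
    rw [mv_inv_mv]
  refine elem_of_centre (by omega) hq hM ?_ ?_ ⟨_, hG'K, hdiffd⟩
  · show (ψ - φ) (mvLin G⁻¹ (ev m)) = 0
    rw [Matrix.toLin'_apply, show (G⁻¹ : GL ι F).1 *ᵥ ev m = ev m from hGm, LinearMap.sub_apply,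
      hψx, dg_inv, mv_dg_ev, map_smul, hφm, smul_zero, sub_zero]
  · intro e
    have h1 := congrArg (fun f : Module.Dual F (ι → F) => f (mv G (ev i))) e
    simp only [LinearMap.comp_apply, Matrix.toLin'_apply, LinearMap.zero_apply] at h1
    rw [show (G⁻¹ : GL ι F).1 *ᵥ mv G (ev i) = ev i from mv_inv_mv G _, LinearMap.sub_apply, hψx,
      dg_inv, mv_dg_ev, map_smul, smul_eq_mul] at h1
    have h2 : (((t⁻¹) i : Fˣ) : F) - 1 = 0 :=
      (mul_eq_zero.1 (show ((((t⁻¹) i : Fˣ) : F) - 1) * co φ i = 0 by linear_combination h1)).resolve_right hi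
    rw [Pi.inv_apply, Units.val_inv_eq_inv_val, sub_eq_zero, inv_eq_one] at h2
    exact hti h2

end Lift

end Cfsg.Agent.Imprim
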