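/-
An overgroup of the monomial group in SL of degree six that is not monomial contains a non-monomial
element fixing a coordinate line.
-/
import Mathlib
import Cfsg.Agent.Lib.Imprimitive.Monomial
set_option autoImplicit false

namespace Cfsg.Agent.Imprim

open scoped Matrix
open Matrix
open Cfsg.Agent.Transvec

attribute [-simp] Matrix.mulVec_single Matrix.mulVec_single_one

variable {ι : Type} [Fintype ι] [DecidableEq ι] {F : Type*} [Field F]

/-- A vector with support U whose image avoids zero at every coordinate that meets U, if there are fewer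
coordinates than non-zero scalars less one. -/
theorem exists_dense_image [Fintype F] [DecidableEq F] (hq : Fintype.card ι + 1 < Fintype.card F)
    (g : GL ι F) (U : Finset ι) :
    ∃ y : ι → F, (∀ i ∈ U, y i ≠ 0) ∧ (∀ i ∉ U, y i = 0) ∧
      ∀ k, (∃ i ∈ U, mv g (ev i) k ≠ 0) → mv g y k ≠ 0 := by
  induction U using Finset.induction with
  | empty => exact ⟨0, by simp, fun _ _ => rfl, fun k ⟨i, hi, _⟩ => absurd hi (by simp)⟩
  | insert j U hj ih =>
    obtain ⟨y, hy1, hy0, hy2⟩ := ih
    let bad : Finset F := insert 0 (Finset.univ.image fun k => -(mv g y k) / mv g (ev j) k)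
    obtain ⟨t, -, ht⟩ := Finset.exists_mem_notMem_of_card_lt_card
      (show bad.card < (Finset.univ : Finset F).card by
        rw [Finset.card_univ]
        refine lt_of_le_of_lt (Finset.card_insert_le _ _) (lt_of_le_of_lt ?_ hq)
        exact Nat.add_le_add_right Finset.card_image_le 1)
    simp only [bad, Finset.mem_insert, Finset.mem_image, Finset.mem_univ, true_and, not_or,
      not_exists] at ht
    refine ⟨y + t • ev j, fun i hi => ?_, fun i hi => ?_, fun k ⟨i, hi, hik⟩ => ?_⟩
    · rcases eq_or_ne i j with rfl | hij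
      · simpa [hy0 i hj] using ht.1
      · simpa [hij] using hy1 i ((Finset.mem_insert.1 hi).resolve_left hij)
    · rw [Finset.mem_insert, not_or] at hi
      simp [hy0 i hi.2, hi.1]
    · rw [mv_add, mv_smul, Pi.add_apply, Pi.smul_apply, smul_eq_mul]
      by_cases hjk : mv g (ev j) k = 0
      · rw [hjk, mul_zero, add_zero]
        refine hy2 k ⟨i, (Finset.mem_insert.1 hi).resolve_left ?_, hik⟩
        rintro rfl
        exact hik hjk
      · intro h
        refine ht.2 k ?_
        rw [div_eq_iff hjk]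
        linear_combination -h

/-- A matrix having at least two rows inside every pair of coordinates is monomial. -/
theorem mon_of_rows [DecidableEq F] (hn : Fintype.card ι = 6) {g : GL ι F}
    (h : ∀ u v, u ≠ v → 2 ≤ (Finset.univ.filter fun k => ∀ i, mv g (ev i) k ≠ 0 → i = u ∨ i = v).card) :
    Mon g := by
  classical
  -- every coordinate has a row supported on it alone
  have hsingle : ∀ u, ∃ k, ∀ i, mv g (ev i) k ≠ 0 → i = u := by
    intro u
    by_contra hc
    push Not at hc
    let R : ι → Finset ι := fun v =>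
      Finset.univ.filter fun k => ∀ i, mv g (ev i) k ≠ 0 → i = u ∨ i = v
    have hdisj : Set.PairwiseDisjoint ((Finset.univ.erase u : Finset ι) : Set ι) R := by
      intro v _ w _ hvw
      refine Finset.disjoint_left.2 fun k hk hk' => ?_
      obtain ⟨i, hi, hiu⟩ := hc k
      have h1 := ((Finset.mem_filter.1 hk).2 i hi).resolve_left hiu
      have h2 := ((Finset.mem_filter.1 hk').2 i hi).resolve_left hiu
      exact hvw (h1.symm.trans h2)
    have h1 := Finset.card_biUnion hdisj
    have h2 : 2 * (Finset.univ.erase u).card ≤ ∑ v ∈ Finset.univ.erase u, (R v).card := by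
      rw [mul_comm, ← smul_eq_mul]
      exact Finset.card_nsmul_le_sum _ _ _ fun v hv => h u v (Finset.mem_erase.1 hv).1.symm
    have h3 := Finset.card_le_univ ((Finset.univ.erase u).biUnion R)
    rw [Finset.card_erase_of_mem (Finset.mem_univ u), Finset.card_univ] at h2
    omega
  choose f hf using hsingle
  have hne : ∀ k, ∃ i, mv g (ev i) k ≠ 0 := by
    intro k
    by_contra hc
    push Not at hc
    have h1 := congrFun (mv_mv_inv g (ev k)) k
    rw [mv_eq_sum g, Finset.sum_apply] at h1
    simp [hc] at h1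
  have hinj : Function.Injective f := fun u v huv => by
    obtain ⟨i, hi⟩ := hne (f u)
    exact (hf u i hi).symm.trans (hf v i (huv ▸ hi))
  intro m
  refine ⟨f m, mv g (ev m) (f m), funext fun k => ?_⟩
  obtain ⟨u, rfl⟩ := (Finite.injective_iff_surjective.1 hinj) k
  rcases eq_or_ne u m with rfl | hum
  · simp
  · rw [Pi.smul_apply, show (ev (f m) : ι → F) (f u) = 0 from Pi.single_eq_of_ne (fun e => hum (hinj e)) _,
      smul_zero]
    by_contra hc
    exact hum (hf u m hc).symm

/-- Overgroups without a non-monomial element carrying a coordinate line to one have no column without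
zeros in degree six. -/
theorem not_full_column (hn : Fintype.card ι = 6) {K : Subgroup (GL ι F)}
    (hM : ∀ g ∈ Geo.specialLinear ι F, Mon g → g ∈ K)
    (NX : ∀ z ∈ K, ∀ (m l : ι) (c : F), mv z (ev m) = c • ev l → Mon z)
    {g : GL ι F} (hg : g ∈ K) (m : ι) : ∃ k, mv g (ev m) k = 0 := by
  classical
  by_contra hc
  push Not at hc
  set x := mv g (ev m) with hx
  let D : GL ι F := dg fun k => Units.mk0 (x k) (hc k)
  let pmH : Equiv.Perm ι →* GL ι F :=
    { toFun := pm
      map_one' := ext_mv fun y => by rw [mv_pm, mv_one]; simp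
      map_mul' := fun s t => ext_mv fun y => by
        rw [mv_mul, mv_pm, mv_pm, mv_pm]
        funext k
        simp [_root_.mul_inv_rev] }
  let Ψ : alternatingGroup ι →* GL ι F :=
    ((MulAut.conj (g⁻¹ * D)).toMonoidHom.comp pmH).comp (alternatingGroup ι).subtype
  have hΨ : ∀ s : alternatingGroup ι, Ψ s = g⁻¹ * (D * pm (s : Equiv.Perm ι) * D⁻¹) * g := fun s => by
    show g⁻¹ * D * pm (s : Equiv.Perm ι) * (g⁻¹ * D)⁻¹ = _
    group
  have hfix : ∀ s : alternatingGroup ι, mv (D * pm (s : Equiv.Perm ι) * D⁻¹) x = x := fun s => by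
    have h1 : mv D⁻¹ x = 1 := by
      rw [eq_comm, ← mv_eq_iff]
      funext k
      rw [mv_dg]
      simp
    rw [mv_mul, mv_mul, h1, mv_pm]
    funext k
    rw [mv_dg]
    simp
  have hsl : ∀ s : alternatingGroup ι, D * pm (s : Equiv.Perm ι) * D⁻¹ ∈ Geo.specialLinear ι F := fun s => by
    have hN : (Geo.specialLinear ι F).Normal := MonoidHom.normal_ker _
    refine hN.conj_mem _ ?_ D
    rw [mem_sl_iff, det_pm, show Equiv.Perm.sign (s : Equiv.Perm ι) = 1 from s.2]
    simp
  have hmon : ∀ s : alternatingGroup ι, Mon (D * pm (s : Equiv.Perm ι) * D⁻¹) := fun s =>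
    ((mon_dg _).mul fun k => ⟨(s : Equiv.Perm ι) k, 1, by rw [mv_pm_ev, one_smul]⟩).mul
      (mon_dg _).inv
  have hz : ∀ s, Mon (Ψ s) := fun s => by
    rw [hΨ]
    exact mon_conj_of_fix hM NX g hg _ (hsl s) (hmon s) m (hfix s)
  -- the permutation of coordinates
  choose σ c hσ using fun s => (hz s).exists_mp
  have hσu : ∀ s i l (a : F), a ≠ 0 → mv (Ψ s) (ev i) = a • ev l → σ s i = l := by
    intro s i l a ha h
    by_contra hne
    rw [hσ s, mv_mp_ev] at h
    have h1 := congrFun h l
    simp [Ne.symm hne] at h1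
    exact ha h1.symm
  let π : alternatingGroup ι →* Equiv.Perm ι :=
    MonoidHom.mk' σ fun s t => Equiv.ext fun i => hσu _ _ _ ((c t i : F) * c s (σ t i))
      (mul_ne_zero (Units.ne_zero _) (Units.ne_zero _)) (by
        rw [map_mul, mv_mul, hσ t, mv_mp_ev, mv_smul, hσ s, mv_mp_ev, smul_smul]
        rfl)
  have hπm : ∀ s, π s ∈ MulAction.stabilizer (Equiv.Perm ι) m := fun s => by
    refine hσu s m m 1 one_ne_zero ?_
    rw [hΨ, mv_mul, mv_mul, ← hx, hfix s, mv_inv_mv, one_smul]
  let π' := π.codRestrict _ hπm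
  haveI : IsSimpleGroup (alternatingGroup ι) :=
    alternatingGroup.isSimpleGroup (α := ι) (by rw [Nat.card_eq_fintype_card, hn]; norm_num)
  have htriv : ∀ s, π s = 1 := by
    rcases (MonoidHom.normal_ker π').eq_bot_or_eq_top with hk | hk
    · exfalso
      have hle := Nat.card_le_card_of_injective π' ((MonoidHom.ker_eq_bot_iff _).1 hk)
      haveI : Nontrivial ι := Fintype.one_lt_card_iff_nontrivial.1 (by omega)
      have h2 := two_mul_nat_card_alternatingGroup (α := ι)
      have horb : MulAction.orbit (Equiv.Perm ι) m = Set.univ :=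
        Set.eq_univ_of_forall fun y => ⟨Equiv.swap m y, Equiv.swap_apply_left m y⟩
      have h3 := Subgroup.card_mul_index (MulAction.stabilizer (Equiv.Perm ι) m)
      have hc6 : Nat.card ι = 6 := by rw [Nat.card_eq_fintype_card, hn]
      rw [MulAction.index_stabilizer, horb, Set.ncard_univ, hc6, Nat.card_perm, hc6] at h3
      rw [Nat.card_perm, hc6] at h2
      rw [show Nat.factorial 6 = 720 from rfl] at h2 h3
      omega
    · intro s
      have h : π' s = 1 := MonoidHom.mem_ker.1 (by rw [hk]; exact Subgroup.mem_top s)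
      exact congrArg (fun x : MulAction.stabilizer (Equiv.Perm ι) m => (x : Equiv.Perm ι)) h
  -- diagonal elements commute
  have hcomm : ∀ s t, Ψ s * Ψ t = Ψ t * Ψ s := fun s t => ext_ev fun i => by
    rw [hσ s, hσ t, show σ s = 1 from htriv s, show σ t = 1 from htriv t]
    simp [mv_mul, mv_mp_ev, mv_smul, smul_smul, mul_comm]
  obtain ⟨a, b, c', hab, hac, hbc⟩ := Fintype.two_lt_card_iff.1 (show 2 < Fintype.card ι by omega)
  obtain ⟨d, hd⟩ : ∃ d, d ∉ ({a, b, c'} : Finset ι) := by
    obtain ⟨d, -, hd⟩ := Finset.exists_mem_notMem_of_card_lt_card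
      (show ({a, b, c'} : Finset ι).card < (Finset.univ : Finset ι).card from
        lt_of_le_of_lt Finset.card_le_three (by rw [Finset.card_univ]; omega))
    exact ⟨d, hd⟩
  simp only [Finset.mem_insert, Finset.mem_singleton, not_or] at hd
  let s : alternatingGroup ι := ⟨Equiv.swap a b * Equiv.swap b c', by
    rw [Equiv.Perm.mem_alternatingGroup, map_mul, Equiv.Perm.sign_swap hab, Equiv.Perm.sign_swap hbc]; rfl⟩
  let t : alternatingGroup ι := ⟨Equiv.swap a b * Equiv.swap b d, by
    rw [Equiv.Perm.mem_alternatingGroup, map_mul, Equiv.Perm.sign_swap hab,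
      Equiv.Perm.sign_swap (Ne.symm hd.2.1)]; rfl⟩
  have h1 := congrArg (fun z => mv (g * z * g⁻¹) (mv D (ev c'))) (hcomm s t)
  simp only [hΨ] at h1
  have e : ∀ P Q : GL ι F, g * (g⁻¹ * (D * P * D⁻¹) * g * (g⁻¹ * (D * Q * D⁻¹) * g)) * g⁻¹ =
      D * (P * Q) * D⁻¹ := fun P Q => by group
  rw [e, e] at h1
  simp only [mv_mul, mv_inv_mv] at h1
  have h2 := mv_inj D h1
  simp only [mv_pm_ev] at h2
  have h3 : (s : Equiv.Perm ι) ((t : Equiv.Perm ι) c') = (t : Equiv.Perm ι) ((s : Equiv.Perm ι) c') := by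
    by_contra hne
    simpa [hne] using congrFun h2 ((s : Equiv.Perm ι) ((t : Equiv.Perm ι) c'))
  simp [s, t, Equiv.swap_apply_of_ne_of_ne, hab, hac, hbc, Ne.symm hac, Ne.symm hbc,
    hd, Ne.symm hd.1, Ne.symm hd.2.1, Ne.symm hd.2.2] at h3

/-- In odd characteristic all columns are full. -/
theorem full_columns [DecidableEq F] (hn : Fintype.card ι = 6) (h2 : (2 : F) ≠ 0) {K : Subgroup (GL ι F)}
    (hM : ∀ g ∈ Geo.specialLinear ι F, Mon g → g ∈ K)
    (NX : ∀ z ∈ K, ∀ (m l : ι) (c : F), mv z (ev m) = c • ev l → Mon z)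
    (hA : ∀ g ∈ K, ¬ Mon g → ∀ m, (Finset.univ.filter fun k => mv g (ev m) k = 0).card ≤ 2)
    {g : GL ι F} (hg : g ∈ K) (hgm : ¬ Mon g) (m o : ι) : mv g (ev m) o ≠ 0 := by
  classical
  intro ho
  set x := mv g (ev m) with hx
  set y := mv g⁻¹ (ev o) with hy
  set S := Finset.univ.filter fun k => y k ≠ 0 with hS
  have hS4 : 4 ≤ S.card := by
    have h1 := hA g⁻¹ (K.inv_mem hg) (fun h => hgm (by simpa using h.inv)) o
    have h2' := Finset.card_filter_add_card_filter_not (s := (Finset.univ : Finset ι)) (fun k => y k = 0)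
    rw [Finset.card_univ, hn] at h2'
    rw [← hy] at h1
    rw [hS]
    simp only [ne_eq]
    omega
  -- the conjugate of a signed transposition fixing the column
  have key : ∀ a b, a ≠ b → x a ≠ 0 → x b ≠ 0 → S.card = 4 ∧
      ∃ (σ : Equiv.Perm ι) (c : ι → Fˣ),
        (∀ v, mv (g * mp σ c * g⁻¹) (ev v) = if v = o then -ev v else
          if v = a then (x b / x a) • ev b else if v = b then (x a / x b) • ev a else ev v) ∧
        (∀ i, i ∈ S → σ i ≠ i ∧ σ i ∈ S ∧ σ (σ i) = i ∧ (c i : F) * y i = -y (σ i)) ∧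
        ∀ i, i ∉ S → σ i = i ∧ (c i : F) = 1 := by
    intro a b hab ha hb
    have hao : a ≠ o := fun e => ha (e ▸ ho)
    have hbo : b ≠ o := fun e => hb (e ▸ ho)
    let π : Equiv.Perm ι := Equiv.swap a b
    let cc : ι → Fˣ := Function.update (Function.update (Function.update 1
      a (Units.mk0 (x b / x a) (div_ne_zero hb ha))) b (Units.mk0 (x a / x b) (div_ne_zero ha hb))) o (-1)
    have ca : (cc a : F) = x b / x a := by simp [cc, hao, hab]
    have cb : (cc b : F) = x a / x b := by simp [cc, hbo]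
    have c_o : (cc o : F) = -1 := by simp [cc]
    have co : ∀ k, k ≠ a → k ≠ b → k ≠ o → (cc k : F) = 1 := fun k h1 h2 h3 => by simp [cc, h1, h2, h3]
    have πo : ∀ k, k ≠ a → k ≠ b → π k = k := fun k h1 h2 => Equiv.swap_apply_of_ne_of_ne h1 h2
    have hev : ∀ v, mv (mp π cc) (ev v) = if v = o then -ev v else
        if v = a then (x b / x a) • ev b else if v = b then (x a / x b) • ev a else ev v := by
      intro v
      rw [mv_mp_ev]
      split_ifs with h1 h3 h4
      · subst h1; rw [πo _ (Ne.symm hao) (Ne.symm hbo), c_o, neg_one_smul]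
      · subst h3; rw [Equiv.swap_apply_left, ca]
      · subst h4; rw [Equiv.swap_apply_right, cb]
      · rw [πo _ h3 h4, co _ h3 h4 h1, one_smul]
    have hsl : mp π cc ∈ Geo.specialLinear ι F := by
      rw [mem_sl_iff, det_mp, Equiv.Perm.sign_swap hab,
        ← Finset.prod_subset (Finset.subset_univ {a, b, o}) fun k _ hk => by
        simp only [Finset.mem_insert, Finset.mem_singleton, not_or] at hk
        exact co k hk.1 hk.2.1 hk.2.2]
      rw [Finset.prod_insert (by simp [hab, hao]), Finset.prod_pair hbo, ca, cb, c_o]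
      simp
      field_simp
    let W : Submodule F (ι → F) := Submodule.span F {x b • ev b - x a • ev a, ev o}
    have hdev : ∀ y, mv (mp π cc) y - y ∈ W := by
      refine dev_of_ev fun k => ?_
      rw [hev]
      refine Submodule.mem_span_pair.2 ?_
      split_ifs with h1 h3 h4
      · exact ⟨0, -2, by subst h1; module⟩
      · subst h3
        refine ⟨(x k)⁻¹, 0, ?_⟩
        rw [zero_smul, add_zero, smul_sub, smul_smul, smul_smul, inv_mul_cancel₀ ha, one_smul,
          inv_mul_eq_div]
      · subst h4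
        refine ⟨-(x k)⁻¹, 0, ?_⟩
        rw [zero_smul, add_zero, smul_sub, smul_smul, smul_smul, neg_mul, inv_mul_cancel₀ hb, neg_mul,
          inv_mul_eq_div, neg_smul, one_smul, neg_smul]
        abel
      · exact ⟨0, 0, by simp⟩
    have hfix : mv (mp π cc) x = x := by
      funext k
      rw [mv_mp]
      obtain ⟨l, rfl⟩ := π.surjective k
      simp only [show π⁻¹ (π l) = l from π.symm_apply_apply l]
      by_cases h1 : l = a
      · subst h1; rw [ca, div_mul_cancel₀ _ ha, Equiv.swap_apply_left]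
      by_cases h3 : l = b
      · subst h3; rw [cb, div_mul_cancel₀ _ hb, Equiv.swap_apply_right]
      rw [πo l h1 h3]
      by_cases h4 : l = o
      · subst h4; rw [ho, mul_zero]
      · rw [co l h1 h3 h4, one_mul]
    have hz := mon_conj_of_fix hM NX g hg _ hsl (mon_mp π cc) m hfix
    obtain ⟨σ, c, hσ⟩ := hz.exists_mp
    have hdz := dev_conj g _ W hdev
    rw [hσ] at hdz
    have hWr : Module.finrank F (W.map (mvLin g⁻¹)) ≤ 2 :=
      (Submodule.finrank_map_le _ W).trans (finrank_span_pair_le _ _)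
    have hzy : mv (mp σ c) y = -y := by
      rw [← hσ, hy, mv_mul, mv_mul, mv_mv_inv, hev, if_pos rfl, mv_neg]
    have hw2 : mp π cc * mp π cc = (1 : GL ι F) := ext_ev fun k => by
      rw [mv_mul, hev, mv_one]
      split_ifs with h1 h3 h4
      · rw [mv_neg, hev, if_pos h1, neg_neg]
      · subst h3
        rw [mv_smul, hev, if_neg hbo, if_neg (Ne.symm hab), if_pos rfl, smul_smul,
          show x b / x k * (x k / x b) = 1 by field_simp, one_smul]
      · subst h4
        rw [mv_smul, hev, if_neg hao, if_pos rfl, smul_smul,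
          show x a / x k * (x k / x a) = 1 by field_simp, one_smul]
      · rw [hev, if_neg h1, if_neg h3, if_neg h4]
    have hz2 : mp σ c * mp σ c = (1 : GL ι F) := by
      rw [← hσ, show g⁻¹ * mp π cc * g * (g⁻¹ * mp π cc * g) = g⁻¹ * (mp π cc * mp π cc) * g by group,
        hw2, mul_one, inv_mul_cancel]
    set J := moved (mp σ c) with hJ
    have hJ4 : J.card ≤ 4 := by
      by_contra hc'
      push Not at hc'
      have pick : ∀ s : Finset ι, s.card ≤ 4 → ∃ i ∈ J, i ∉ s := fun s hs =>
        Finset.exists_mem_notMem_of_card_lt_card (by omega)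
      obtain ⟨i1, hi1, -⟩ := pick ∅ (by simp)
      obtain ⟨i2, hi2, hi2'⟩ := pick {i1, σ i1} (Finset.card_le_two.trans (by norm_num))
      obtain ⟨i3, hi3, hi3'⟩ := pick {i1, σ i1, i2, σ i2} Finset.card_le_four
      simp only [Finset.mem_insert, Finset.mem_singleton, not_or] at hi2' hi3'
      exact absurd hWr (not_le.2 (three_le_dev hdz hi1 hi2 hi3 hi2' hi3'))
    have hSJ : S = J := Finset.eq_of_subset_of_card_le (fun k hk => by
      by_contra hkJ
      have h1 := sub_apply_of_notMem_moved (mon_mp σ c) y hkJ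
      rw [hzy] at h1
      simp only [Pi.sub_apply, Pi.neg_apply] at h1
      have h3 : (2 : F) * y k = 0 := by linear_combination -h1
      exact (Finset.mem_filter.1 hk).2 ((mul_eq_zero.1 h3).resolve_left h2)) (hJ4.trans hS4)
    have hinv : ∀ i, σ (σ i) = i := fun i => by
      have h1 := congrArg (fun z : GL ι F => mv z (ev i) (σ (σ i))) hz2
      simp only [mv_mul, mv_mp_ev, mv_smul, mv_one] at h1
      by_contra hne
      simp [hne] at h1
    have hout : ∀ i, i ∉ S → σ i = i ∧ (c i : F) = 1 := fun i hi => by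
      rw [hSJ, mem_moved, not_not, mv_mp_ev] at hi
      have h1 : σ i = i := by
        by_contra hne
        simpa [Ne.symm hne] using congrFun hi i
      exact ⟨h1, by simpa [h1] using congrFun hi i⟩
    refine ⟨le_antisymm (hSJ ▸ hJ4) hS4, σ, c, fun v => ?_, fun i hi => ?_, hout⟩
    · rw [← hσ, ← hev, show g * (g⁻¹ * mp π cc * g) * g⁻¹ = mp π cc by group]
    · have hfree : ∀ i ∈ S, σ i ≠ i := by
        intro i1 hi1 h1
        have hS3 : ∀ s : Finset ι, s.card ≤ 3 → ∃ i ∈ S, i ∉ s := fun s hs =>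
          Finset.exists_mem_notMem_of_card_lt_card (by omega)
        obtain ⟨i2, hi2, hi2'⟩ := hS3 {i1} (by simp)
        obtain ⟨i3, hi3, hi3'⟩ := hS3 {i1, i2, σ i2} Finset.card_le_three
        simp only [Finset.mem_insert, Finset.mem_singleton, not_or] at hi2' hi3'
        rw [hSJ] at hi1 hi2 hi3
        exact absurd hWr (not_le.2 (three_le_dev hdz hi1 hi2 hi3 ⟨hi2', h1.symm ▸ hi2'⟩
          ⟨hi3'.1, h1.symm ▸ hi3'.1, hi3'.2.1, hi3'.2.2⟩))
      have hyσ := congrFun hzy (σ i)
      rw [mv_mp] at hyσ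
      simp only [show σ⁻¹ (σ i) = i from σ.symm_apply_apply i] at hyσ
      refine ⟨hfree i hi, ?_, hinv i, by simpa using hyσ⟩
      by_contra hs
      have := (hout _ hs).1
      rw [hinv] at this
      exact hfree i hi this.symm
  -- four pairs but only three fixed point free involutions
  have hcol : 4 ≤ (Finset.univ.filter fun k => x k ≠ 0).card := by
    have h1 := hA g hg hgm m
    have h2' := Finset.card_filter_add_card_filter_not (s := (Finset.univ : Finset ι))
      (fun k => mv g (ev m) k = 0)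
    rw [Finset.card_univ, hn] at h2'
    simp only [ne_eq, hx]
    omega
  set P := ((Finset.univ.filter fun k => x k ≠ 0).powersetCard 2) with hP
  have hPc : 6 ≤ P.card := by
    rw [hP, Finset.card_powersetCard]
    calc 6 = Nat.choose 4 2 := rfl
      _ ≤ _ := Nat.choose_le_choose 2 hcol
  have hdata : ∀ p ∈ P, ∃ a b, a ≠ b ∧ x a ≠ 0 ∧ x b ≠ 0 ∧ p = {a, b} := fun p hp => by
    rw [hP, Finset.mem_powersetCard, Finset.card_eq_two] at hp
    obtain ⟨hsub, a, b, hab, rfl⟩ := hp
    exact ⟨a, b, hab, (Finset.mem_filter.1 (hsub (by simp))).2, (Finset.mem_filter.1 (hsub (by simp))).2, rfl⟩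
  choose A B hAB hxA hxB hpe using hdata
  have hk := fun p hp => key (A p hp) (B p hp) (hAB p hp) (hxA p hp) (hxB p hp)
  obtain ⟨p0, hp0⟩ : P.Nonempty := Finset.card_pos.1 (by omega)
  have hSc : S.card = 4 := (hk p0 hp0).1
  choose σ c hw hin hout using fun p hp => (hk p hp).2
  obtain ⟨i0, hi0⟩ : S.Nonempty := Finset.card_pos.1 (by omega)
  let f : ι → P → ι := fun i p => σ p.1 p.2 i
  obtain ⟨p, -, p', -, hpp, heq⟩ := Finset.exists_ne_map_eq_of_card_lt_of_maps_to
    (s := (Finset.univ : Finset P)) (t := S.erase i0)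
    (by rw [Finset.card_erase_of_mem hi0, Finset.card_univ, Fintype.card_coe]; omega)
    (f := f i0) (fun p _ => Finset.mem_coe.2 (Finset.mem_erase.2 ⟨(hin p.1 p.2 i0 hi0).1,
      (hin p.1 p.2 i0 hi0).2.1⟩))
  simp only [f] at heq
  have hσeq : ∀ i, σ p.1 p.2 i = σ p'.1 p'.2 i := by
    intro i
    by_cases hi : i ∈ S
    swap
    · rw [(hout p.1 p.2 i hi).1, (hout p'.1 p'.2 i hi).1]
    obtain ⟨hne, hm1, hs, -⟩ := hin p.1 p.2 i hi
    obtain ⟨hne', hm1', hs', -⟩ := hin p'.1 p'.2 i hi
    obtain ⟨hj, hjS, hjj, -⟩ := hin p.1 p.2 i0 hi0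
    have hjj' := (hin p'.1 p'.2 i0 hi0).2.2.1
    rcases eq_or_ne i i0 with rfl | h0
    · exact heq
    rcases eq_or_ne i (σ p.1 p.2 i0) with h1 | h1
    · rw [h1, hjj, heq, hjj']
    -- the remaining two points of S
    by_contra hd
    have h4 : ({i0, σ p.1 p.2 i0, i, σ p.1 p.2 i, σ p'.1 p'.2 i} : Finset ι) ⊆ S := by
      intro k hk
      simp only [Finset.mem_insert, Finset.mem_singleton] at hk
      rcases hk with rfl | rfl | rfl | rfl | rfl <;> assumption
    have hc := Finset.card_le_card h4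
    rw [Finset.card_insert_of_notMem, Finset.card_insert_of_notMem, Finset.card_insert_of_notMem,
      Finset.card_pair hd, hSc] at hc
    · omega
    · simp only [Finset.mem_insert, Finset.mem_singleton, not_or]
      exact ⟨hne.symm, hne'.symm⟩
    · simp only [Finset.mem_insert, Finset.mem_singleton, not_or]
      refine ⟨Ne.symm h1, fun h => h0 ((σ p.1 p.2).injective h).symm, fun h => h0 ?_⟩
      rw [heq] at h
      exact ((σ p'.1 p'.2).injective h).symm
    · simp only [Finset.mem_insert, Finset.mem_singleton, not_or]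
      refine ⟨hj.symm, Ne.symm h0, fun h => h1 ?_, fun h => h1 ?_⟩
      · rw [h, hs]
      · rw [heq, h, hs']
  have hmp : mp (σ p.1 p.2) (c p.1 p.2) = (mp (σ p'.1 p'.2) (c p'.1 p'.2) : GL ι F) := ext_ev fun i => by
    rw [mv_mp_ev, mv_mp_ev, hσeq i]
    congr 1
    by_cases hi : i ∈ S
    · refine mul_right_cancel₀ (Finset.mem_filter.1 hi).2 ?_
      rw [(hin p.1 p.2 i hi).2.2.2, (hin p'.1 p'.2 i hi).2.2.2, hσeq i]
    · rw [(hout p.1 p.2 i hi).2, (hout p'.1 p'.2 i hi).2]
  -- so the pairs agree
  apply hpp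
  apply Subtype.ext
  have hsub : ∀ v, v = A p.1 p.2 ∨ v = B p.1 p.2 → v = A p'.1 p'.2 ∨ v = B p'.1 p'.2 := by
    intro v hv
    by_contra hcon
    rw [not_or] at hcon
    have h1 := hw p'.1 p'.2 v
    rw [← hmp, hw p.1 p.2 v, if_neg hcon.1, if_neg hcon.2] at h1
    have hvo : v ≠ o := by
      rintro rfl
      rcases hv with h | h
      · exact hxA p.1 p.2 (h ▸ ho)
      · exact hxB p.1 p.2 (h ▸ ho)
    rw [if_neg hvo, if_neg hvo] at h1
    have h3 := congrFun h1 v
    rcases hv with rfl | rfl
    · simp [hAB p.1 p.2] at h3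
    · simp [(hAB p.1 p.2).symm] at h3
  rw [hpe p.1 p.2, hpe p'.1 p'.2]
  refine Finset.eq_of_subset_of_card_le (fun v hv => ?_) ?_
  · rw [Finset.mem_insert, Finset.mem_singleton] at hv ⊢
    exact hsub v hv
  · rw [Finset.card_pair (hAB p.1 p.2), Finset.card_pair (hAB p'.1 p'.2)]

/-- In degree six an overgroup in SL of the monomial subgroup, if not monomial, has a non-monomial element
mapping some coordinate line to a coordinate line. -/
theorem exists_line_six (hn : Fintype.card ι = 6) (hq : 5 ≤ Nat.card F) {K : Subgroup (GL ι F)}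
    (hM : ∀ g ∈ Geo.specialLinear ι F, Mon g → g ∈ K)
    (hne : ∃ g ∈ K, ¬ Mon g) : ∃ z ∈ K, ¬ Mon z ∧ ∃ (m : ι) (c : F), mv z (ev m) = c • ev m := by
  classical
  haveI : Finite F := Nat.finite_of_card_ne_zero (by omega)
  haveI : Fintype F := Fintype.ofFinite F
  by_contra hcon
  push Not at hcon
  have NX : ∀ z ∈ K, ∀ (m l : ι) (c : F), mv z (ev m) = c • ev l → Mon z := by
    intro z hz m l c h
    by_contra hz'
    obtain ⟨d, hd, -⟩ := exists_mp_mem_sl (F := F) (Equiv.swap l m) l
    refine hcon _ (K.mul_mem (hM _ hd (mon_mp _ d)) hz) (fun h' => hz' ((mon_mp _ d).of_mul_left h')) m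
      (c * (d l : F)) ?_
    rw [mv_mul, h, mv_smul, mv_mp_ev, smul_smul, Equiv.swap_apply_left]
  have hA := col_zeros hq hM NX
  obtain ⟨g0, hg0, hg0m⟩ := hne
  haveI : Nonempty ι := Fintype.card_pos_iff.1 (by omega)
  by_cases h2 : (2 : F) = 0
  swap
  · obtain ⟨k, hk⟩ := not_full_column hn hM NX hg0 (Classical.arbitrary ι)
    exact full_columns hn h2 hM NX hA hg0 hg0m _ k hk
  have hq8 : Fintype.card ι + 1 < Fintype.card F := by
    haveI : CharP F 2 := CharTwo.of_one_ne_zero_of_two_eq_zero one_ne_zero h2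
    obtain ⟨l, hl2, hl⟩ := FiniteField.card F 2
    rw [hn, hl]
    rw [Nat.card_eq_fintype_card, hl] at hq
    have h3 : 3 ≤ (l : ℕ) := by
      by_contra hc
      have := Nat.pow_le_pow_right (show 0 < 2 by norm_num) (show (l : ℕ) ≤ 2 by omega)
      omega
    have := Nat.pow_le_pow_right (show 0 < 2 by norm_num) h3
    omega
  -- a column with the largest support
  let supp : GL ι F → ι → Finset ι := fun g m => Finset.univ.filter fun k => mv g (ev m) k ≠ 0
  let T : Finset (GL ι F × ι) := Finset.univ.filter fun z => z.1 ∈ K ∧ ¬ Mon z.1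
  obtain ⟨⟨g, m⟩, hgm, hmax⟩ := T.exists_max_image (fun z => (supp z.1 z.2).card)
    ⟨(g0, Classical.arbitrary ι), Finset.mem_filter.2 ⟨Finset.mem_univ _, hg0, hg0m⟩⟩
  simp only [T, Finset.mem_filter, Finset.mem_univ, true_and] at hgm hmax
  obtain ⟨hg, hgn⟩ := hgm
  set s := (supp g m).card with hs
  obtain ⟨o, ho⟩ := not_full_column hn hM NX hg m
  have hs5 : s ≤ 5 := by
    have h1 : supp g m ⊆ Finset.univ.erase o := fun k hk => Finset.mem_erase.2
      ⟨fun e => (Finset.mem_filter.1 hk).2 (e ▸ ho), Finset.mem_univ _⟩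
    have h3 := Finset.card_le_card h1
    rw [Finset.card_erase_of_mem (Finset.mem_univ o), Finset.card_univ, hn] at h3
    exact h3
  have hs4 : 4 ≤ s := by
    have h1 := hA g hg hgn m
    have h3 := Finset.card_filter_add_card_filter_not (s := (Finset.univ : Finset ι))
      (fun k => mv g (ev m) k = 0)
    rw [Finset.card_univ, hn] at h3
    simp only [hs, supp, ne_eq]
    omega
  -- in every set of the same size at most s rows are met
  have hrows : ∀ U : Finset ι, U.card = s →
      (Finset.univ.filter fun k => ∃ i ∈ U, mv g (ev i) k ≠ 0).card ≤ s := by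
    intro U hU
    obtain ⟨y, hy1, hy0, hy2⟩ := exists_dense_image hq8 g U
    obtain ⟨σ, hσ⟩ : ∃ σ : Equiv.Perm ι, ∀ k, σ k ∈ U ↔ k ∈ supp g m := by
      let e1 : {k // k ∈ supp g m} ≃ {k // k ∈ U} :=
        Fintype.equivOfCardEq (by rw [Fintype.card_coe, Fintype.card_coe, hU])
      refine ⟨e1.extendSubtype, fun k => ⟨fun h => ?_, fun h => e1.extendSubtype_mem k h⟩⟩
      by_contra hk
      exact e1.extendSubtype_not_mem k hk h
    have ho' : o ∉ supp g m := fun h => (Finset.mem_filter.1 h).2 ho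
    set x := mv g (ev m) with hx
    have hxm : ∀ k, k ∈ supp g m ↔ x k ≠ 0 := fun k => by simp [supp, hx]
    let c0 : ι → Fˣ := fun k => if h : x k ≠ 0 then
      Units.mk0 (y (σ k) / x k) (div_ne_zero (hy1 _ ((hσ k).2 ((hxm k).2 h))) h) else 1
    let P0 : Fˣ := ∏ k, c0 k
    let e0 : Fˣ := if Equiv.Perm.sign σ = 1 then 1 else -1
    let c : ι → Fˣ := Function.update c0 o (P0⁻¹ * e0 * c0 o)
    have hcne : ∀ k, k ≠ o → c k = c0 k := fun k hk => Function.update_of_ne hk _ _
    have hsl : mp σ c ∈ Geo.specialLinear ι F := by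
      rw [mem_sl_iff, det_mp, ← Units.coe_prod]
      have hp : ∏ k, c k = e0 := by
        rw [← Finset.mul_prod_erase _ _ (Finset.mem_univ o),
          Finset.prod_congr rfl fun k hk => hcne k (Finset.ne_of_mem_erase hk)]
        show Function.update c0 o _ o * _ = e0
        rw [Function.update_self, mul_assoc, Finset.mul_prod_erase _ c0 (Finset.mem_univ o)]
        show P0⁻¹ * e0 * P0 = e0
        rw [mul_comm P0⁻¹, inv_mul_cancel_right]
      rw [hp]
      rcases Int.units_eq_one_or (Equiv.Perm.sign σ) with h | h <;> simp [e0, h]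
    have hwx : mv (mp σ c) x = y := by
      funext k
      obtain ⟨l, rfl⟩ := σ.surjective k
      rw [mv_mp]
      simp only [show σ⁻¹ (σ l) = l from σ.symm_apply_apply l]
      by_cases hl : x l = 0
      · rw [hl, mul_zero, hy0 _ fun h => (hxm l).1 ((hσ l).1 h) hl]
      · rw [hcne l fun e => hl (e ▸ ho)]
        simp only [c0, dif_pos hl, Units.val_mk0]
        rw [div_mul_cancel₀ _ hl]
    set z := g * mp σ c * g with hz
    have hzK : z ∈ K := K.mul_mem (K.mul_mem hg (hM _ hsl (mon_mp σ c))) hg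
    have hzx : mv z (ev m) = mv g y := by rw [hz, mv_mul, mv_mul, ← hx, hwx]
    by_cases hzm : Mon z
    · exfalso
      obtain ⟨l, μ, hl⟩ := hzm m
      rw [hzx] at hl
      obtain ⟨i, hi⟩ : U.Nonempty := Finset.card_pos.1 (by omega)
      refine hgn (NX g hg i l (mv g (ev i) l) (funext fun k => ?_))
      rcases eq_or_ne k l with rfl | hk
      · simp
      · rw [Pi.smul_apply, show (ev l : ι → F) k = 0 from Pi.single_eq_of_ne hk _, smul_zero]
        by_contra hne'
        exact hy2 k ⟨i, hi, hne'⟩ (by rw [hl]; simp [hk])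
    · refine le_trans (Finset.card_le_card fun k hk => ?_) (hmax (z, m) ⟨hzK, hzm⟩)
      simp only [supp, Finset.mem_filter, Finset.mem_univ, true_and] at hk ⊢
      rw [hzx]
      exact hy2 k hk
  -- so all rows are supported on single coordinates
  have hV : ∀ V : Finset ι, V.card = 6 - s →
      6 - s ≤ (Finset.univ.filter fun k => ∀ i, mv g (ev i) k ≠ 0 → i ∈ V).card := by
    intro V hV
    have h1 := hrows Vᶜ (by rw [Finset.card_compl, hn, hV]; omega)
    have h3 := Finset.card_filter_add_card_filter_not (s := (Finset.univ : Finset ι))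
      (fun k => ∃ i ∈ Vᶜ, mv g (ev i) k ≠ 0)
    rw [Finset.card_univ, hn] at h3
    calc 6 - s ≤ (Finset.univ.filter fun k => ¬∃ i ∈ Vᶜ, mv g (ev i) k ≠ 0).card := by omega
      _ ≤ _ := Finset.card_le_card fun k hk => ?_
    simp only [Finset.mem_filter, Finset.mem_univ, true_and, not_exists, not_and,
      Finset.mem_compl] at hk ⊢
    exact fun i hi => by_contra fun hiV => hk i hiV hi
  refine hgn (mon_of_rows hn fun u v huv => ?_)
  rcases (show s = 4 ∨ s = 5 by omega) with h | h
  · have h1 := hV {u, v} (by rw [Finset.card_pair huv]; omega)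
    rw [h] at h1
    simpa using h1
  · have h1 : ∀ w, ∃ k, ∀ i, mv g (ev i) k ≠ 0 → i = w := fun w => by
      have := hV {w} (by rw [Finset.card_singleton]; omega)
      obtain ⟨k, hk⟩ := Finset.card_pos.1 (show 0 < _ from lt_of_lt_of_le (by omega) this)
      exact ⟨k, fun i hi => by simpa using (Finset.mem_filter.1 hk).2 i hi⟩
    obtain ⟨k, hk⟩ := h1 u
    obtain ⟨l, hl⟩ := h1 v
    have hkl : k ≠ l := by
      rintro rfl
      obtain ⟨i, hi⟩ : ∃ i, mv g (ev i) k ≠ 0 := by
        by_contra hc
        push Not at hc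
        have h4 := congrFun (mv_mv_inv g (ev k)) k
        rw [mv_eq_sum g, Finset.sum_apply] at h4
        simp [hc] at h4
      exact huv ((hk i hi).symm.trans (hl i hi))
    refine le_trans (le_of_eq (Finset.card_pair hkl).symm) (Finset.card_le_card fun j hj => ?_)
    simp only [Finset.mem_insert, Finset.mem_singleton] at hj
    simp only [Finset.mem_filter, Finset.mem_univ, true_and]
    rcases hj with rfl | rfl
    · exact fun i hi => Or.inl (hk i hi)
    · exact fun i hi => Or.inr (hl i hi)

end Cfsg.Agent.Imprim
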