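/-
Maximality of imprimitive subgroups of SL.
-/
import Mathlib
import Cfsg.Agent.Lib.Imprimitive.Basic
import Cfsg.Agent.Lib.Imprimitive.Monomial
import Cfsg.Agent.Lib.Imprimitive.MonomialSix
import Cfsg.Agent.Lib.Imprimitive.Elem
import Cfsg.Agent.Lib.Imprimitive.Block
set_option autoImplicit false

namespace Cfsg.Agent.Imprim

open scoped Matrix
open Matrix
open Cfsg.Agent.Transvec

attribute [-simp] Matrix.mulVec_single Matrix.mulVec_single_one

variable {ι : Type} [Fintype ι] [DecidableEq ι] {F : Type*} [Field F] {t m : ℕ}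

theorem blockMon_mp {e : ι ≃ Fin t × Fin m} {σ : Equiv.Perm ι} {c : ι → Fˣ}
    (h : ∀ i j, (e i).1 = (e j).1 → (e (σ i)).1 = (e (σ j)).1) : BlockMon e (mp σ c) := by
  intro i
  rcases Nat.eq_zero_or_pos m with rfl | hm
  · exact ⟨i, fun x _ k _ => absurd (e k).2.2 (Nat.not_lt_zero _)⟩
  refine ⟨(e (σ (e.symm (i, ⟨0, hm⟩)))).1, fun x hx k hk => ?_⟩
  rw [mv_mp]
  have : (e (σ⁻¹ k)).1 ≠ i := by
    intro he
    apply hk
    have := h (σ⁻¹ k) (e.symm (i, ⟨0, hm⟩)) (by simp only [Equiv.apply_symm_apply]; exact he)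
    rwa [show σ (σ⁻¹ k) = k from σ.apply_symm_apply k] at this
  exact mul_eq_zero_of_right _ (hx _ this)

theorem mon_of_blockMon {e : ι ≃ Fin t × Fin 1} {g : GL ι F} (h : BlockMon e g) : Mon g := by
  intro k
  obtain ⟨j, hj⟩ := h (e k).1
  refine ⟨e.symm (j, 0), mv g (ev k) (e.symm (j, 0)), funext fun r => ?_⟩
  by_cases hr : r = e.symm (j, 0)
  · subst hr; simp
  · have : (e r).1 ≠ j := fun hc => hr (by
      rw [Equiv.eq_symm_apply]
      exact Prod.ext hc (Subsingleton.elim _ _))
    have := hj (ev k) (by simpa using inBlock_ev e k (1 : F)) r this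
    simp [this, hr]

theorem blockMon_of_mon {e : ι ≃ Fin t × Fin 1} {g : GL ι F} (h : Mon g) : BlockMon e g := by
  obtain ⟨σ, c, rfl⟩ := h.exists_mp
  refine blockMon_mp fun i j hij => ?_
  have : i = j := e.injective (Prod.ext hij (Subsingleton.elim _ _))
  rw [this]

/-- Maximality for the standard decomposition. -/
theorem eq_or_sl_le (hn : Fintype.card ι = 6 ∨ 10 ≤ Fintype.card ι) (hm : 0 < m)
    (e : ι ≃ Fin t × Fin m) [Finite F]
    (h1 : m = 1 → 5 ≤ Nat.card F) (h2 : m = 2 → 3 ≤ Nat.card F) {K : Subgroup (GL ι F)}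
    (hK : K ≤ Geo.specialLinear ι F) (hM : ∀ g ∈ Geo.specialLinear ι F, BlockMon e g → g ∈ K)
    (hne : ∃ g ∈ K, ¬ BlockMon e g) : Geo.specialLinear ι F ≤ K := by
  classical
  have hperm : ∀ (σ : Equiv.Perm ι) (c : ι → Fˣ), mp σ c ∈ Geo.specialLinear ι F →
      (∀ i j, (e i).1 = (e j).1 → (e (σ i)).1 = (e (σ j)).1) → mp σ c ∈ K :=
    fun σ c hsl h => hM _ hsl (blockMon_mp h)
  rcases Nat.lt_or_ge m 2 with hlt | hge
  · obtain rfl : m = 1 := by omega
    have hq := h1 rfl
    have hMon : ∀ g ∈ Geo.specialLinear ι F, Mon g → g ∈ K := fun g hg h => hM g hg (blockMon_of_mon h)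
    obtain ⟨g, hg, hgb⟩ := hne
    obtain ⟨z, hzK, hz, k, c, hzk⟩ : ∃ z ∈ K, ¬ Mon z ∧ ∃ (m : ι) (c : F), mv z (ev m) = c • ev m := by
      rcases hn with hn | hn
      · exact exists_line_six hn hq hMon ⟨g, hg, fun h => hgb (blockMon_of_mon h)⟩
      · exact exists_line hn hq hK hMon ⟨g, hg, fun h => hgb (blockMon_of_mon h)⟩
    obtain ⟨k, l, hkl, a, ha, h⟩ := elem_of_line (by omega) hq hK hMon hzK hz hzk
    have inj : ∀ i j, (e i).1 = (e j).1 → i = j := fun i j hij =>
      e.injective (Prod.ext hij (Subsingleton.elim _ _))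
    exact sl_le (by omega) e hperm (fun k l hkl hb μ => absurd (inj k l hb) hkl)
      (fun hb => hkl (inj k l hb)) ha h
  · have hex : 3 ≤ m ∨ 3 ≤ t ∧ ∃ c : F, c ≠ 0 ∧ c ≠ 1 := by
      rcases Nat.lt_or_ge 2 m with h | h
      · exact Or.inl h
      · have hm2 : m = 2 := by omega
        refine Or.inr ⟨?_, ?_⟩
        · have hcard := Fintype.card_congr e
          rw [Fintype.card_prod, Fintype.card_fin, Fintype.card_fin, hm2] at hcard
          omega
        · haveI := Fintype.ofFinite F
          obtain ⟨c, -, hc⟩ := Finset.exists_mem_notMem_of_card_lt_card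
            (show ({0, 1} : Finset F).card < (Finset.univ : Finset F).card by
              rw [Finset.card_univ, ← Nat.card_eq_fintype_card]
              have := Finset.card_le_two (a := (0 : F)) (b := 1)
              have := h2 hm2
              omega)
          exact ⟨c, by simpa [not_or] using hc⟩
    obtain ⟨k, l, hkl, a, ha, h⟩ := exists_elem_block hge e hex hM hne
    refine sl_le (by omega) e hperm (fun k l hne' hb μ => ?_) hkl ha h
    have h0 : (pr l : Module.Dual F (ι → F)) (μ • ev k) = 0 := by simp [Ne.symm hne']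
    exact ⟨tv _ _ h0, hM _ (tv_mem_specialLinear h0)
      (blockMon_of_isDev (inBlock_ev e k μ) (hb ▸ funIn_pr e l) (isDev_tv h0)), isDev_tv h0⟩

/-- A decomposition is the image of the standard one. -/
theorem exists_adapted {D : Fin t → Submodule F (ι → F)} (hD : Geo.IsMDecomposition m D) :
    ∃ (e : ι ≃ Fin t × Fin m) (P : GL ι F),
      ∀ i x, InBlock e i x ↔ mv P x ∈ D i := by
  classical
  have hI : DirectSum.IsInternal D :=
    DirectSum.isInternal_submodule_of_iSupIndep_of_iSup_eq_top hD.indep hD.iSup_eq_top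
  let b : ∀ i, Module.Basis (Fin m) F (D i) := fun i => Module.finBasisOfFinrankEq F (D i) (hD.finrank_eq i)
  let B : Module.Basis (Fin t × Fin m) F (ι → F) :=
    (hI.collectedBasis b).reindex (Equiv.sigmaEquivProd (Fin t) (Fin m))
  let e : ι ≃ Fin t × Fin m := (B.indexEquiv (Pi.basisFun F ι)).symm
  let B' : Module.Basis ι F (ι → F) := B.reindex e.symm
  let L : (ι → F) ≃ₗ[F] (ι → F) := (Pi.basisFun F ι).equiv B' (Equiv.refl _)
  let P : GL ι F :=
    { val := LinearMap.toMatrix' L.toLinearMap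
      inv := LinearMap.toMatrix' L.symm.toLinearMap
      val_inv := by rw [← LinearMap.toMatrix'_comp]; simp
      inv_val := by rw [← LinearMap.toMatrix'_comp]; simp }
  have hP : ∀ x, mv P x = L x := fun x => LinearMap.toMatrix'_mulVec _ _
  have hev : ∀ k, mv P (ev k) ∈ D (e k).1 := by
    intro k
    rw [hP, show (ev k : ι → F) = Pi.basisFun F ι k from (Pi.basisFun_apply F _ k).symm,
      Module.Basis.equiv_apply]
    simp only [Equiv.refl_apply, B', Module.Basis.reindex_apply, Equiv.symm_symm, B]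
    have := hI.collectedBasis_mem b ((Equiv.sigmaEquivProd (Fin t) (Fin m)).symm (e k))
    simpa using this
  have hin : ∀ i x, InBlock e i x → mv P x ∈ D i := by
    intro i x hx
    rw [mv_eq_sum]
    refine Submodule.sum_mem _ fun k _ => ?_
    by_cases h : (e k).1 = i
    · exact Submodule.smul_mem _ _ (h ▸ hev k)
    · simp [hx k h]
  refine ⟨e, P, fun i x => ⟨hin i x, fun h => ?_⟩⟩
  let y : ι → F := fun k => if (e k).1 = i then 0 else x k
  have hy : mv P y ∈ D i := by
    have hsub : InBlock e i (x - y) := fun k hk => by simp [y, hk]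
    have := Submodule.sub_mem _ h (hin i _ hsub)
    rwa [mv_sub, sub_sub_cancel] at this
  have hy' : mv P y ∈ ⨆ (j : Fin t) (_ : j ≠ i), D j := by
    rw [mv_eq_sum]
    refine Submodule.sum_mem _ fun k _ => ?_
    by_cases hk : (e k).1 = i
    · simp [y, hk]
    · exact Submodule.smul_mem _ _ (Submodule.mem_iSup_of_mem (e k).1 (Submodule.mem_iSup_of_mem hk (hev k)))
  have h0 : mv P y = 0 := Submodule.disjoint_def.1 (hD.indep i) _ hy hy'
  intro k hk
  have := congrFun (mv_inj P (h0.trans (mv_zero P).symm)) k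
  simpa [y, hk] using this

theorem decomposition_maximal [Finite F] {n : ℕ} (hn : n = 6 ∨ 10 ≤ n) {D : Fin t → Submodule F (Fin n → F)}
    (hD : Geo.IsMDecomposition m D) (h1 : m = 1 → 5 ≤ Nat.card F) (h2 : m = 2 → 3 ≤ Nat.card F) :
    Geo.IsMaximalIn (Geo.specialLinear (Fin n) F)
      (Geo.decompositionStabilizer D ⊓ Geo.specialLinear (Fin n) F) := by
  classical
  obtain ⟨e, P, hP⟩ := exists_adapted hD
  have hinj : ∀ g : GL (Fin n) F, Function.Injective (mvLin g) := fun g x y h =>
    mv_inj g (by simpa using h)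
  have hone : ∀ i, ∃ x ∈ D i, x ≠ 0 := fun i => (D i).ne_bot_iff.1 fun h => by
    have := hD.finrank_eq i
    rw [h, finrank_bot] at this
    exact hD.pos.ne' this.symm
  have hDinj : ∀ i j, D i = D j → i = j := by
    intro i j h
    by_contra hne
    obtain ⟨x, hx, hx0⟩ := hone i
    exact hx0 (Submodule.disjoint_def.1 (hD.indep.pairwiseDisjoint hne) x hx (h ▸ hx))
  -- the stabiliser is the conjugate of the block monomial group
  have hstab : ∀ g, BlockMon e g → P * g * P⁻¹ ∈ Geo.decompositionStabilizer D := by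
    intro g hg
    choose σ hσ using hg
    have hmap : ∀ i, (D i).map (mvLin (P * g * P⁻¹)) = D (σ i) := by
      intro i
      refine Submodule.eq_of_le_of_finrank_eq ?_ ?_
      · rintro _ ⟨v, hv, rfl⟩
        rw [Matrix.toLin'_apply]
        show mv (P * g * P⁻¹) v ∈ D (σ i)
        rw [mv_mul, mv_mul, ← hP]
        refine hσ i _ ?_
        rw [hP, mv_mv_inv]
        exact hv
      · rw [← LinearEquiv.finrank_eq (Submodule.equivMapOfInjective _ (hinj _) (D i)),
          hD.finrank_eq, hD.finrank_eq]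
    have hσi : Function.Injective σ := fun i j hij =>
      hDinj i j (Submodule.map_injective_of_injective (hinj _) (by rw [hmap, hmap, hij]))
    exact ⟨Equiv.ofBijective σ (Finite.injective_iff_bijective.1 hσi), hmap⟩
  have hstab' : ∀ g, P * g * P⁻¹ ∈ Geo.decompositionStabilizer D → BlockMon e g := by
    rintro g ⟨σ, hσ⟩ i
    refine ⟨σ i, fun x hx => (hP _ _).2 ?_⟩
    have : mv (P * g * P⁻¹) (mv P x) ∈ D (σ i) := by
      rw [← hσ i]
      exact ⟨mv P x, (hP i x).1 hx, Matrix.toLin'_apply _ _⟩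
    rwa [mv_mul, mv_mul, mv_inv_mv] at this
  have hSLn : (Geo.specialLinear (Fin n) F).Normal := MonoidHom.normal_ker _
  constructor
  · -- proper
    refine lt_of_le_of_ne inf_le_right fun heq => ?_
    have hm := hD.pos
    set k := e.symm (⟨0, by have := hD.two_le; omega⟩, ⟨0, hm⟩)
    set l := e.symm (⟨1, by have := hD.two_le; omega⟩, ⟨0, hm⟩)
    have hb : (e k).1 ≠ (e l).1 := by simp [k, l, Fin.ext_iff]
    have hkl : k ≠ l := fun h => hb (by rw [h])
    have h0 : (pr l : Module.Dual F (Fin n → F)) (ev k) = 0 := by simp [hkl.symm]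
    have hmem := hSLn.conj_mem _ (tv_mem_specialLinear h0) P
    rw [← heq] at hmem
    obtain ⟨j, hj⟩ := hstab' _ hmem.1 (e l).1
    have h3 := hj (ev l) (by simpa using inBlock_ev e l (1 : F))
    rw [mv_tv] at h3
    have e1 : (e k).1 = j := by_contra fun hc => by simpa [hkl] using h3 k hc
    have e2 : (e l).1 = j := by_contra fun hc => by simpa [hkl.symm] using h3 l hc
    exact hb (e1.trans e2.symm)
  · intro M hlo hhi
    set K := M.comap (MulAut.conj P).toMonoidHom
    have hKmem : ∀ g, g ∈ K ↔ P * g * P⁻¹ ∈ M := fun g => Iff.rfl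
    by_cases hne : ∃ g ∈ K, ¬ BlockMon e g
    · right
      refine le_antisymm hhi fun g hg => ?_
      have hle := eq_or_sl_le (by simpa using hn) hD.pos e h1 h2 (K := K) (fun g hg => by
          have := hSLn.conj_mem _ (hhi ((hKmem g).1 hg)) P⁻¹
          simpa [mul_assoc] using this)
        (fun g hg hb => (hKmem g).2 (hlo ⟨hstab g hb, hSLn.conj_mem _ hg P⟩)) hne
      have := (hKmem _).1 (hle (hSLn.conj_mem _ hg P⁻¹))
      simpa [mul_assoc] using this
    · left
      push Not at hne
      refine le_antisymm (fun g hg => ⟨?_, hhi hg⟩) hlo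
      have := hstab (P⁻¹ * g * P) (hne _ ((hKmem _).2 (by simpa [mul_assoc] using hg)))
      simpa [mul_assoc] using this

end Cfsg.Agent.Imprim
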