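/-
Stabilisers of decompositions over very small fields lie in larger subgroups: the number of non-zero blocks,
as an element of the field, is preserved by more than the block monomial group.
-/
import Mathlib
import Cfsg.Agent.Lib.Imprimitive.Main
set_option autoImplicit false

namespace Cfsg.Agent.Imprim

open scoped Matrix
open Matrix
open Cfsg.Agent.Transvec

attribute [-simp] Matrix.mulVec_single Matrix.mulVec_single_one

variable {ι : Type} [Fintype ι] [DecidableEq ι] {F : Type*} [Field F] {t m : ℕ}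

open scoped Classical in
/-- The number of blocks in which x is non-zero, in F. -/
noncomputable def blockCount (e : ι ≃ Fin t × Fin m) (x : ι → F) : F :=
  ∑ i, if (∀ s, x (e.symm (i, s)) = 0) then 0 else 1

/-- The elements of SL preserving the block count. -/
noncomputable def countGroup (e : ι ≃ Fin t × Fin m) : Subgroup (GL ι F) where
  carrier := {g | g ∈ Geo.specialLinear ι F ∧ ∀ x, blockCount e (mv g x) = blockCount e x}
  one_mem' := ⟨Subgroup.one_mem _, fun x => by rw [mv_one]⟩
  mul_mem' {a b} ha hb := ⟨Subgroup.mul_mem _ ha.1 hb.1, fun x => by rw [mv_mul, ha.2, hb.2]⟩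
  inv_mem' {a} ha := ⟨Subgroup.inv_mem _ ha.1, fun x => by
    conv_rhs => rw [← mv_mv_inv a x, ha.2]⟩

theorem blockMon_mem_countGroup {e : ι ≃ Fin t × Fin m} (hm : 0 < m) {g : GL ι F}
    (hg : g ∈ Geo.specialLinear ι F) (h : BlockMon e g) : g ∈ countGroup e := by
  classical
  choose σ hσ using h
  have himg : ∀ (k : ι) r, (e r).1 ≠ σ (e k).1 → mv g (ev k) r = 0 := fun k r hr =>
    hσ (e k).1 (ev k) (by simpa using inBlock_ev e k (1 : F)) r hr
  have hσs : Function.Surjective σ := by
    intro i
    by_contra hc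
    push Not at hc
    set r : ι := e.symm (i, ⟨0, hm⟩)
    have := congrFun (mv_mv_inv g (ev r)) r
    rw [mv_eq_sum, Finset.sum_apply, Finset.sum_eq_zero (fun k _ => by
      simp [himg k r (by simpa [r] using Ne.symm (hc (e k).1))])] at this
    simp at this
  have hσi : Function.Injective σ := Finite.injective_iff_surjective.2 hσs
  refine ⟨hg, fun x => ?_⟩
  have hpart : ∀ (i : Fin t) s, mv g x (e.symm (σ i, s)) =
      mv g (fun r => if (e r).1 = i then x r else 0) (e.symm (σ i, s)) := by
    intro i s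
    rw [mv_eq_sum g x, mv_eq_sum g (fun r => if (e r).1 = i then x r else 0), Finset.sum_apply,
      Finset.sum_apply]
    refine Finset.sum_congr rfl fun k _ => ?_
    by_cases hk : (e k).1 = i
    · simp [hk]
    · have : σ i ≠ σ (e k).1 := fun h => hk (hσi h).symm
      simp [hk, himg k (e.symm (σ i, s)) (by simpa using this)]
  refine (Fintype.sum_bijective σ ⟨hσi, hσs⟩ _ _ fun i => ?_).symm
  congr 1
  rw [eq_iff_iff]
  constructor
  · intro h s
    rw [hpart, show (fun r => if (e r).1 = i then x r else 0) = (0 : ι → F) from funext fun r => by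
      by_cases hr : (e r).1 = i
      · have := h (e r).2
        rw [← hr, Prod.mk.eta, Equiv.symm_apply_apply] at this
        simp [this]
      · simp [hr], mv_zero]
    rfl
  · intro h s
    have h0 : mv g (fun r => if (e r).1 = i then x r else 0) = 0 := by
      funext r
      by_cases hr : (e r).1 = σ i
      · have := h (e r).2
        rw [hpart, ← hr, Prod.mk.eta, Equiv.symm_apply_apply] at this
        exact this
      · exact hσ i _ (fun k hk => by simp [hk]) r hr
    have := congrFun (mv_inj g (h0.trans (mv_zero g).symm)) (e.symm (i, s))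
    simpa using this

theorem countGroup_not_top (hm : 0 < m) (ht : 2 ≤ t) (e : ι ≃ Fin t × Fin m) :
    ∃ g ∈ Geo.specialLinear ι F, g ∉ countGroup e := by
  classical
  set i0 : Fin t := ⟨0, by omega⟩
  set i1 : Fin t := ⟨1, by omega⟩
  have hi : i0 ≠ i1 := by simp [i0, i1, Fin.ext_iff]
  set k := e.symm (i0, ⟨0, hm⟩) with hk
  set l := e.symm (i1, ⟨0, hm⟩) with hl
  have hkl : k ≠ l := fun h => hi (by simpa [k, l] using congrArg (fun r => (e r).1) h)
  have h0 : (pr l : Module.Dual F (ι → F)) (ev k) = 0 := by simp [hkl.symm]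
  refine ⟨tv _ _ h0, tv_mem_specialLinear h0, fun hmem => ?_⟩
  have := hmem.2 (ev l)
  have hs : ∀ (r : ι) (i : Fin t),
      (∀ s, (ev r : ι → F) (e.symm (i, s)) = 0) ↔ (e r).1 ≠ i := by
    intro r i
    constructor
    · intro h hr
      have := h (e r).2
      rw [← hr, Prod.mk.eta, Equiv.symm_apply_apply] at this
      simp at this
    · intro hr s
      exact Pi.single_eq_of_ne (fun h => hr (by rw [← h]; simp)) _
  have hs2 : ∀ (i : Fin t),
      (∀ s, (ev l + ev k : ι → F) (e.symm (i, s)) = 0) ↔ (i ≠ i1 ∧ i ≠ i0) := by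
    intro i
    constructor
    · intro h
      refine ⟨fun h1 => ?_, fun h1 => ?_⟩
      · have := h ⟨0, hm⟩
        rw [h1, ← hl] at this
        simp [hkl.symm] at this
      · have := h ⟨0, hm⟩
        rw [h1, ← hk] at this
        simp [hkl] at this
    · intro ⟨h1, h2⟩ s
      rw [Pi.add_apply, (hs l i).2 (by simpa [hl] using Ne.symm h1) s,
        (hs k i).2 (by simpa [hk] using Ne.symm h2) s, add_zero]
  rw [mv_tv] at this
  simp only [LinearMap.proj_apply, Pi.single_eq_same, one_smul, blockCount, hs, hs2] at this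
  simp only [hl, Equiv.apply_symm_apply] at this
  rw [Finset.sum_ite, Finset.sum_ite] at this
  simp only [Finset.sum_const_zero, zero_add, Finset.sum_const, nsmul_one] at this
  rw [show (Finset.univ.filter fun i : Fin t => ¬(i ≠ i1 ∧ i ≠ i0)) = {i0, i1} by
      ext i; simp only [Finset.mem_filter, Finset.mem_univ, true_and, Finset.mem_insert,
        Finset.mem_singleton]; tauto,
    show (Finset.univ.filter fun i : Fin t => ¬(i1 ≠ i)) = {i1} by
      ext i; simp [eq_comm], Finset.card_pair hi, Finset.card_singleton] at this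
  simp at this
  exact one_ne_zero (show (1 : F) = 0 by linear_combination this)

section Small

variable [Fintype F]

omit [Fintype ι] [DecidableEq ι] in
theorem blockCount_one (e : ι ≃ Fin t × Fin 1) [Fintype ι] (x : ι → F) :
    blockCount e x = ∑ k, x k ^ (Fintype.card F - 1) := by
  classical
  rw [blockCount, ← Equiv.sum_comp ((e.trans (Equiv.prodUnique _ _)))]
  refine Finset.sum_congr rfl fun k _ => ?_
  have h1 : 0 < Fintype.card F - 1 := by have := Fintype.one_lt_card (α := F); omega
  have he : ∀ s, e.symm ((e.trans (Equiv.prodUnique _ _)) k, s) = k := fun s => by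
    rw [Equiv.symm_apply_eq]
    exact Prod.ext rfl (Subsingleton.elim _ _)
  by_cases hk : x k = 0
  · rw [if_pos (fun s => by rw [he]; exact hk), hk, zero_pow h1.ne']
  · rw [if_neg (fun h => hk (by have := h 0; rwa [he] at this)), FiniteField.pow_card_sub_one_eq_one _ hk]

theorem sum_change {f : F → F} (x y : ι → F) (S : Finset ι) (h : ∀ k ∉ S, y k = x k)
    (hS : ∑ k ∈ S, (f (y k) - f (x k)) = 0) : ∑ k, f (y k) = ∑ k, f (x k) := by
  rw [← sub_eq_zero, ← Finset.sum_sub_distrib,
    ← Finset.sum_subset (Finset.subset_univ S) (fun k _ hk => by rw [h k hk, sub_self]), hS]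

theorem exists_count_not_blockMon_one (hn : 5 ≤ Fintype.card ι) (hq : Fintype.card F ≤ 4)
    (e : ι ≃ Fin t × Fin 1) : ∃ g ∈ countGroup e, ¬ BlockMon (F := F) e g := by
  classical
  obtain ⟨f⟩ : Nonempty (Fin 5 ↪ ι) := Function.Embedding.nonempty_of_card_le (by simpa using hn)
  set a := f 0
  set b := f 1
  set c := f 2
  set d := f 3
  set r := f 4
  have hne : ∀ i j : Fin 5, i ≠ j → f i ≠ f j := fun i j h h' => h (f.injective h')
  have hab : a ≠ b := hne _ _ (by decide)
  have hac : a ≠ c := hne _ _ (by decide)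
  have had : a ≠ d := hne _ _ (by decide)
  have har : a ≠ r := hne _ _ (by decide)
  have hbc : b ≠ c := hne _ _ (by decide)
  have hbd : b ≠ d := hne _ _ (by decide)
  have hbr : b ≠ r := hne _ _ (by decide)
  have hcd : c ≠ d := hne _ _ (by decide)
  have hcr : c ≠ r := hne _ _ (by decide)
  have hdr : d ≠ r := hne _ _ (by decide)
  have nonMon : ∀ g : GL ι F, ∀ i j k : ι, j ≠ k → mv g (ev i) j ≠ 0 → mv g (ev i) k ≠ 0 →
      ¬ BlockMon e g := by
    intro g i j k hjk h1 h2 hg
    obtain ⟨l, c, hl⟩ := mon_of_blockMon hg i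
    rw [hl] at h1 h2
    rcases eq_or_ne j l with rfl | hjl
    · simp [Ne.symm hjk] at h2
    · simp [hjl] at h1
  have hcast : ((Fintype.card F : ℕ) : F) = 0 := Nat.cast_card_eq_zero F
  have h2le := Fintype.one_lt_card (α := F)
  interval_cases hcard : Fintype.card F
  · have h2 : (2 : F) = 0 := by simpa using hcast
    have h0 : (pr c : Module.Dual F (ι → F)) (ev a + ev b) = 0 := by simp [hac.symm, hbc.symm]
    refine ⟨tv _ _ h0, ⟨tv_mem_specialLinear h0, fun x => ?_⟩, nonMon _ c a b hab ?_ ?_⟩
    · rw [blockCount_one, blockCount_one, hcard]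
      refine sum_change (f := fun y => y ^ (2 - 1)) x _ {a, b} (fun k hk => ?_) ?_
      · simp only [Finset.mem_insert, Finset.mem_singleton, not_or] at hk
        rw [mv_tv]; simp [hk.1, hk.2]
      · rw [Finset.sum_pair hab, mv_tv]
        simp [hab, hab.symm]
        linear_combination x c * h2
    · rw [mv_tv]; simp [hac, hab]
    · rw [mv_tv]; simp [hbc, hab.symm]
  · have h3 : (3 : F) = 0 := by simpa using hcast
    have h3' : (-1 : F) ≠ 0 := neg_ne_zero.2 one_ne_zero
    set φ : Module.Dual F (ι → F) := pr a + pr b + pr c + pr d with hφ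
    set v : ι → F := ev a + ev b + ev c + ev d with hv
    have hφv : φ v = 4 := by
      simp [φ, v, hab, hac, had, hbc, hbd, hcd, hab.symm, hac.symm, had.symm, hbc.symm, hbd.symm,
        hcd.symm]
      norm_num
    obtain ⟨g0, hg0⟩ := exists_isDev (u := v) (φ := φ) (by
      rw [hφv]; intro h; exact h3' (by linear_combination h - 2 * h3))
    set g := g0 * dk r (-1) with hg
    have hgx : ∀ x k, mv g x k = mv (dk r (-1) : GL ι F) x k + (x a + x b + x c + x d) * v k := by
      intro x k
      rw [hg, mv_mul, hg0 (mv (dk r (-1)) x)]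
      simp only [Pi.add_apply, Pi.smul_apply, smul_eq_mul]
      congr 2
      rw [dk, mv_dg]
      simp [φ, har, hbr, hcr, hdr]
    refine ⟨g, ⟨?_, fun x => ?_⟩, nonMon g a b c hbc ?_ ?_⟩
    · rw [mem_sl_iff, hg, Units.val_mul, Matrix.det_mul, hg0.det, hφv, (isDev_dk r (-1)).det]
      simp
      linear_combination -2 * h3
    · rw [blockCount_one, blockCount_one, hcard]
      refine sum_change (f := fun y => y ^ (3 - 1)) x _ {a, b, c, d, r} (fun k hk => ?_) ?_
      · simp only [Finset.mem_insert, Finset.mem_singleton, not_or] at hk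
        rw [hgx, dk, mv_dg]; simp [v, hk.1, hk.2.1, hk.2.2.1, hk.2.2.2.1, hk.2.2.2.2]
      · rw [Finset.sum_insert (by simp [hab, hac, had, har]),
          Finset.sum_insert (by simp [hbc, hbd, hbr]), Finset.sum_insert (by simp [hcd, hcr]),
          Finset.sum_pair hdr, hgx, hgx, hgx, hgx, hgx, dk, mv_dg]
        simp [v, hab, hac, had, har, hbc, hbd, hbr, hcd, hcr, hdr, hab.symm, hac.symm, had.symm,
          har.symm, hbc.symm, hbd.symm, hbr.symm, hcd.symm, hcr.symm, hdr.symm]
        linear_combination 2 * (x a + x b + x c + x d) ^ 2 * h3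
    · rw [hgx, dk, mv_dg]
      simp [v, hab, hac, had, hbc, hbd, hbr, hab.symm, hac.symm, had.symm, har.symm, hbr.symm]
    · rw [hgx, dk, mv_dg]
      simp [v, hac, hbc, hcd, hcr, hac.symm, hbc.symm, hcd.symm, hcr.symm, hab, had, har.symm]
  · have h2 : (2 : F) = 0 := by
      have : (2 : F) * 2 = 0 := by
        have : ((4 : ℕ) : F) = 0 := hcast
        push_cast at this
        linear_combination this
      rcases mul_eq_zero.1 this with h | h <;> exact h
    set φ : Module.Dual F (ι → F) := pr a + pr b + pr c + pr d with hφ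
    set v : ι → F := ev a + ev b + ev c + ev d with hv
    have hφv : φ v = 0 := by
      simp [φ, v, hab, hac, had, hbc, hbd, hcd, hab.symm, hac.symm, had.symm, hbc.symm, hbd.symm,
        hcd.symm]
      linear_combination 2 * h2
    refine ⟨tv v φ hφv, ⟨tv_mem_specialLinear hφv, fun x => ?_⟩, nonMon _ a b c hbc ?_ ?_⟩
    · rw [blockCount_one, blockCount_one, hcard]
      refine sum_change (f := fun y => y ^ (4 - 1)) x _ {a, b, c, d} (fun k hk => ?_) ?_
      · simp only [Finset.mem_insert, Finset.mem_singleton, not_or] at hk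
        rw [mv_tv]; simp [v, hk.1, hk.2.1, hk.2.2.1, hk.2.2.2]
      · rw [Finset.sum_insert (by simp [hab, hac, had]), Finset.sum_insert (by simp [hbc, hbd]),
          Finset.sum_pair hcd, mv_tv]
        simp [φ, v, hab, hac, had, hbc, hbd, hcd, hab.symm, hac.symm, had.symm, hbc.symm, hbd.symm,
          hcd.symm]
        linear_combination (5 * (x a + x b + x c + x d) ^ 3 - 3 * (x a + x b + x c + x d) *
          (x a * x b + x a * x c + x a * x d + x b * x c + x b * x d + x c * x d)) * h2
    · rw [mv_tv]; simp [φ, v, hab, hac, had, hbc, hbd, hab.symm, hac.symm, had.symm]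
    · rw [mv_tv]; simp [φ, v, hac, hbc, hcd, hac.symm, hbc.symm, hab, hab.symm, had, had.symm]

theorem count_three (hq : Fintype.card F = 2) (e : ι ≃ Fin t × Fin 2) {i0 i1 i2 : Fin t} (h01 : i0 ≠ i1)
    (h02 : i0 ≠ i2) (h12 : i1 ≠ i2)
    (hφv : (pr (e.symm (i0, 1)) + pr (e.symm (i1, 1)) + pr (e.symm (i2, 1)) : Module.Dual F (ι → F))
      (ev (e.symm (i0, 0)) + ev (e.symm (i1, 0)) + ev (e.symm (i2, 0))) = 0) :
    tv _ _ hφv ∈ countGroup e ∧ ¬ BlockMon (F := F) e (tv _ _ hφv) := by
  classical
  have h2 : (2 : F) = 0 := by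
    have := Nat.cast_card_eq_zero F
    rw [hq] at this
    simpa using this
  have hidem : ∀ y : F, y * y = y := fun y => by
    have := FiniteField.pow_card y
    rw [hq] at this
    linear_combination this
  have hind : ∀ (x : ι → F) (i : Fin t), (if (∀ s, x (e.symm (i, s)) = 0) then (0 : F) else 1) =
      x (e.symm (i, 0)) + x (e.symm (i, 1)) + x (e.symm (i, 0)) * x (e.symm (i, 1)) := by
    intro x i
    have hone : ∀ y : F, y = 0 ∨ y = 1 := fun y => by
      rcases mul_eq_zero.1 (show y * (y - 1) = 0 by linear_combination hidem y) with h | h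
      · exact Or.inl h
      · exact Or.inr (by linear_combination h)
    simp only [Fin.forall_fin_two]
    rcases hone (x (e.symm (i, 0))) with h | h <;> rcases hone (x (e.symm (i, 1))) with h' | h' <;>
      simp [h, h']
    linear_combination h2
  set v : ι → F := ev (e.symm (i0, 0)) + ev (e.symm (i1, 0)) + ev (e.symm (i2, 0)) with hv
  set φ : Module.Dual F (ι → F) := pr (e.symm (i0, 1)) + pr (e.symm (i1, 1)) + pr (e.symm (i2, 1))
  refine ⟨⟨tv_mem_specialLinear hφv, fun x => ?_⟩, fun hg => ?_⟩
  · simp only [blockCount, hind]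
    rw [← sub_eq_zero, ← Finset.sum_sub_distrib, ← Finset.sum_subset (Finset.subset_univ {i0, i1, i2})
      (fun i _ hi => by
        simp only [Finset.mem_insert, Finset.mem_singleton, not_or] at hi
        simp [mv_tv, v, hi.1, hi.2.1, hi.2.2])]
    rw [Finset.sum_insert (by simp [h01, h02]), Finset.sum_pair h12, mv_tv]
    simp [φ, v, h01, h02, h12, h01.symm, h02.symm, h12.symm]
    set y0 := x (e.symm (i0, 1))
    set y1 := x (e.symm (i1, 1))
    set y2 := x (e.symm (i2, 1))
    linear_combination hidem (y0 + y1 + y2) + 2 * (y0 + y1 + y2) * h2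
  · obtain ⟨j, hj⟩ := hg i0
    have h := hj (ev (e.symm (i0, 1))) (by simpa using inBlock_ev e (e.symm (i0, 1)) (1 : F))
    rw [mv_tv] at h
    have e1 : i1 = j := by_contra fun hc => by
      simpa [φ, v, h01, h02, h12, h01.symm, h02.symm] using h (e.symm (i1, 0)) (by simpa using hc)
    have e2 : i2 = j := by_contra fun hc => by
      simpa [φ, v, h01, h02, h12.symm, h01.symm, h02.symm] using h (e.symm (i2, 0)) (by simpa using hc)
    exact h12 (e1.trans e2.symm)

theorem exists_count_not_blockMon_two (ht : 3 ≤ t) (hq : Fintype.card F = 2)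
    (e : ι ≃ Fin t × Fin 2) : ∃ g ∈ countGroup e, ¬ BlockMon (F := F) e g := by
  set i0 : Fin t := ⟨0, by omega⟩
  set i1 : Fin t := ⟨1, by omega⟩
  set i2 : Fin t := ⟨2, by omega⟩
  exact ⟨_, count_three hq e (i0 := i0) (i1 := i1) (i2 := i2) (by simp [i0, i1, Fin.ext_iff])
    (by simp [i0, i2, Fin.ext_iff]) (by simp [i1, i2, Fin.ext_iff]) (by simp)⟩

theorem decomposition_not_maximal {n : ℕ} (hn : 13 ≤ n) {D : Fin t → Submodule F (Fin n → F)}
    (hD : Geo.IsMDecomposition m D)
    (h : (m = 1 ∧ Fintype.card F ≤ 4) ∨ (m = 2 ∧ Fintype.card F = 2)) :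
    ∃ K : Subgroup (GL (Fin n) F), Geo.decompositionStabilizer D ⊓ Geo.specialLinear (Fin n) F < K ∧
      K < Geo.specialLinear (Fin n) F := by
  classical
  obtain ⟨e, P, hP⟩ := exists_adapted hD
  have hSLn : (Geo.specialLinear (Fin n) F).Normal := MonoidHom.normal_ker _
  have hstab' : ∀ g, P * g * P⁻¹ ∈ Geo.decompositionStabilizer D → BlockMon e g := by
    rintro g ⟨σ, hσ⟩ i
    refine ⟨σ i, fun x hx => (hP _ _).2 ?_⟩
    have : mv (P * g * P⁻¹) (mv P x) ∈ D (σ i) := by
      rw [← hσ i]
      exact ⟨mv P x, (hP i x).1 hx, Matrix.toLin'_apply _ _⟩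
    rwa [mv_mul, mv_mul, mv_inv_mv] at this
  obtain ⟨g, hg, hgb⟩ : ∃ g ∈ countGroup (F := F) e, ¬ BlockMon e g := by
    rcases h with ⟨rfl, hq⟩ | ⟨rfl, hq⟩
    · exact exists_count_not_blockMon_one (by simp; omega) hq e
    · refine exists_count_not_blockMon_two ?_ hq e
      have := Fintype.card_congr e
      simp at this
      omega
  obtain ⟨g', hg', hg'c⟩ := countGroup_not_top (F := F) hD.pos hD.two_le e
  refine ⟨(countGroup e).comap (MulAut.conj P⁻¹).toMonoidHom, lt_of_le_not_ge ?_ ?_, lt_of_le_not_ge ?_ ?_⟩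
  · intro x hx
    show P⁻¹ * x * (P⁻¹)⁻¹ ∈ countGroup e
    refine blockMon_mem_countGroup hD.pos (hSLn.conj_mem _ hx.2 _) (hstab' _ ?_)
    simpa [mul_assoc] using hx.1
  · intro hle
    apply hgb
    refine hstab' g (hle ?_).1
    show P⁻¹ * (P * g * P⁻¹) * (P⁻¹)⁻¹ ∈ countGroup e
    simpa [mul_assoc] using hg
  · intro x hx
    have := hSLn.conj_mem _ (show P⁻¹ * x * (P⁻¹)⁻¹ ∈ countGroup e from hx).1 P
    simpa [mul_assoc] using this
  · intro hle
    apply hg'c
    have := hle (hSLn.conj_mem _ hg' P)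
    have h2 : P⁻¹ * (P * g' * P⁻¹) * (P⁻¹)⁻¹ ∈ countGroup e := this
    simpa [mul_assoc] using h2

end Small

end Cfsg.Agent.Imprim
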