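/-
Blocks with an orthonormal frame over a very small field: the stabiliser of the decomposition lies in the
stabiliser of the frame.
-/
import Mathlib
import Cfsg.Agent.Lib.Imprimitive.NonMax
set_option autoImplicit false

namespace Cfsg.Agent.Imprim

open scoped Matrix
open Matrix
open Cfsg.Agent.Transvec

attribute [-simp] Matrix.mulVec_single Matrix.mulVec_single_one

variable {ι : Type} [Fintype ι] [DecidableEq ι] {F : Type*} [Field F] {t k : ℕ}

theorem exists_gl_of_li (v : ι → ι → F) (hv : LinearIndependent F v) :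
    ∃ P : GL ι F, ∀ r, mv P (ev r) = v r := by
  rcases isEmpty_or_nonempty ι with h | h
  · exact ⟨1, fun r => isEmptyElim r⟩
  let B : Module.Basis ι F (ι → F) :=
    basisOfLinearIndependentOfCardEqFinrank hv (by rw [Module.finrank_pi])
  let L : (ι → F) ≃ₗ[F] (ι → F) := (Pi.basisFun F ι).equiv B (Equiv.refl _)
  let P : GL ι F :=
    { val := LinearMap.toMatrix' L.toLinearMap
      inv := LinearMap.toMatrix' L.symm.toLinearMap
      val_inv := by rw [← LinearMap.toMatrix'_comp]; simp
      inv_val := by rw [← LinearMap.toMatrix'_comp]; simp }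
  refine ⟨P, fun r => ?_⟩
  rw [show mv P (ev r) = L (ev r) from LinearMap.toMatrix'_mulVec _ _,
    show (ev r : ι → F) = Pi.basisFun F ι r from (Pi.basisFun_apply F _ r).symm, Module.Basis.equiv_apply]
  simp [B]

theorem adapted_iff {D : Fin t → Submodule F (ι → F)} (hind : iSupIndep D) {e : ι ≃ Fin t × Fin k}
    {P : GL ι F} (hev : ∀ r, mv P (ev r) ∈ D (e r).1) (i : Fin t) (x : ι → F) :
    InBlock e i x ↔ mv P x ∈ D i := by
  classical
  have hin : ∀ i x, InBlock e i x → mv P x ∈ D i := by
    intro i x hx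
    rw [mv_eq_sum]
    refine Submodule.sum_mem _ fun r _ => ?_
    by_cases h : (e r).1 = i
    · exact Submodule.smul_mem _ _ (h ▸ hev r)
    · simp [hx r h]
  refine ⟨hin i x, fun h => ?_⟩
  let y : ι → F := fun r => if (e r).1 = i then 0 else x r
  have hy : mv P y ∈ D i := by
    have hsub : InBlock e i (x - y) := fun r hr => by simp [y, hr]
    have := Submodule.sub_mem _ h (hin i _ hsub)
    rwa [mv_sub, sub_sub_cancel] at this
  have hy' : mv P y ∈ ⨆ (j : Fin t) (_ : j ≠ i), D j := by
    rw [mv_eq_sum]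
    refine Submodule.sum_mem _ fun r _ => ?_
    by_cases hr : (e r).1 = i
    · simp [y, hr]
    · exact Submodule.smul_mem _ _ (Submodule.mem_iSup_of_mem (e r).1 (Submodule.mem_iSup_of_mem hr (hev r)))
  intro r hr
  have := congrFun (mv_inj P ((Submodule.disjoint_def.1 (hind i) _ hy hy').trans (mv_zero P).symm)) r
  simpa [y, hr] using this

theorem blockMon_of_stab {D : Fin t → Submodule F (ι → F)} {e : ι ≃ Fin t × Fin k} {P : GL ι F}
    (hP : ∀ i x, InBlock e i x ↔ mv P x ∈ D i) {g : GL ι F} (h : g ∈ Geo.decompositionStabilizer D) :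
    BlockMon e (P⁻¹ * g * P) := by
  obtain ⟨σ, hσ⟩ := h
  refine fun i => ⟨σ i, fun y hy => (hP _ _).2 ?_⟩
  rw [mv_mul, mv_mul, mv_mv_inv, ← hσ i]
  exact ⟨mv P y, (hP i y).1 hy, Matrix.toLin'_apply _ _⟩

/-- The monomial elements as a subgroup. -/
def monGroup (ι : Type) [Fintype ι] [DecidableEq ι] (F : Type*) [Field F] : Subgroup (GL ι F) where
  carrier := {g | Mon g}
  one_mem' := fun r => ⟨r, 1, by rw [mv_one, one_smul]⟩
  mul_mem' := Mon.mul
  inv_mem' := Mon.inv

open scoped Classical in
/-- The number of non-zero coordinates, in F. -/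
noncomputable def weight (x : ι → F) : F := ∑ r, if x r = 0 then 0 else 1

theorem weight_eq_sum_pow [Fintype F] (x : ι → F) : weight x = ∑ r, x r ^ (Fintype.card F - 1) := by
  classical
  have h1 : 0 < Fintype.card F - 1 := by have := Fintype.one_lt_card (α := F); omega
  refine Finset.sum_congr rfl fun r _ => ?_
  split_ifs with h
  · rw [h, zero_pow h1.ne']
  · rw [FiniteField.pow_card_sub_one_eq_one _ h]

theorem mon_of_weight {e : ι ≃ Fin t × Fin k} (hk : ∀ w : ℕ, w ≤ k → (w : F) = 1 → w = 1)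
    {g : GL ι F} (hg : ∀ x, weight (mv g x) = weight x) (hb : BlockMon e g) : Mon g := by
  classical
  intro a
  obtain ⟨j, hj⟩ := hb (e a).1
  set y := mv g (ev a) with hy
  set S := Finset.univ.filter fun r => y r ≠ 0 with hS
  have hSk : S.card ≤ k := by
    have : S ⊆ Finset.univ.image fun s : Fin k => e.symm (j, s) := fun r hr => by
      refine Finset.mem_image.2 ⟨(e r).2, Finset.mem_univ _, ?_⟩
      have : (e r).1 = j := by_contra fun hc =>
        (Finset.mem_filter.1 hr).2 (hj (ev a) (by simpa using inBlock_ev e a (1 : F)) r hc)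
      rw [← this, Prod.mk.eta, Equiv.symm_apply_apply]
    exact (Finset.card_le_card this).trans (Finset.card_image_le.trans (by simp))
  have hw : (S.card : F) = 1 := by
    have h1 : weight y = (S.card : F) := by
      rw [weight, hS, Finset.card_filter, Nat.cast_sum]
      exact Finset.sum_congr rfl fun r _ => by split_ifs <;> simp_all
    rw [← h1, hy, hg, weight, Finset.sum_eq_single a (fun r _ hr => by simp [hr]) (by simp)]
    simp
  obtain ⟨l, hl⟩ := Finset.card_eq_one.1 (hk _ hSk hw)
  refine ⟨l, y l, funext fun r => ?_⟩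
  by_cases hr : r = l
  · subst hr; simp
  · have : r ∉ S := by simp [hl, hr]
    simp only [hS, Finset.mem_filter, Finset.mem_univ, true_and, not_not] at this
    simp [this, hr]

theorem exists_five (hn : 5 ≤ Fintype.card ι) (e : ι ≃ Fin t × Fin k) (ht : 2 ≤ t) (hk : 2 ≤ k) :
    ∃ a b c r s : ι, [a, b, c, r, s].Nodup ∧ (e a).1 = (e b).1 ∧ (e a).1 ≠ (e c).1 := by
  classical
  set a := e.symm (⟨0, by omega⟩, ⟨0, by omega⟩)
  set b := e.symm (⟨0, by omega⟩, ⟨1, by omega⟩)
  set c := e.symm (⟨1, by omega⟩, ⟨0, by omega⟩)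
  obtain ⟨r, -, hr⟩ := Finset.exists_mem_notMem_of_card_lt_card
    (show ({a, b, c} : Finset ι).card < (Finset.univ : Finset ι).card by
      rw [Finset.card_univ]; have := Finset.card_le_three (a := a) (b := b) (c := c); omega)
  obtain ⟨s, -, hs⟩ := Finset.exists_mem_notMem_of_card_lt_card
    (show ({a, b, c, r} : Finset ι).card < (Finset.univ : Finset ι).card by
      rw [Finset.card_univ]; have := Finset.card_le_four (a := a) (b := b) (c := c) (d := r); omega)
  simp only [Finset.mem_insert, Finset.mem_singleton, not_or] at hr hs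
  refine ⟨a, b, c, r, s, ?_, by simp [a, b], by simp [a, c, Fin.ext_iff]⟩
  have hab : a ≠ b := fun h => by simpa [a, b, Fin.ext_iff] using congrArg e h
  have hac : a ≠ c := fun h => by simpa [a, c, Fin.ext_iff] using congrArg e h
  have hbc : b ≠ c := fun h => by simpa [b, c, Fin.ext_iff] using congrArg e h
  simp [hab, hac, hbc, Ne.symm hr.1, Ne.symm hr.2.1, Ne.symm hr.2.2, Ne.symm hs.1, Ne.symm hs.2.1,
    Ne.symm hs.2.2.1, Ne.symm hs.2.2.2]

theorem not_blockMon_pm {e : ι ≃ Fin t × Fin k} {σ : Equiv.Perm ι} {a b : ι} (hab : (e a).1 = (e b).1)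
    (h : (e (σ a)).1 ≠ (e (σ b)).1) : ¬ BlockMon (F := F) e (pm σ) := by
  intro hb
  obtain ⟨j, hj⟩ := hb (e a).1
  have ha := hj (ev a) (by simpa using inBlock_ev e a (1 : F))
  have hb' := hj (ev b) (by simpa [hab] using inBlock_ev e b (1 : F))
  rw [mv_pm_ev] at ha hb'
  have e1 : (e (σ a)).1 = j := by_contra fun hc => by simpa using ha (σ a) hc
  have e2 : (e (σ b)).1 = j := by_contra fun hc => by simpa using hb' (σ b) hc
  exact h (e1.trans e2.symm)

theorem not_mon_of_two {g : GL ι F} {i j l : ι} (hjl : j ≠ l) (h1 : mv g (ev i) j ≠ 0)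
    (h2 : mv g (ev i) l ≠ 0) : ¬ Mon g := by
  intro hg
  obtain ⟨r, c, hr⟩ := hg i
  rw [hr] at h1 h2
  rcases eq_or_ne j r with rfl | hjr
  · simp [Ne.symm hjl] at h2
  · simp [hjr] at h1

end Cfsg.Agent.Imprim
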