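/-
Over the field with three elements, O₃(3) wr S_t and O₂⁻(3) wr S_t preserve an orthogonal frame.
-/
import Mathlib
import Cfsg.Agent.Lib.Imprimitive.Frames
import Cfsg.Agent.Lib.Transvec.QuadGen
set_option autoImplicit false

namespace Cfsg.Agent.Imprim

open scoped Matrix
open scoped commutatorElement
open Matrix
open Cfsg.Agent.Transvec Cfsg.Agent.Transvec.Orth

attribute [-simp] Matrix.mulVec_single Matrix.mulVec_single_one

variable {ι : Type} [Fintype ι] [DecidableEq ι] {F : Type*} [Field F] [Fintype F]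

theorem orth_frame_not_maximal (hn : 5 ≤ Fintype.card ι) (hq : Fintype.card F = 3) {Q : (ι → F) → F}
    (hQ : Geo.IsNondegenerateQuadraticForm Q) {t k : ℕ} (hk : k = 2 ∨ k = 3)
    {D : Fin t → Submodule F (ι → F)} (hD : Geo.IsOrthogonalMDecomposition Q k D)
    (hplus : k = 2 → ∀ i, ¬ Geo.IsPlusTypeOn Q (D i)) :
    ∃ K : Subgroup (GL ι F), Geo.decompositionStabilizer D ⊓ Geo.omegaGL Q < K ∧ K < Geo.omegaGL Q := by
  classical
  have hdec := hD.decomp.decomp
  have h3 : (3 : F) = 0 := by
    have := Nat.cast_card_eq_zero F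
    rw [hq] at this
    simpa using this
  have h2 : (2 : F) ≠ 0 := fun h => one_ne_zero (show (1 : F) = 0 by linear_combination h3 - h)
  have hsq : ∀ y : F, y ≠ 0 → y ^ 2 = 1 := fun y hy => by
    have := FiniteField.pow_card_sub_one_eq_one y hy
    rwa [hq] at this
  have hval : ∀ x y : F, x ≠ 0 → y ≠ 0 → x ≠ y → y = -x := fun x y hx hy hxy => by
    have : (y - x) * (y + x) = 0 := by linear_combination hsq y hy - hsq x hx
    exact eq_neg_of_add_eq_zero_left ((mul_eq_zero.1 this).resolve_left (sub_ne_zero.2 (Ne.symm hxy)))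
  -- a frame in the first block
  set i0 : Fin t := ⟨0, by have := hdec.two_le; omega⟩
  obtain ⟨b0, c, hc, hb0m, hb0o, hb0q⟩ : ∃ (b : Fin k → ι → F) (c : F), c ≠ 0 ∧ (∀ s, b s ∈ D i0) ∧
      (∀ s r, s ≠ r → pol Q (b s) (b r) = 0) ∧ ∀ s, Q (b s) = c := by
    haveI : Invertible (2 : F) := invertibleOfNonzero h2
    let W := D i0
    let B : LinearMap.BilinForm F W := LinearMap.mk₂ F (fun x y : W => pol Q (x : ι → F) y)
      (fun x y z => by simp [pol_add_left hQ]) (fun a x y => by simp [pol_smul_left hQ])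
      (fun x y z => by simp [pol_add_right hQ]) (fun a x y => by simp [pol_smul_right hQ])
    have hBs : LinearMap.IsSymm B := ⟨fun x y => pol_comm _ _⟩
    obtain ⟨v', hv'⟩ := LinearMap.BilinForm.exists_orthogonal_basis hBs
    let v := v'.reindex (finCongr (hdec.finrank_eq i0))
    have hv : ∀ s r, s ≠ r → pol Q (v s : ι → F) (v r) = 0 := fun s r hsr => by
      simp only [v, Module.Basis.reindex_apply]
      exact hv' (by simpa using hsr)
    have hne : ∀ s, Q (v s : ι → F) ≠ 0 := by
      intro s h0
      have hs0 : (v s : ι → F) ≠ 0 := fun h => v.ne_zero s (Subtype.ext h)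
      obtain ⟨x, hx, hxs⟩ := (hD.decomp.nondegenerate i0 _ (v s).2 hs0).1
      apply hxs
      have h := v.sum_repr ⟨x, hx⟩
      have h' : x = ∑ r, v.repr ⟨x, hx⟩ r • (v r : ι → F) := by
        have h0 := congrArg (fun z : W => (z : ι → F)) h.symm
        simp only [Submodule.coe_sum, Submodule.coe_smul] at h0
        exact h0
      show pol Q x (v s) = 0
      rw [h', show pol Q (∑ r, v.repr ⟨x, hx⟩ r • (v r : ι → F)) (v s) =
        formQ hQ (v s : ι → F) (∑ r, v.repr ⟨x, hx⟩ r • (v r : ι → F)) from rfl, map_sum]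
      refine Finset.sum_eq_zero fun r _ => ?_
      rw [map_smul, formQ_apply]
      rcases eq_or_ne r s with rfl | hrs
      · rw [pol_self hQ, h0, mul_zero, smul_zero]
      · rw [hv r s hrs, smul_zero]
    rcases hk with rfl | rfl
    · refine ⟨fun s => v s, Q (v 0 : ι → F), hne 0, fun s => (v s).2, hv, fun s => ?_⟩
      fin_cases s
      · rfl
      · by_contra hne'
        have h1 := hval _ _ (hne 0) (hne 1) (fun h => hne' h.symm)
        refine hplus rfl i0 ⟨Submodule.span F {(v 0 : ι → F) + v 1}, ?_, ?_, ?_⟩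
        · rw [Submodule.span_singleton_le_iff_mem]
          exact Submodule.add_mem _ (v 0).2 (v 1).2
        · intro w hw
          obtain ⟨a, rfl⟩ := Submodule.mem_span_singleton.1 hw
          rw [q_smul hQ, q_add hQ, hv 0 1 (by decide), h1]
          ring
        · rw [finrank_span_singleton, hdec.finrank_eq]
          intro h
          have := congrArg (fun z : W => v.repr z 0) (show v 0 + v 1 = 0 from Subtype.ext h)
          simp at this
    · obtain ⟨a, b, r, hab, har, hbr, heq⟩ : ∃ a b r : Fin 3, a ≠ b ∧ a ≠ r ∧ b ≠ r ∧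
          Q (v a : ι → F) = Q (v b : ι → F) := by
        by_cases h01 : Q (v 0 : ι → F) = Q (v 1 : ι → F)
        · exact ⟨0, 1, 2, by decide, by decide, by decide, h01⟩
        by_cases h02 : Q (v 0 : ι → F) = Q (v 2 : ι → F)
        · exact ⟨0, 2, 1, by decide, by decide, by decide, h02⟩
        exact ⟨1, 2, 0, by decide, by decide, by decide,
          (hval _ _ (hne 0) (hne 1) h01).trans (hval _ _ (hne 0) (hne 2) h02).symm⟩
      by_cases hr : Q (v r : ι → F) = Q (v a : ι → F)
      · refine ⟨fun s => v s, Q (v a : ι → F), hne a, fun s => (v s).2, hv, fun s => ?_⟩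
        have key : ∀ s a b r : Fin 3, a ≠ b → a ≠ r → b ≠ r → s = a ∨ s = b ∨ s = r := by decide
        have := key s a b r hab har hbr
        rcases this with rfl | rfl | rfl
        · rfl
        · exact heq.symm
        · exact hr
      · have hrv := hval _ _ (hne a) (hne r) (fun h => hr h.symm)
        refine ⟨![(v a : ι → F) + v b, (v a : ι → F) - v b, (v r : ι → F)], Q (v r : ι → F), hne r,
          fun s => ?_, ?_, fun s => ?_⟩
        · fin_cases s
          · exact Submodule.add_mem _ (v a).2 (v b).2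
          · exact Submodule.sub_mem _ (v a).2 (v b).2
          · exact (v r).2
        · have e01 : pol Q ((v a : ι → F) + v b) ((v a : ι → F) - v b) = 0 := by
            rw [pol_add_left hQ, pol_sub_right hQ, pol_sub_right hQ, pol_self hQ, pol_self hQ, heq,
              hv a b hab, hv b a (Ne.symm hab)]
            ring
          have e02 : pol Q ((v a : ι → F) + v b) (v r : ι → F) = 0 := by
            rw [pol_add_left hQ, hv a r har, hv b r hbr, add_zero]
          have e12 : pol Q ((v a : ι → F) - v b) (v r : ι → F) = 0 := by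
            rw [pol_sub_left hQ, hv a r har, hv b r hbr, sub_zero]
          intro s s' hss
          fin_cases s <;> fin_cases s' <;> first
            | exact absurd rfl hss
            | exact e01
            | exact e02
            | exact e12
            | exact (pol_comm _ _).trans e01
            | exact (pol_comm _ _).trans e02
            | exact (pol_comm _ _).trans e12
        · fin_cases s
          · show Q ((v a : ι → F) + v b) = Q (v r : ι → F)
            rw [q_add hQ, hv a b hab, ← heq, hrv]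
            linear_combination Q (v a : ι → F) * h3
          · show Q ((v a : ι → F) - v b) = Q (v r : ι → F)
            rw [q_sub hQ, hv a b hab, ← heq, hrv]
            linear_combination Q (v a : ι → F) * h3
          · rfl
  -- transport to all blocks
  choose φ hφ using fun i => hD.isometric i0 i
  let b : Fin t → Fin k → ι → F := fun i s => (φ i ⟨b0 s, hb0m s⟩ : D i)
  have hbm : ∀ i s, b i s ∈ D i := fun i s => (φ i ⟨b0 s, hb0m s⟩).2
  have hbq : ∀ i s, Q (b i s) = c := fun i s => (hφ i _).trans (hb0q s)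
  have hbo : ∀ i s r, s ≠ r → pol Q (b i s) (b i r) = 0 := by
    intro i s r hsr
    have hsum : Q (b i s + b i r) = Q (b0 s + b0 r) := by
      have := hφ i (⟨b0 s, hb0m s⟩ + ⟨b0 r, hb0m r⟩)
      rw [map_add] at this
      exact this
    rw [q_add hQ, q_add hQ, hbq, hbq, hb0q, hb0q, hb0o s r hsr] at hsum
    linear_combination hsum
  have hcard : Fintype.card ι = t * k := by
    obtain ⟨e, -, -⟩ := exists_adapted hdec
    simpa using Fintype.card_congr e
  let e : ι ≃ Fin t × Fin k := Fintype.equivOfCardEq (by simp [hcard])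
  let w : ι → ι → F := fun r => b (e r).1 (e r).2
  have hwo : ∀ r s, r ≠ s → pol Q (w r) (w s) = 0 := by
    intro r s hrs
    by_cases hb : (e r).1 = (e s).1
    · show pol Q (b (e r).1 (e r).2) (b (e s).1 (e s).2) = 0
      rw [hb]
      exact hbo _ _ _ fun h => hrs (e.injective (Prod.ext hb h))
    · exact hD.decomp.orthogonal _ _ hb _ (hbm _ _) _ (hbm _ _)
  have hwq : ∀ r, Q (w r) = c := fun r => hbq _ _
  have hwli : LinearIndependent F w := by
    rw [Fintype.linearIndependent_iff]
    intro g hg r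
    have := congrArg (formQ hQ (w r)) hg
    rw [map_sum, map_zero, Finset.sum_eq_single r (fun s _ hs => by
      rw [map_smul, formQ_apply, hwo s r hs, smul_zero]) (by simp), map_smul, formQ_apply, pol_self hQ,
      hwq, smul_eq_mul] at this
    exact (mul_eq_zero.1 this).resolve_right (mul_ne_zero h2 hc)
  obtain ⟨P, hP0⟩ := exists_gl_of_li w hwli
  have hP : ∀ i x, InBlock e i x ↔ mv P x ∈ D i :=
    adapted_iff hdec.indep fun r => by rw [hP0]; exact hbm _ _
  -- the form in the new coordinates
  have hQP : ∀ x : ι → F, Q (mv P x) = c * weight x := by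
    intro x
    rw [mv_eq_sum, weight_eq_sum_pow, hq, Finset.mul_sum]
    simp only [hP0]
    have : ∀ s : Finset ι, Q (∑ r ∈ s, x r • w r) = ∑ r ∈ s, c * x r ^ 2 ∧
        ∀ l ∉ s, pol Q (w l) (∑ r ∈ s, x r • w r) = 0 := by
      intro s
      induction s using Finset.induction with
      | empty => exact ⟨by simp [q_zero hQ], fun l _ => by simp [pol_zero_right hQ]⟩
      | insert r s hr ih =>
        refine ⟨?_, fun l hl => ?_⟩
        · rw [Finset.sum_insert hr, Finset.sum_insert hr, q_add hQ, q_smul hQ, hwq, ih.1,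
            pol_smul_left hQ, ih.2 r hr]
          ring
        · rw [Finset.mem_insert, not_or] at hl
          rw [Finset.sum_insert hr, pol_add_right hQ, pol_smul_right hQ, hwo l r hl.1, ih.2 l hl.2]
          ring
    exact (this Finset.univ).1
  have hiso : ∀ g : GL ι F, g ∈ isometryGroup F Q ↔ ∀ x, weight (mv (P⁻¹ * g * P) x) = weight x := by
    intro g
    rw [mem_isometry]
    constructor
    · intro h x
      refine mul_left_cancel₀ hc ?_
      rw [← hQP, ← hQP, mv_mul, mv_mul, mv_mv_inv, h]
    · intro h z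
      have h1 := h (mv P⁻¹ z)
      rw [mv_mul, mv_mul, mv_mv_inv] at h1
      rw [← mv_mv_inv P (mv g z), hQP, h1, ← hQP, mv_mv_inv]
  have hconj : ∀ h : GL ι F, P⁻¹ * (P * h * P⁻¹) * P = h := fun h => by group
  have hisoc : ∀ h : GL ι F, (∀ x, weight (mv h x) = weight x) → P * h * P⁻¹ ∈ isometryGroup F Q :=
    fun h hh => (hiso _).2 fun x => by rw [hconj]; exact hh x
  have hcomm : ∀ g h : GL ι F, (∀ x, weight (mv g x) = weight x) → (∀ x, weight (mv h x) = weight x) →
      P * (g * h * g⁻¹ * h⁻¹) * P⁻¹ ∈ Geo.omegaGL Q := by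
    intro g h hg hh
    refine Subgroup.mem_map.2 ⟨⁅(⟨_, hisoc g hg⟩ : isometryGroup F Q), ⟨_, hisoc h hh⟩⁆,
      Subgroup.commutator_mem_commutator (Subgroup.mem_top _) (Subgroup.mem_top _), ?_⟩
    simp [commutatorElement_def]
    group
  have hpm : ∀ (σ : Equiv.Perm ι) (x : ι → F), weight (mv (pm σ) x) = weight x := fun σ x => by
    rw [mv_pm, weight, weight]
    exact Equiv.sum_comp σ⁻¹ (fun r => if x r = 0 then (0 : F) else 1)
  have hk2 : 2 ≤ k := by omega
  have hk3 : ∀ w : ℕ, w ≤ k → (w : F) = 1 → w = 1 := by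
    intro w hw h
    have hw3 : w ≤ 3 := by omega
    interval_cases w
    · simp at h
    · rfl
    · exact absurd h (fun h => one_ne_zero (show (1 : F) = 0 by push_cast at h; linear_combination h))
    · exact absurd h (fun h => one_ne_zero (show (1 : F) = 0 by push_cast at h; linear_combination h3 - h))
  obtain ⟨a, bb, cc, r, s, hnd, hab, hac⟩ := exists_five hn e hdec.two_le hk2
  simp only [List.nodup_cons, List.mem_cons, List.not_mem_nil, or_false, not_or, List.nodup_nil,
    and_true, not_false_eq_true] at hnd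
  obtain ⟨⟨nab, nac, nar, nas⟩, ⟨nbc, nbr, nbs⟩, ⟨ncr, ncs⟩, nrs⟩ := hnd
  refine ⟨(monGroup ι F).comap (MulAut.conj P⁻¹).toMonoidHom ⊓ Geo.omegaGL Q,
    lt_of_le_not_ge ?_ ?_, lt_of_le_not_ge inf_le_right ?_⟩
  · refine fun x hx => ⟨?_, hx.2⟩
    show P⁻¹ * x * (P⁻¹)⁻¹ ∈ monGroup ι F
    rw [inv_inv]
    refine mon_of_weight hk3 ((hiso x).1 ?_) (blockMon_of_stab hP hx.1)
    exact (Subgroup.map_subtype_le _) hx.2
  · intro hle
    have h := hcomm (pm (Equiv.swap a bb)) (pm (Equiv.swap bb cc)) (hpm _) (hpm _)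
    have hinv : ∀ σ : Equiv.Perm ι, (pm σ : GL ι F)⁻¹ = pm σ⁻¹ := fun σ => by
      refine inv_eq_of_mul_eq_one_right (ext_ev fun l => ?_)
      rw [mv_mul, mv_pm_ev, mv_pm_ev, mv_one]
      simp
    have hprod : (pm (Equiv.swap a bb) * pm (Equiv.swap bb cc) * (pm (Equiv.swap a bb))⁻¹ *
        (pm (Equiv.swap bb cc))⁻¹ : GL ι F) = pm (Equiv.swap a bb * Equiv.swap bb cc * Equiv.swap a bb *
          Equiv.swap bb cc) := by
      refine ext_ev fun l => ?_
      simp only [hinv, Equiv.swap_inv, mv_mul, mv_pm_ev, Equiv.Perm.mul_apply]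
    rw [hprod] at h
    set σ := Equiv.swap a bb * Equiv.swap bb cc * Equiv.swap a bb * Equiv.swap bb cc
    have hmem := hle ⟨show P⁻¹ * (P * pm σ * P⁻¹) * (P⁻¹)⁻¹ ∈ monGroup ι F by
      rw [inv_inv, hconj]; exact fun l => ⟨σ l, 1, by rw [mv_pm_ev, one_smul]⟩, h⟩
    refine not_blockMon_pm (F := F) hab ?_ (by simpa [hconj] using blockMon_of_stab hP hmem.1)
    have sa : σ a = cc := by
      simp [σ, Equiv.swap_apply_of_ne_of_ne nab nac, Equiv.swap_apply_of_ne_of_ne (Ne.symm nac) (Ne.symm nbc)]
    have sb : σ bb = a := by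
      simp [σ, Equiv.swap_apply_of_ne_of_ne (Ne.symm nac) (Ne.symm nbc)]
    rw [sa, sb]
    exact Ne.symm hac
  · intro hle
    have hv' : (pr a + pr bb + pr cc + pr r : Module.Dual F (ι → F)) (ev a + ev bb + ev cc + ev r) = 4 := by
      simp [nab, nac, nar, nbc, nbr, ncr, Ne.symm nab, Ne.symm nac, Ne.symm nar, Ne.symm nbc, Ne.symm nbr,
        Ne.symm ncr]
      norm_num
    set v : ι → F := ev a + ev bb + ev cc + ev r with hvdef
    obtain ⟨g0, hg0⟩ := exists_isDev (u := v) (φ := (pr a + pr bb + pr cc + pr r : Module.Dual F (ι → F))) (by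
      rw [hv']; intro h; exact h2 (by linear_combination h - h3))
    have hw0 : ∀ x, weight (mv g0 x) = weight x := by
      intro x
      rw [weight_eq_sum_pow, weight_eq_sum_pow, hq]
      refine sum_change (f := fun y => y ^ (3 - 1)) x _ {a, bb, cc, r} (fun l hl => ?_) ?_
      · simp only [Finset.mem_insert, Finset.mem_singleton, not_or] at hl
        rw [hg0]; simp [v, hl.1, hl.2.1, hl.2.2.1, hl.2.2.2]
      · rw [Finset.sum_insert (by simp [nab, nac, nar]), Finset.sum_insert (by simp [nbc, nbr]),
          Finset.sum_pair ncr, hg0]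
        simp [v, nab, nac, nar, nbc, nbr, ncr, Ne.symm nab, Ne.symm nac, Ne.symm nar, Ne.symm nbc,
          Ne.symm nbr, Ne.symm ncr]
        linear_combination 2 * (x a + x bb + x cc + x r) ^ 2 * h3
    have h := hcomm g0 (pm (Equiv.swap r s)) hw0 (hpm _)
    have hmem := (hle h).1
    replace hmem : P⁻¹ * (P * (g0 * pm (Equiv.swap r s) * g0⁻¹ * (pm (Equiv.swap r s))⁻¹) * P⁻¹) * (P⁻¹)⁻¹
        ∈ monGroup ι F := hmem
    rw [inv_inv, hconj] at hmem
    refine not_mon_of_two (i := a) nbc ?_ ?_ hmem
    all_goals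
      have hsw : (pm (Equiv.swap r s) : GL ι F)⁻¹ = pm (Equiv.swap r s) := by
        refine inv_eq_of_mul_eq_one_right (ext_ev fun l => ?_)
        rw [mv_mul, mv_pm_ev, mv_pm_ev, mv_one, Equiv.swap_apply_self]
      rw [hsw, mv_mul, mv_mul, mv_mul, mv_pm_ev, Equiv.swap_apply_of_ne_of_ne nar nas, hg0.inv,
        LinearMap.smul_apply, hv']
      rw [mv_pm, hg0]
      simp [v, nab, nac, nar, nas, nbc, nbr, nbs, ncr, ncs, nrs, Ne.symm nab, Ne.symm nac, Ne.symm nar,
        Ne.symm nas, Ne.symm nbc, Ne.symm nbr, Ne.symm nbs, Ne.symm ncr, Ne.symm ncs, Ne.symm nrs,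
        Equiv.swap_apply_def]
      rw [show (1 + 4 : F) = 2 by linear_combination h3]
      intro hh
      field_simp at hh
      exact one_ne_zero (show (1 : F) = 0 by
        first
          | linear_combination hh - h3
          | linear_combination -hh - h3
          | linear_combination hh + h3
          | linear_combination -hh + h3
          | linear_combination hh
          | linear_combination -hh)

end Cfsg.Agent.Imprim
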