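/-
GU₂(2) wr S_t preserves a finer orthonormal frame.
-/
import Mathlib
import Cfsg.Prelude.Def_LieClassical
import Cfsg.Agent.Lib.Imprimitive.Frames
import Cfsg.Agent.Lib.Transvec.HermStd
set_option autoImplicit false

namespace Cfsg.Agent.Imprim

open scoped Matrix
open Matrix
open Cfsg.Agent.Transvec

attribute [-simp] Matrix.mulVec_single Matrix.mulVec_single_one

theorem unitary_frame_not_maximal {F : Type*} [Field F] [Fintype F] (n : ℕ) (hF : Fintype.card F = 4)
    (hn : 13 ≤ n) {t : ℕ} (D : Fin t → Submodule F (Fin n → F))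
    (hD : Geo.IsNondegenerateMDecomposition (hermForm n F 2) 2 D) :
    ∃ K : Subgroup (GL (Fin n) F),
      Geo.decompositionStabilizer D ⊓ (GU n F 2 ⊓ Geo.specialLinear (Fin n) F) < K ∧
        K < (GU n F 2 ⊓ Geo.specialLinear (Fin n) F) := by
  classical
  obtain ⟨σ, hσ, -, hf⟩ := Herm.exists_unitary_std (n := n) (q := 2) (by simpa using hF) (by omega)
  set f := hermForm n F 2 with hfdef
  have h2 : (2 : F) = 0 := by
    have : (2 : F) * 2 = 0 := by
      have : ((4 : ℕ) : F) = 0 := by rw [← hF]; exact Nat.cast_card_eq_zero F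
      push_cast at this
      linear_combination this
    rcases mul_eq_zero.1 this with h | h <;> exact h
  have hfix : ∀ y : F, σ y = y → y ≠ 0 → y = 1 := fun y hy hy0 => by
    rw [hσ] at hy
    exact (mul_eq_left₀ hy0).1 (by linear_combination hy)
  -- an orthonormal basis of each block
  have hbasis : ∀ i, ∃ v w : Fin n → F, v ∈ D i ∧ w ∈ D i ∧ f v w = 0 ∧ f v v = 1 ∧ f w w = 1 := by
    intro i
    have hN : Herm.Nondeg hf (D i) := (Herm.nondeg_iff hf).2 fun u hu h => by
      by_contra hu0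
      obtain ⟨x, hx, hxu⟩ := (hD.nondegenerate i u hu hu0).1
      exact hxu (h x hx)
    have h2d : Module.finrank F (D i) = 2 := hD.decomp.finrank_eq i
    obtain ⟨v, hv, hvv⟩ := Herm.exists_anisotropic hf hN (fun h => by rw [h, finrank_bot] at h2d; omega)
    have hvv1 : f v v = 1 := hfix _ (Herm.self_fixed hf v) hvv
    have hlt : Submodule.span F {v} < D i := lt_of_le_of_ne (by rwa [Submodule.span_singleton_le_iff_mem])
      (fun h => by rw [← h, Herm.finrank_span_single hf hvv] at h2d; omega)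
    obtain ⟨x, hx, hxv⟩ := SetLike.exists_of_lt hlt
    set w := x - f x v • v with hw
    have hwD : w ∈ D i := Submodule.sub_mem _ hx (Submodule.smul_mem _ _ hv)
    have hwv : f w v = 0 := by rw [hw, Herm.sub_left hf, hf.smul_left, hvv1, mul_one, sub_self]
    have hvw : f v w = 0 := (Herm.f_eq_zero_comm hf).1 hwv
    have hw0 : w ≠ 0 := fun h => hxv (by
      rw [sub_eq_zero.1 h]; exact Submodule.smul_mem _ _ (Submodule.mem_span_singleton_self v))
    refine ⟨v, w, hv, hwD, hvw, hvv1, hfix _ (Herm.self_fixed hf w) fun hww => ?_⟩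
    have hsp : Submodule.span F ({v, w} : Set (Fin n → F)) = D i := by
      refine Submodule.eq_of_le_of_finrank_le (Submodule.span_le.2 (by rintro z (rfl | rfl); exacts [hv, hwD])) ?_
      rw [h2d]
      have hle : Submodule.span F {v} < Submodule.span F ({v, w} : Set (Fin n → F)) := by
        refine lt_of_le_of_ne (Submodule.span_mono (by simp)) fun h => hw0 ?_
        have hwm : w ∈ Submodule.span F {v} := h ▸ Submodule.subset_span (by simp)
        obtain ⟨a, ha⟩ := Submodule.mem_span_singleton.1 hwm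
        have : f w v = a := by rw [← ha, hf.smul_left, hvv1, mul_one]
        rw [hwv] at this
        rw [← ha, ← this, zero_smul]
      have := Submodule.finrank_lt_finrank_of_lt hle
      rw [Herm.finrank_span_single hf hvv] at this
      omega
    refine hw0 ((Herm.nondeg_iff hf).1 hN w hwD fun z hz => ?_)
    rw [← hsp] at hz
    obtain ⟨a, b, rfl⟩ := Submodule.mem_span_pair.1 hz
    rw [hf.add_left, hf.smul_left, hf.smul_left, hvw, hww, mul_zero, mul_zero, add_zero]
  choose bv bw hbv hbw hbvw hbvv hbww using hbasis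
  obtain ⟨e0, -, -⟩ := exists_adapted hD.decomp
  let e : Fin n ≃ Fin t × Fin 2 := e0
  let u : Fin n → Fin n → F := fun r => if (e r).2 = 0 then bv (e r).1 else bw (e r).1
  have hum : ∀ r, u r ∈ D (e r).1 := fun r => by
    simp only [u]; split_ifs
    · exact hbv _
    · exact hbw _
  have huu : ∀ r, f (u r) (u r) = 1 := fun r => by
    simp only [u]; split_ifs
    · exact hbvv _
    · exact hbww _
  have huo : ∀ r s, r ≠ s → f (u r) (u s) = 0 := by
    intro r s hrs
    by_cases hb : (e r).1 = (e s).1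
    · have h2' : (e r).2 ≠ (e s).2 := fun h => hrs (e.injective (Prod.ext hb h))
      simp only [u]
      rw [hb]
      rcases Fin.exists_fin_two.1 ⟨(e r).2, rfl⟩ with hr | hr <;>
        rcases Fin.exists_fin_two.1 ⟨(e s).2, rfl⟩ with hs | hs <;> rw [hr, hs] at h2' ⊢ <;> simp at h2' ⊢
      · exact hbvw _
      · exact (Herm.f_eq_zero_comm hf).1 (hbvw _)
    · exact hD.orthogonal _ _ hb _ (hum r) _ (hum s)
  have huli : LinearIndependent F u := by
    rw [Fintype.linearIndependent_iff]
    intro g hg r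
    have := congrArg (Herm.formH hf (u r)) hg
    rw [map_sum, map_zero, Finset.sum_eq_single r (fun s _ hs => by
      rw [map_smul, Herm.formH_apply, huo s r hs, smul_zero]) (by simp), map_smul, Herm.formH_apply, huu,
      smul_eq_mul, mul_one] at this
    exact this
  obtain ⟨P, hP0⟩ := exists_gl_of_li u huli
  have hP : ∀ i x, InBlock e i x ↔ mv P x ∈ D i :=
    adapted_iff hD.decomp.indep fun r => by rw [hP0]; exact hum r
  let B : (Fin n → F) → (Fin n → F) → F := fun x y => ∑ r, x r * σ (y r)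
  have hfP : ∀ x y, f (mv P x) (mv P y) = B x y := by
    intro x y
    show Herm.formH hf (mv P y) (mv P x) = _
    rw [mv_eq_sum P x, map_sum]
    refine Finset.sum_congr rfl fun r _ => ?_
    rw [map_smul, Herm.formH_apply, hP0, hf.herm, smul_eq_mul]
    congr 2
    show Herm.formH hf (u r) (mv P y) = y r
    rw [mv_eq_sum P y, map_sum, Finset.sum_eq_single r (fun s _ hs => by
      rw [map_smul, Herm.formH_apply, hP0, huo s r hs, smul_zero]) (by simp), map_smul, Herm.formH_apply,
      hP0, huu, smul_eq_mul, mul_one]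
  have hwB : ∀ x, weight x = B x x := by
    intro x
    rw [weight_eq_sum_pow, hF]
    refine Finset.sum_congr rfl fun r _ => ?_
    rw [hσ]; ring
  have hGU : ∀ g : GL (Fin n) F, (∀ x y, B (mv g x) (mv g y) = B x y) → P * g * P⁻¹ ∈ GU n F 2 := by
    intro g hg
    show ∀ x y, f (mv (P * g * P⁻¹) x) (mv (P * g * P⁻¹) y) = f x y
    intro x y
    rw [mv_mul, mv_mul, mv_mul, mv_mul, hfP, hg, ← hfP, mv_mv_inv, mv_mv_inv]
  have hconj : ∀ h : GL (Fin n) F, P⁻¹ * (P * h * P⁻¹) * P = h := fun h => by group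
  have hSLn : (Geo.specialLinear (Fin n) F).Normal := MonoidHom.normal_ker _
  have hk : ∀ w : ℕ, w ≤ 2 → (w : F) = 1 → w = 1 := by
    intro w hw h
    interval_cases w
    · simp at h
    · rfl
    · exact absurd h (fun h => one_ne_zero (show (1 : F) = 0 by push_cast at h; linear_combination h2 - h))
  obtain ⟨a, bb, cc, r, s, hnd, hab, hac⟩ := exists_five (by simp; omega) e hD.decomp.two_le le_rfl
  simp only [List.nodup_cons, List.mem_cons, List.not_mem_nil, or_false, not_or, List.nodup_nil,
    and_true, not_false_eq_true] at hnd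
  obtain ⟨⟨nab, nac, nar, nas⟩, ⟨nbc, nbr, nbs⟩, ⟨ncr, ncs⟩, nrs⟩ := hnd
  refine ⟨(monGroup (Fin n) F).comap (MulAut.conj P⁻¹).toMonoidHom ⊓ (GU n F 2 ⊓ Geo.specialLinear (Fin n) F),
    lt_of_le_not_ge ?_ ?_, lt_of_le_not_ge inf_le_right ?_⟩
  · refine fun x hx => ⟨?_, hx.2⟩
    show P⁻¹ * x * (P⁻¹)⁻¹ ∈ monGroup (Fin n) F
    rw [inv_inv]
    refine mon_of_weight hk (fun y => ?_) (blockMon_of_stab hP hx.1)
    have h : ∀ p q, f (mv x p) (mv x q) = f p q := hx.2.1
    rw [hwB, hwB, ← hfP, ← hfP, mv_mul, mv_mul, mv_mv_inv, h]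
  · intro hle
    set π := Equiv.swap a bb * Equiv.swap bb cc
    have hsl : (pm π : GL (Fin n) F) ∈ Geo.specialLinear (Fin n) F := by
      rw [mem_sl_iff, det_pm, map_mul, Equiv.Perm.sign_swap nab, Equiv.Perm.sign_swap nbc]
      simp
    have hB : ∀ x y, B (mv (pm π : GL (Fin n) F) x) (mv (pm π : GL (Fin n) F) y) = B x y := fun x y => by
      simp only [B, mv_pm]
      exact Equiv.sum_comp π⁻¹ (fun l => x l * σ (y l))
    have hmem := hle ⟨show P⁻¹ * (P * pm π * P⁻¹) * (P⁻¹)⁻¹ ∈ monGroup (Fin n) F by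
      rw [inv_inv, hconj]; exact fun l => ⟨π l, 1, by rw [mv_pm_ev, one_smul]⟩, hGU _ hB,
      hSLn.conj_mem _ hsl P⟩
    refine not_blockMon_pm (F := F) hab ?_ (by simpa [hconj] using blockMon_of_stab hP hmem.1)
    have sa : π a = bb := by simp [π, Equiv.swap_apply_of_ne_of_ne nab nac]
    have sb : π bb = cc := by
      simp [π, Equiv.swap_apply_of_ne_of_ne (Ne.symm nac) (Ne.symm nbc)]
    rw [sa, sb, ← hab]
    exact hac
  · intro hle
    set φ : Module.Dual F (Fin n → F) := pr a + pr bb + pr cc + pr r with hφ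
    set v : Fin n → F := ev a + ev bb + ev cc + ev r with hv
    have hφv : φ v = 0 := by
      simp [φ, v, nab, nac, nar, nbc, nbr, ncr, Ne.symm nab, Ne.symm nac, Ne.symm nar, Ne.symm nbc,
        Ne.symm nbr, Ne.symm ncr]
      linear_combination 2 * h2
    have hB : ∀ x y, B (mv (tv v φ hφv) x) (mv (tv v φ hφv) y) = B x y := by
      intro x y
      simp only [B, mv_tv, hσ]
      rw [← sub_eq_zero, ← Finset.sum_sub_distrib,
        ← Finset.sum_subset (Finset.subset_univ {a, bb, cc, r}) (fun l _ hl => by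
          simp only [Finset.mem_insert, Finset.mem_singleton, not_or] at hl
          simp [v, hl.1, hl.2.1, hl.2.2.1, hl.2.2.2])]
      rw [Finset.sum_insert (by simp [nab, nac, nar]), Finset.sum_insert (by simp [nbc, nbr]),
        Finset.sum_pair ncr]
      simp [φ, v, nab, nac, nar, nbc, nbr, ncr, Ne.symm nab, Ne.symm nac, Ne.symm nar, Ne.symm nbc,
        Ne.symm nbr, Ne.symm ncr]
      linear_combination ((x a * y a + x bb * y bb + x cc * y cc + x r * y r) * (y a + y bb + y cc + y r)
        + 4 * (x a + x bb + x cc + x r) * (y a + y bb + y cc + y r) ^ 2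
        - (x a + x bb + x cc + x r) *
          (y a * y bb + y a * y cc + y a * y r + y bb * y cc + y bb * y r + y cc * y r)) * h2
    have hmem := (hle ⟨hGU _ hB, hSLn.conj_mem _ (tv_mem_specialLinear hφv) P⟩).1
    replace hmem : P⁻¹ * (P * tv v φ hφv * P⁻¹) * (P⁻¹)⁻¹ ∈ monGroup (Fin n) F := hmem
    rw [inv_inv, hconj] at hmem
    refine not_mon_of_two (i := a) nbc ?_ ?_ hmem <;>
      simp [mv_tv, φ, v, nab, nac, nar, nbc, nbr, ncr, Ne.symm nab, Ne.symm nac, Ne.symm nar, Ne.symm nbc,
        Ne.symm nbr, Ne.symm ncr]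

end Cfsg.Agent.Imprim
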