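/-
The wreath product Sp(2,2) wr S_m is not maximal in Sp(2m,2): it preserves a quadratic form.
-/
import Mathlib
import Cfsg.Prelude.Def_ClassicalGeometry
import Cfsg.Agent.Lib.Imprimitive.NonMax
import Cfsg.Agent.Lib.Transvec.SympStd
set_option autoImplicit false

namespace Cfsg.Agent.Imprim

open scoped Matrix
open Matrix
open Cfsg.Agent.Transvec

attribute [-simp] Matrix.mulVec_single Matrix.mulVec_single_one

theorem symp_wreath_two_not_maximal {F : Type*} [Field F] [Fintype F] (m : ℕ) (hm : 7 ≤ m)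
    (hq : Fintype.card F = 2) {t : ℕ} (D : Fin t → Submodule F (Fin m ⊕ Fin m → F))
    (hD : Geo.IsNondegenerateMDecomposition (sympForm m F) 2 D) :
    ∃ K : Subgroup (GL (Fin m ⊕ Fin m) F), Geo.decompositionStabilizer D ⊓ spGL m F < K ∧
      K < spGL m F := by
  classical
  obtain ⟨e, P, hP⟩ := exists_adapted hD.decomp
  have ht : t = m := by
    have := Fintype.card_congr e
    simp at this
    omega
  have hf := sympForm_isSymplectic m F
  set f := sympForm m F
  have hone : ∀ y : F, y ≠ 0 → y = 1 := fun y hy => by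
    have := FiniteField.pow_card_sub_one_eq_one y hy
    rwa [hq, show 2 - 1 = 1 from rfl, pow_one] at this
  have hsl : ∀ g : GL (Fin m ⊕ Fin m) F, g ∈ Geo.specialLinear (Fin m ⊕ Fin m) F := fun g =>
    mem_sl_iff.2 (hone _ (det_ne_zero g))
  have hmem : ∀ k, mv P (ev k) ∈ D (e k).1 := fun k =>
    (hP _ _).1 (by simpa using inBlock_ev e k (1 : F))
  have hB0 : ∀ k l, (e k).1 ≠ (e l).1 → f (mv P (ev k)) (mv P (ev l)) = 0 := fun k l h =>
    hD.orthogonal _ _ h _ (hmem k) _ (hmem l)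
  have hB01 : ∀ i, f (mv P (ev (e.symm (i, 1)))) (mv P (ev (e.symm (i, 0)))) = 1 := by
    intro i
    refine hone _ fun h0 => ?_
    have hv : mv P (ev (e.symm (i, 0))) ∈ D i := by simpa using hmem (e.symm (i, 0))
    obtain ⟨⟨x, hx, hxne⟩, -⟩ := hD.nondegenerate i _ hv (mv_ev_ne_zero P _)
    apply hxne
    have hxb : InBlock e i (mv P⁻¹ x) := (hP _ _).2 (by rwa [mv_mv_inv])
    rw [← mv_mv_inv P x, mv_eq_sum P, f_sum_left hf]
    refine Finset.sum_eq_zero fun k _ => ?_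
    rw [hf.bilinear.smul_left]
    by_cases hk : (e k).1 = i
    · obtain ⟨j, rfl⟩ : ∃ j, k = e.symm (i, j) := ⟨(e k).2, by rw [← hk, Prod.mk.eta, Equiv.symm_apply_apply]⟩
      fin_cases j
      · simp only [Fin.zero_eta, hf.alternating, mul_zero]
      · simp only [Fin.mk_one, h0, mul_zero]
    · rw [hxb k hk, zero_mul]
  have hB : ∀ i k, f (mv P (ev k)) (mv P (ev (e.symm (i, 0)))) =
      (pr (e.symm (i, 1)) : Module.Dual F (Fin m ⊕ Fin m → F)) (ev k) := by
    intro i k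
    obtain ⟨⟨i', j⟩, rfl⟩ := e.symm.surjective k
    by_cases hi : i' = i
    · subst hi
      fin_cases j
      · simp [hf.alternating, Pi.single_apply]
      · simp [hB01]
    · rw [hB0 _ _ (by simpa using hi)]
      simp [Pi.single_apply, Ne.symm hi]
  have hformR : ∀ (v : Fin m ⊕ Fin m → F) (φ : Module.Dual F (Fin m ⊕ Fin m → F)) (h : φ v = 0),
      (∀ k, f (mv P (ev k)) (mv P v) = co φ k) →
      P * tv v φ h * P⁻¹ ∈ spGL m F := by
    intro v φ h hk
    have hφ : ∀ x, f (mv P x) (mv P v) = φ x := fun x => by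
      rw [mv_eq_sum P x, f_sum_left hf, dual_apply φ x]
      exact Finset.sum_congr rfl fun k _ => by rw [hf.bilinear.smul_left, hk]
    have : P * tv v φ h * P⁻¹ = stv hf (mv P v) 1 := by
      refine ext_mv fun x => ?_
      rw [mv_mul, mv_mul, mv_tv, mv_stv, mv_add, mv_smul, mv_mv_inv, one_mul, ← hφ, mv_mv_inv]
    rw [this]
    exact stv_mem hf _ _
  refine ⟨(countGroup e).comap (MulAut.conj P⁻¹).toMonoidHom ⊓ spGL m F,
    lt_of_le_not_ge ?_ ?_, lt_of_le_not_ge inf_le_right ?_⟩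
  · refine fun x hx => ⟨?_, hx.2⟩
    show P⁻¹ * x * (P⁻¹)⁻¹ ∈ countGroup e
    refine blockMon_mem_countGroup (by norm_num) (hsl _) fun i => ?_
    obtain ⟨σ, hσ⟩ := hx.1
    refine ⟨σ i, fun y hy => (hP _ _).2 ?_⟩
    rw [inv_inv, mv_mul, mv_mul, mv_mv_inv, ← hσ i]
    exact ⟨mv P y, (hP i y).1 hy, Matrix.toLin'_apply _ _⟩
  · intro hle
    set i0 : Fin t := ⟨0, by omega⟩
    set i1 : Fin t := ⟨1, by omega⟩
    set i2 : Fin t := ⟨2, by omega⟩
    have h01 : i0 ≠ i1 := by simp [i0, i1, Fin.ext_iff]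
    have h02 : i0 ≠ i2 := by simp [i0, i2, Fin.ext_iff]
    have h12 : i1 ≠ i2 := by simp [i1, i2, Fin.ext_iff]
    have hφv : (pr (e.symm (i0, 1)) + pr (e.symm (i1, 1)) + pr (e.symm (i2, 1)) : Module.Dual F (Fin m ⊕ Fin m → F))
        (ev (e.symm (i0, 0)) + ev (e.symm (i1, 0)) + ev (e.symm (i2, 0))) = 0 := by simp
    obtain ⟨hgK, hgB⟩ := count_three (F := F) hq e h01 h02 h12 hφv
    have hh := @hle _ ⟨?_, hformR _ _ hφv fun k => ?_⟩
    · obtain ⟨σ, hσ⟩ := hh.1
      refine hgB fun i => ⟨σ i, fun y hy => (hP _ _).2 ?_⟩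
      rw [← hσ i]
      refine ⟨mv P y, (hP i y).1 hy, ?_⟩
      rw [Matrix.toLin'_apply]
      show mv _ (mv P y) = _
      rw [mv_mul, mv_mul, mv_inv_mv]
    · show P⁻¹ * (P * _ * P⁻¹) * (P⁻¹)⁻¹ ∈ countGroup e
      simpa [mul_assoc] using hgK
    · rw [mv_add, mv_add, hf.bilinear.add_right, hf.bilinear.add_right, hB, hB, hB]
      simp
  · intro hle
    set i0 : Fin t := ⟨0, by omega⟩
    set i1 : Fin t := ⟨1, by omega⟩
    have h01 : i0 ≠ i1 := by simp [i0, i1, Fin.ext_iff]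
    have h0 : (pr (e.symm (i0, 1)) + pr (e.symm (i1, 1)) : Module.Dual F (Fin m ⊕ Fin m → F))
        (ev (e.symm (i0, 0)) + ev (e.symm (i1, 0))) = 0 := by simp
    have h := (hle (hformR _ _ h0 fun k => by
      rw [mv_add, hf.bilinear.add_right, hB, hB]; simp)).1
    replace h : P⁻¹ * (P * tv _ _ h0 * P⁻¹) * (P⁻¹)⁻¹ ∈ countGroup e := h
    rw [show P⁻¹ * (P * tv _ _ h0 * P⁻¹) * (P⁻¹)⁻¹ = tv _ _ h0 by group] at h
    have hc := h.2 (ev (e.symm (i0, 1)))
    rw [mv_tv, blockCount, blockCount] at hc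
    simp only [LinearMap.add_apply, LinearMap.proj_apply, Pi.single_eq_same,
      show (ev (e.symm (i0, 1)) : Fin m ⊕ Fin m → F) (e.symm (i1, 1)) = 0 from
        Pi.single_eq_of_ne (by simp [Ne.symm h01]) _, add_zero, one_smul] at hc
    rw [← sub_eq_zero, ← Finset.sum_sub_distrib, ← Finset.sum_subset (Finset.subset_univ {i0, i1})
      (fun i _ hi => by
        simp only [Finset.mem_insert, Finset.mem_singleton, not_or] at hi
        simp [hi.1, hi.2])] at hc
    rw [Finset.sum_pair h01] at hc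
    simp [Fin.forall_fin_two, h01, Ne.symm h01] at hc

end Cfsg.Agent.Imprim
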