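/-
Subgroups of small index of symmetric groups; the exceptional subgroups of index six of S_6.
-/
import Mathlib
import Cfsg.Agent.Lib.SymPres.SymAut
set_option autoImplicit false

namespace Cfsg.Agent.PermIndex

open Equiv Equiv.Perm MulAction

section General

variable {Ω : Type*} [Fintype Ω] [DecidableEq Ω]

theorem normalCore_eq_bot (h5 : 5 ≤ Fintype.card Ω) {H : Subgroup (Perm Ω)}
    (hA : ¬ alternatingGroup Ω ≤ H) : H.normalCore = ⊥ := by
  by_contra hne
  exact hA ((Equiv.Perm.alternatingGroup_le_of_normal (by rwa [Nat.card_eq_fintype_card])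
    ((Subgroup.nontrivial_iff_ne_bot _).2 hne)).trans H.normalCore_le)

theorem toPermHom_injective (h5 : 5 ≤ Fintype.card Ω) {H : Subgroup (Perm Ω)}
    (hA : ¬ alternatingGroup Ω ≤ H) :
    Function.Injective (MulAction.toPermHom (Perm Ω) (Perm Ω ⧸ H)) := by
  rw [← MonoidHom.ker_eq_bot_iff, ← Subgroup.normalCore_eq_ker, normalCore_eq_bot h5 hA]

theorem not_alternating_le [Nontrivial Ω] {H : Subgroup (Perm Ω)} (h : 2 < H.index) :
    ¬ alternatingGroup Ω ≤ H := fun hle => by
  have := Nat.le_of_dvd (by rw [alternatingGroup.index_eq_two]; norm_num) (Subgroup.index_dvd_of_le hle)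
  rw [alternatingGroup.index_eq_two] at this
  omega

theorem le_index_of (hn : Fintype.card Ω ≠ 4) {H : Subgroup (Perm Ω)} (hH : H ≠ ⊤)
    (hA : H ≠ alternatingGroup Ω) : Fintype.card Ω ≤ H.index := by
  by_contra hlt
  push Not at hlt
  have h0 : H.index ≠ 0 := Subgroup.index_ne_zero_of_finite
  have h1 : H.index ≠ 1 := fun h => hH (Subgroup.index_eq_one.1 h)
  have h2 : H.index ≠ 2 := fun h => hA (Equiv.Perm.eq_alternatingGroup_of_index_eq_two h)
  have h5 : 5 ≤ Fintype.card Ω := by omega
  haveI : Nontrivial Ω := Fintype.one_lt_card_iff_nontrivial.1 (by omega)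
  have := Nat.card_le_card_of_injective _ (toPermHom_injective h5 (not_alternating_le (H := H) (by omega)))
  rw [Nat.card_perm, Nat.card_perm, ← Subgroup.index_eq_card, Nat.card_eq_fintype_card] at this
  exact absurd this (not_le.2 ((Nat.factorial_lt (by omega)).2 hlt))

/-- A subgroup of index n is a point stabiliser twisted by an automorphism. -/
theorem exists_aut (h5 : 5 ≤ Fintype.card Ω) {H : Subgroup (Perm Ω)} (hH : H.index = Fintype.card Ω) :
    ∃ (θ : Perm Ω ≃* Perm Ω) (x₀ : Ω), ∀ g, g ∈ H ↔ θ g x₀ = x₀ := by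
  haveI : Nontrivial Ω := Fintype.one_lt_card_iff_nontrivial.1 (by omega)
  obtain ⟨e⟩ : Nonempty ((Perm Ω ⧸ H) ≃ Ω) :=
    ⟨(Finite.equivFinOfCardEq ((Subgroup.index_eq_card H).symm.trans hH)).trans (Fintype.equivFin Ω).symm⟩
  let φ : Perm Ω →* Perm Ω := (e.permCongrHom.toMonoidHom).comp (MulAction.toPermHom (Perm Ω) (Perm Ω ⧸ H))
  have hφ : Function.Injective φ :=
    e.permCongrHom.injective.comp (toPermHom_injective h5 (not_alternating_le (by omega)))
  refine ⟨MulEquiv.ofBijective φ (Finite.injective_iff_bijective.1 hφ), e ((1 : Perm Ω) : Perm Ω ⧸ H),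
    fun g => ?_⟩
  show _ ↔ e (g • e.symm (e _)) = _
  rw [Equiv.symm_apply_apply, e.apply_eq_iff_eq]
  change _ ↔ ((g * 1 : Perm Ω) : Perm Ω ⧸ H) = _
  rw [QuotientGroup.eq]
  simp

theorem card_stabilizer [Nontrivial Ω] (x : Ω) :
    Nat.card (stabilizer (Perm Ω) x) * Fintype.card Ω = Nat.card (Perm Ω) := by
  rw [← Subgroup.card_mul_index (stabilizer (Perm Ω) x), index_stabilizer_of_transitive,
    Nat.card_eq_fintype_card (α := Ω)]

theorem index_stab (x : Ω) : (stabilizer (Perm Ω) x).index = Fintype.card Ω := by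
  rw [index_stabilizer_of_transitive, Nat.card_eq_fintype_card]

theorem eq_stab_of_fix {H : Subgroup (Perm Ω)} (hH : H.index = Fintype.card Ω) {x : Ω}
    (h : ∀ g ∈ H, g x = x) : H = stabilizer (Perm Ω) x := by
  refine Subgroup.eq_of_le_of_card_ge (fun g hg => h g hg) ?_
  have h1 := Subgroup.card_mul_index H
  have h2 := Subgroup.card_mul_index (stabilizer (Perm Ω) x)
  rw [hH] at h1
  rw [index_stab, ← h1] at h2
  exact le_of_eq (Nat.eq_of_mul_eq_mul_right (Fintype.card_pos_iff.2 ⟨x⟩) h2)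

/-- In degree at most six, a subgroup of index n fixes a point or is transitive. -/
theorem fixed_or_transitive (h6 : Fintype.card Ω ≤ 6) {H : Subgroup (Perm Ω)}
    (hH : H.index = Fintype.card Ω) :
    (∃ x : Ω, H = stabilizer (Perm Ω) x) ∨ ∀ x y, ∃ g ∈ H, g x = y := by
  classical
  by_contra hcon
  push Not at hcon
  obtain ⟨hfix, x, y, hxy⟩ := hcon
  set s := MulAction.orbit H x with hs
  have hinv : ∀ g ∈ H, ∀ z, g z ∈ s ↔ z ∈ s := fun g hg z => by
    constructor
    · rintro ⟨k, hk⟩
      refine ⟨⟨g, hg⟩⁻¹ * k, ?_⟩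
      show g⁻¹ (k.1 x) = z
      rw [show k.1 x = g z from hk]
      simp
    · rintro ⟨k, hk⟩
      refine ⟨⟨g, hg⟩ * k, ?_⟩
      show g (k.1 x) = g z
      rw [show k.1 x = z from hk]
  let r : H → Perm {z // z ∈ s} × Perm {z // ¬ z ∈ s} := fun g =>
    (g.1.subtypePerm fun z => (hinv g.1 g.2 z), g.1.subtypePerm fun z => not_congr (hinv g.1 g.2 z))
  have hr : Function.Injective r := by
    intro g g' h
    apply Subtype.ext
    ext z
    by_cases hz : z ∈ s
    · simpa [r] using congrArg (fun q => ((q.1 ⟨z, hz⟩ : {z // z ∈ s}) : Ω)) h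
    · simpa [r] using congrArg (fun q => ((q.2 ⟨z, hz⟩ : {z // ¬ z ∈ s}) : Ω)) h
  have hle := Nat.card_le_card_of_injective r hr
  rw [Nat.card_prod, Nat.card_perm, Nat.card_perm, Nat.card_eq_fintype_card (α := {z // z ∈ s}),
    Nat.card_eq_fintype_card (α := {z // ¬ z ∈ s}), Fintype.card_subtype_compl] at hle
  have hk1 : Fintype.card {z // z ∈ s} ≠ 1 := by
    intro h
    obtain ⟨⟨z, hz⟩, hzu⟩ := Fintype.card_eq_one_iff.1 h
    refine hfix z (eq_stab_of_fix hH fun g hg => ?_)
    exact congrArg Subtype.val (hzu ⟨g z, (hinv g hg z).2 hz⟩)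
  have hk0 : 0 < Fintype.card {z // z ∈ s} := Fintype.card_pos_iff.2 ⟨⟨x, MulAction.mem_orbit_self x⟩⟩
  have hys : y ∉ s := fun ⟨g, hg⟩ => hxy g.1 g.2 hg
  have hkn : Fintype.card {z // z ∈ s} + 1 < Fintype.card Ω := by
    have hlt := Fintype.card_subtype_lt (p := fun z => z ∈ s) hys
    by_contra hge
    have h : Fintype.card {z // ¬ z ∈ s} = 1 := by rw [Fintype.card_subtype_compl]; omega
    obtain ⟨⟨z, hz⟩, hzu⟩ := Fintype.card_eq_one_iff.1 h
    refine hfix z (eq_stab_of_fix hH fun g hg => ?_)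
    exact congrArg Subtype.val (hzu ⟨g z, fun hc => hz ((hinv g hg z).1 hc)⟩)
  have h1 := Subgroup.card_mul_index H
  rw [hH, Nat.card_perm, Nat.card_eq_fintype_card (α := Ω)] at h1
  generalize Fintype.card {z // z ∈ s} = k at *
  generalize Fintype.card Ω = n at *
  generalize Nat.card H = c at *
  have hk : k < n := by omega
  interval_cases n <;> interval_cases k <;> simp_all [Nat.factorial] <;> omega

theorem exists_eq_stab (h6 : Fintype.card Ω ≠ 6) {H : Subgroup (Perm Ω)} (hH : H.index = Fintype.card Ω) :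
    ∃ x : Ω, H = stabilizer (Perm Ω) x := by
  have h0 : Fintype.card Ω ≠ 0 := hH ▸ Subgroup.index_ne_zero_of_finite
  rcases le_or_gt 7 (Fintype.card Ω) with h7 | h7
  · obtain ⟨θ, x₀, hθ⟩ := exists_aut (by omega) hH
    obtain ⟨π, hπ⟩ := Cfsg.Agent.SymAut.exists_conj h7 θ
    refine ⟨π⁻¹ x₀, Subgroup.ext fun g => ?_⟩
    rw [hθ, hπ, mem_stabilizer_iff]
    simp only [Perm.mul_apply, Perm.smul_def]
    exact Perm.eq_inv_iff_eq.symm
  rcases fixed_or_transitive (by omega) hH with h | h
  · exact h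
  obtain ⟨x⟩ := Fintype.card_pos_iff.1 (Nat.pos_of_ne_zero h0)
  rcases eq_or_ne (Fintype.card Ω) 1 with h1 | h1
  · obtain ⟨z, hz⟩ := Fintype.card_eq_one_iff.1 h1
    exact ⟨x, eq_stab_of_fix hH fun g _ => (hz (g x)).trans (hz x).symm⟩
  exfalso
  haveI : IsPretransitive H Ω := ⟨fun x y => by
    obtain ⟨g, hg, hgx⟩ := h x y
    exact ⟨⟨g, hg⟩, hgx⟩⟩
  have hd := index_stabilizer_of_transitive H x
  have h2 := Subgroup.card_mul_index (stabilizer H x)
  have h3 := Subgroup.card_mul_index H
  rw [hd, Nat.card_eq_fintype_card (α := Ω)] at h2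
  rw [hH, ← h2, Nat.card_perm, Nat.card_eq_fintype_card (α := Ω)] at h3
  generalize Nat.card (stabilizer H x) = c at *
  generalize Fintype.card Ω = n at *
  interval_cases n <;> simp [Nat.factorial] at h3 h6 <;> omega

end General

/-! ### The symmetric group of degree six -/

/-- x ↦ x + 1 on the projective line over Z/5. -/
def pgen : Perm (Fin 6) := swap 0 1 * swap 1 2 * swap 2 3 * swap 3 4

/-- x ↦ 2 x. -/
def cgen : Perm (Fin 6) := swap 1 2 * swap 2 4 * swap 4 3

/-- x ↦ 1 / x. -/
def tgen : Perm (Fin 6) := swap 0 5 * swap 2 3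

/-- The transitive subgroup of index six. -/
def exotic : Subgroup (Perm (Fin 6)) := Subgroup.closure {pgen, cgen, tgen}

theorem fact_affine : ∀ g : Perm (Fin 6), g 5 = 5 → (∃ j : Fin 5, g * pgen = pgen ^ (j : ℕ) * g) →
    ∃ i : Fin 5, ∃ j : Fin 4, g = pgen ^ (i : ℕ) * cgen ^ (j : ℕ) := by
  decide +kernel

theorem fact_swap : ∀ t : Perm (Fin 6), t 5 = 0 → t 0 = 5 →
    (∃ j : Fin 4, t * cgen = cgen ^ (j : ℕ) * t) →
    ∃ i : Fin 4, t * cgen ^ (i : ℕ) = swap 0 5 ∨ t * cgen ^ (i : ℕ) = tgen := by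
  decide +kernel

theorem fact_fix : ∀ (i : Fin 5) (j : Fin 4), (pgen ^ (i : ℕ) * cgen ^ (j : ℕ)) 0 = 0 → i = 0 := by
  decide +kernel

theorem fact_distinct : ∀ (i k : Fin 5) (j l : Fin 4),
    pgen ^ (i : ℕ) * cgen ^ (j : ℕ) = pgen ^ (k : ℕ) * cgen ^ (l : ℕ) → i = k ∧ j = l := by
  decide +kernel

theorem fact_pow : ∀ y : Fin 6, y ≠ 5 → ∃ i : Fin 5, (pgen ^ (i : ℕ)) 0 = y := by decide +kernel

theorem fact_five : ∀ (i : Fin 5) (j : Fin 4), (pgen ^ (i : ℕ) * cgen ^ (j : ℕ)) 5 = 5 := by decide +kernel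

theorem orderOf_pgen : orderOf pgen = 5 := by
  have := Fact.mk Nat.prime_five
  exact orderOf_eq_prime (by decide +kernel) (by decide +kernel)

theorem exotic_transitive : ∀ x y : Fin 6, ∃ g ∈ exotic, g x = y := by
  have hp : pgen ∈ exotic := Subgroup.subset_closure (by simp)
  have ht : tgen ∈ exotic := Subgroup.subset_closure (by simp)
  have key : ∀ y, ∃ g ∈ exotic, g 5 = y := by
    intro y
    rcases eq_or_ne y 5 with rfl | hy
    · exact ⟨1, exotic.one_mem, rfl⟩
    · obtain ⟨i, hi⟩ := fact_pow y hy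
      refine ⟨pgen ^ (i : ℕ) * tgen, exotic.mul_mem (exotic.pow_mem hp _) ht, ?_⟩
      rw [Perm.mul_apply, show tgen 5 = 0 by decide +kernel, hi]
  intro x y
  obtain ⟨g, hg, hgx⟩ := key x
  obtain ⟨g', hg', hgy⟩ := key y
  exact ⟨g' * g⁻¹, exotic.mul_mem hg' (exotic.inv_mem hg), by
    rw [Perm.mul_apply, Perm.inv_eq_iff_eq.2 hgx.symm, hgy]⟩

theorem card_stab_mul {H : Subgroup (Perm (Fin 6))} (h : ∀ x y, ∃ g ∈ H, g x = y) :
    Nat.card (stabilizer H (5 : Fin 6)) * 6 = Nat.card H := by
  haveI : IsPretransitive H (Fin 6) := ⟨fun x y => by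
    obtain ⟨g, hg, hgx⟩ := h x y
    exact ⟨⟨g, hg⟩, hgx⟩⟩
  rw [← Subgroup.card_mul_index (stabilizer H (5 : Fin 6)), index_stabilizer_of_transitive]
  simp

theorem card_exotic_ge : 120 ≤ Nat.card exotic := by
  rw [← card_stab_mul exotic_transitive]
  have hm : ∀ ij : Fin 5 × Fin 4, pgen ^ (ij.1 : ℕ) * cgen ^ (ij.2 : ℕ) ∈ exotic := fun ij =>
    exotic.mul_mem (exotic.pow_mem (Subgroup.subset_closure (by simp)) _)
      (exotic.pow_mem (Subgroup.subset_closure (by simp)) _)
  have := Nat.card_le_card_of_injective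
    (fun ij : Fin 5 × Fin 4 => (⟨⟨_, hm ij⟩, fact_five ij.1 ij.2⟩ : stabilizer exotic (5 : Fin 6)))
    (fun a c h => by
      have := congrArg (fun w : stabilizer exotic (5 : Fin 6) => ((w : exotic) : Perm (Fin 6))) h
      obtain ⟨h1, h2⟩ := fact_distinct _ _ _ _ this
      exact Prod.ext h1 h2)
  rw [Nat.card_prod, Nat.card_fin, Nat.card_fin] at this
  omega

theorem card_of_index {H : Subgroup (Perm (Fin 6))} (hH : H.index = 6) : Nat.card H = 120 := by
  have := Subgroup.card_mul_index H
  rw [hH, Nat.card_perm, Nat.card_fin, show Nat.factorial 6 = 720 from rfl] at this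
  omega

theorem eq_exotic {H : Subgroup (Perm (Fin 6))} (hH : H.index = 6) (htr : ∀ x y, ∃ g ∈ H, g x = y)
    (hp : pgen ∈ H) : H = exotic := by
  have := Fact.mk Nat.prime_five
  have hcard := card_of_index hH
  have hM : Nat.card (stabilizer H (5 : Fin 6)) = 20 := by
    have := card_stab_mul htr
    omega
  set M := stabilizer H (5 : Fin 6) with hMdef
  set p' : M := ⟨⟨pgen, hp⟩, show pgen 5 = 5 by decide +kernel⟩ with hp'
  let val : M →* Perm (Fin 6) := H.subtype.comp M.subtype
  have hval : Function.Injective val := Subtype.val_injective.comp Subtype.val_injective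
  have hz : Nat.card (Subgroup.zpowers p') = 5 := by
    rw [Nat.card_zpowers, ← orderOf_injective val hval]
    exact orderOf_pgen
  have hnorm : (Subgroup.zpowers p').Normal := by
    let P : Sylow 5 M := Sylow.ofCard (Subgroup.zpowers p') (by
      rw [hz, hM, show (20 : ℕ).factorization 5 = 1 by
        rw [show (20 : ℕ) = 5 ^ 1 * 4 from rfl, Nat.factorization_mul (by norm_num) (by norm_num)]
        simp [Nat.Prime.factorization_self Nat.prime_five,
          Nat.factorization_eq_zero_of_not_dvd (show ¬ 5 ∣ 4 by norm_num)]]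
      norm_num)
    have h1 := P.card_dvd_index
    have hidx : (P : Subgroup M).index = 4 := by
      have := Subgroup.card_mul_index (Subgroup.zpowers p')
      rw [hz, hM] at this
      show (Subgroup.zpowers p').index = 4
      omega
    rw [hidx] at h1
    have h2 : Nat.card (Sylow 5 M) ≡ 1 [MOD 5] := card_sylow_modEq_one 5 M
    have h3 : Nat.card (Sylow 5 M) = 1 := by
      have := Nat.le_of_dvd (by norm_num) h1
      unfold Nat.ModEq at h2
      omega
    haveI := (Nat.card_eq_one_iff_unique.1 h3).1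
    exact P.normal_of_subsingleton
  have hlist : ∀ g : M, ∃ ij : Fin 5 × Fin 4, val g = pgen ^ (ij.1 : ℕ) * cgen ^ (ij.2 : ℕ) := by
    intro g
    obtain ⟨k, hk⟩ := (isOfFinOrder_of_finite p').mem_powers_iff_mem_zpowers.2
      (hnorm.conj_mem p' (Subgroup.mem_zpowers p') g)
    have hk' : val g * pgen = pgen ^ k * val g := by
      have h' := congrArg val hk
      simp only [map_pow, map_mul, map_inv] at h'
      rw [show val p' = pgen from rfl] at h'
      rw [h']
      group
    obtain ⟨i, j, hij⟩ := fact_affine (val g) g.2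
      ⟨⟨k % 5, Nat.mod_lt _ (by norm_num)⟩, by
        rw [hk']; congr 1
        rw [← pow_mod_orderOf, orderOf_pgen]⟩
    exact ⟨(i, j), hij⟩
  choose F hF using hlist
  have hFinj : Function.Injective F := fun a c h => hval (by rw [hF, hF, h])
  have hFsurj := (hFinj.bijective_of_nat_card_le (by rw [hM]; simp)).2
  obtain ⟨gc, hgc⟩ := hFsurj (0, 1)
  have hc : cgen ∈ H := by
    have : val gc = cgen := by rw [hF, hgc]; simp
    exact this ▸ (gc : H).2
  obtain ⟨t₀, ht₀, ht5⟩ := htr 5 0
  obtain ⟨i, hi⟩ := fact_pow (t₀⁻¹ 5) (fun h => by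
    have := congrArg t₀ h
    rw [Perm.inv_def, Equiv.apply_symm_apply, ht5] at this
    exact absurd this (by decide))
  set t := t₀ * pgen ^ (i : ℕ) with htdef
  have ht : t ∈ H := H.mul_mem ht₀ (H.pow_mem hp _)
  have t5 : t 5 = 0 := by
    rw [htdef, Perm.mul_apply]
    have : (pgen ^ (i : ℕ)) 5 = 5 := by
      have := fact_five i 0
      simpa using this
    rw [this, ht5]
  have t0 : t 0 = 5 := by rw [htdef, Perm.mul_apply, hi, Perm.inv_def, Equiv.apply_symm_apply]
  have hnc : ∃ j : Fin 4, t * cgen = cgen ^ (j : ℕ) * t := by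
    have hm : t * cgen * t⁻¹ ∈ H := H.mul_mem (H.mul_mem ht hc) (H.inv_mem ht)
    have e5 : t⁻¹ 5 = 0 := Perm.inv_eq_iff_eq.2 t0.symm
    have e0 : t⁻¹ 0 = 5 := Perm.inv_eq_iff_eq.2 t5.symm
    have f5 : (t * cgen * t⁻¹) 5 = 5 := by
      rw [Perm.mul_apply, Perm.mul_apply, e5, show cgen 0 = 0 by decide +kernel, t0]
    have f0 : (t * cgen * t⁻¹) 0 = 0 := by
      rw [Perm.mul_apply, Perm.mul_apply, e0, show cgen 5 = 5 by decide +kernel, t5]
    have h := hF ⟨⟨_, hm⟩, f5⟩
    set ij := F ⟨⟨_, hm⟩, f5⟩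
    change t * cgen * t⁻¹ = _ at h
    have : ij.1 = 0 := fact_fix ij.1 ij.2 (h ▸ f0)
    rw [this] at h
    refine ⟨ij.2, ?_⟩
    rw [← mul_inv_eq_iff_eq_mul, h]
    simp
  obtain ⟨j, hj⟩ := fact_swap t t5 t0 hnc
  have hmem : t * cgen ^ (j : ℕ) ∈ H := H.mul_mem ht (H.pow_mem hc _)
  rcases hj with hj | hj
  · exfalso
    rw [hj] at hmem
    have hs : ∀ y : Fin 6, swap y 5 ∈ H := by
      intro y
      rcases eq_or_ne y 5 with rfl | hy
      · rw [swap_self]; exact H.one_mem
      obtain ⟨i, hi⟩ := fact_pow y hy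
      have := H.mul_mem (H.mul_mem (H.pow_mem hp (i : ℕ)) hmem) (H.inv_mem (H.pow_mem hp (i : ℕ)))
      rwa [← swap_apply_apply, hi, show (pgen ^ (i : ℕ)) 5 = 5 by simpa using fact_five i 0] at this
    have htop : H = ⊤ := by
      rw [eq_top_iff, ← Equiv.Perm.closure_isSwap, Subgroup.closure_le]
      rintro _ ⟨a, b, hab, rfl⟩
      rcases eq_or_ne a 5 with rfl | ha
      · rw [swap_comm]; exact hs b
      rcases eq_or_ne b 5 with rfl | hb
      · exact hs a
      have : swap a b = swap a 5 * swap b 5 * swap a 5 := by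
        ext z
        simp only [Perm.mul_apply, swap_apply_def]
        grind
      rw [this]
      exact H.mul_mem (H.mul_mem (hs a) (hs b)) (hs a)
    rw [htop, Subgroup.index_top] at hH
    omega
  · rw [hj] at hmem
    refine (Subgroup.eq_of_le_of_card_ge ((Subgroup.closure_le H).2 ?_) ?_).symm
    · intro z hz
      simp only [Set.mem_insert_iff, Set.mem_singleton_iff] at hz
      rcases hz with rfl | rfl | rfl
      · exact hp
      · exact hc
      · exact hmem
    · rw [hcard]; exact card_exotic_ge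

theorem conj_exotic {H : Subgroup (Perm (Fin 6))} (hH : H.index = 6) (htr : ∀ x y, ∃ g ∈ H, g x = y) :
    ∃ π : Perm (Fin 6), exotic.map (MulAut.conj π).toMonoidHom = H := by
  have := Fact.mk Nat.prime_five
  obtain ⟨g, hg⟩ := exists_prime_orderOf_dvd_card' (G := H) 5 (by rw [card_of_index hH]; norm_num)
  rw [← Subgroup.orderOf_coe] at hg
  have hct : ∀ g : Perm (Fin 6), orderOf g = 5 → g.cycleType = Multiset.replicate 1 5 := by
    intro g hg
    obtain ⟨n, hn⟩ := cycleType_prime_order (hg ▸ Nat.prime_five)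
    rw [hg] at hn
    have := g.sum_cycleType ▸ g.support.card_le_univ
    rw [hn] at this
    simp at this
    obtain rfl : n = 0 := by omega
    exact hn
  obtain ⟨π, hπ⟩ := isConj_iff.1 (isConj_iff_cycleType_eq.2
    ((hct _ orderOf_pgen).trans (hct _ hg).symm))
  refine ⟨π, ?_⟩
  have hidx : (H.comap (MulAut.conj π).toMonoidHom).index = 6 := by
    rw [Subgroup.index_comap_of_surjective _ (MulAut.conj π).surjective, hH]
  have h := eq_exotic hidx (fun x y => ?_) (show MulAut.conj π pgen ∈ H by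
    rw [MulAut.conj_apply, hπ]; exact g.2)
  · rw [← h, Subgroup.map_comap_eq_self_of_surjective (MulAut.conj π).surjective]
  · obtain ⟨k, hk, hkx⟩ := htr (π x) (π y)
    refine ⟨π⁻¹ * k * π, ?_, by simp [hkx]⟩
    rw [Subgroup.mem_comap]
    convert! hk using 1
    simp [mul_assoc]

theorem five_cycles : (swap (0 : Fin 5) 1 * swap 1 2 * swap 2 3 * swap 3 4) ^ 5 = 1 ∧
    (swap (0 : Fin 5) 2 * swap 2 1 * swap 1 3 * swap 3 4) ^ 5 = 1 ∧
    ∀ j : Fin 5, (swap (0 : Fin 5) 1 * swap 1 2 * swap 2 3 * swap 3 4) ^ (j : ℕ) ≠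
      swap (0 : Fin 5) 2 * swap 2 1 * swap 1 3 * swap 3 4 := by
  decide +kernel

theorem exists_transitive : ∃ H : Subgroup (Perm (Fin 6)), H.index = 6 ∧ ∀ x y, ∃ g ∈ H, g x = y := by
  have := Fact.mk Nat.prime_five
  obtain ⟨P⟩ : Nonempty (Sylow 5 (Perm (Fin 5))) := inferInstance
  have hfac : (120 : ℕ).factorization 5 = 1 := by
    rw [show (120 : ℕ) = 5 ^ 1 * 24 from rfl, Nat.factorization_mul (by norm_num) (by norm_num)]
    simp [Nat.Prime.factorization_self Nat.prime_five,
      Nat.factorization_eq_zero_of_not_dvd (show ¬ 5 ∣ 24 by norm_num)]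
  have hcP : Nat.card P = 5 := by
    rw [P.card_eq_multiplicity, Nat.card_perm, Nat.card_fin, show Nat.factorial 5 = 120 from rfl, hfac]
    norm_num
  have hidx : (P : Subgroup (Perm (Fin 5))).index = 24 := by
    have := Subgroup.card_mul_index (P : Subgroup (Perm (Fin 5)))
    rw [hcP, Nat.card_perm, Nat.card_fin, show Nat.factorial 5 = 120 from rfl] at this
    omega
  have h6 : Nat.card (Sylow 5 (Perm (Fin 5))) = 6 := by
    have h1 := P.card_dvd_index
    rw [hidx] at h1
    have h2 : Nat.card (Sylow 5 (Perm (Fin 5))) ≡ 1 [MOD 5] := card_sylow_modEq_one 5 _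
    have h3 : Nat.card (Sylow 5 (Perm (Fin 5))) ≠ 1 := by
      intro h
      haveI := (Nat.card_eq_one_iff_unique.1 h).1
      obtain ⟨ea, eb, hne⟩ := five_cycles
      set a : Perm (Fin 5) := swap 0 1 * swap 1 2 * swap 2 3 * swap 3 4
      set b : Perm (Fin 5) := swap 0 2 * swap 2 1 * swap 1 3 * swap 3 4
      have hmem : ∀ x : Perm (Fin 5), x ^ 5 = 1 → x ∈ (P : Subgroup (Perm (Fin 5))) := by
        intro x hx
        have hp : IsPGroup 5 (Subgroup.zpowers x) := fun y => ⟨1, by
          obtain ⟨y, k, rfl⟩ := y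
          apply Subtype.ext
          show (x ^ k) ^ (5 ^ 1) = 1
          rw [← zpow_natCast, ← zpow_mul, mul_comm, zpow_mul]
          simp [hx]⟩
        obtain ⟨Q, hQ⟩ := hp.exists_le_sylow
        rw [Subsingleton.elim P Q]
        exact hQ (Subgroup.mem_zpowers x)
      have ha1 : a ≠ 1 := fun h => by
        have := hne 0
        apply absurd (congrArg (fun π : Perm (Fin 5) => π 0) h)
        decide +kernel
      have hza : Subgroup.zpowers a = (P : Subgroup (Perm (Fin 5))) :=
        Subgroup.eq_of_le_of_card_ge ((Subgroup.zpowers_le).2 (hmem a ea))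
          (by rw [hcP, Nat.card_zpowers, orderOf_eq_prime ea ha1])
      obtain ⟨k, hk⟩ := (isOfFinOrder_of_finite a).mem_powers_iff_mem_zpowers.2 (hza ▸ hmem b eb)
      refine hne ⟨k % 5, Nat.mod_lt _ (by norm_num)⟩ ?_
      rw [← hk]
      show a ^ (k % 5) = a ^ k
      conv_rhs => rw [← pow_mod_orderOf, orderOf_eq_prime ea ha1]
    have := Nat.le_of_dvd (by norm_num) h1
    unfold Nat.ModEq at h2
    interval_cases (Nat.card (Sylow 5 (Perm (Fin 5)))) <;> omega
  let e : Sylow 5 (Perm (Fin 5)) ≃ Fin 6 := Finite.equivFinOfCardEq h6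
  let φ : Perm (Fin 5) →* Perm (Fin 6) :=
    (e.permCongrHom.toMonoidHom).comp (MulAction.toPermHom (Perm (Fin 5)) (Sylow 5 (Perm (Fin 5))))
  have htr : ∀ x y, ∃ g ∈ φ.range, g x = y := fun x y => by
    obtain ⟨g, hg⟩ := MulAction.exists_smul_eq (Perm (Fin 5)) (e.symm x) (e.symm y)
    refine ⟨φ g, ⟨g, rfl⟩, ?_⟩
    show e (g • e.symm x) = y
    rw [hg, Equiv.apply_symm_apply]
  have hφ : Function.Injective φ := by
    rw [← MonoidHom.ker_eq_bot_iff]
    by_contra hne
    have hle := Equiv.Perm.alternatingGroup_le_of_normal (α := Fin 5) (by simp) (N := φ.ker)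
      ((Subgroup.nontrivial_iff_ne_bot _).2 hne)
    have h1 := Nat.le_of_dvd (by rw [alternatingGroup.index_eq_two]; norm_num) (Subgroup.index_dvd_of_le hle)
    rw [alternatingGroup.index_eq_two, Subgroup.index_ker] at h1
    have h2 := card_stab_mul htr
    have := Nat.card_pos (α := stabilizer φ.range (5 : Fin 6))
    omega
  refine ⟨φ.range, ?_, htr⟩
  have := Subgroup.card_mul_index φ.range
  rw [Nat.card_congr (MonoidHom.ofInjective hφ).toEquiv.symm, Nat.card_perm, Nat.card_perm, Nat.card_fin,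
    Nat.card_fin, show Nat.factorial 5 = 120 from rfl, show Nat.factorial 6 = 720 from rfl] at this
  omega

theorem index_exotic : exotic.index = 6 := by
  obtain ⟨H, hH, htr⟩ := exists_transitive
  obtain ⟨π, hπ⟩ := conj_exotic hH htr
  rw [← hπ, Subgroup.index_map_of_bijective (MulAut.conj π).bijective] at hH
  exact hH

theorem exotic_ne_stab (π : Perm (Fin 6)) (x : Fin 6) :
    exotic.map (MulAut.conj π).toMonoidHom ≠ stabilizer (Perm (Fin 6)) x := by
  intro h
  obtain ⟨g, hg, hgx⟩ := exotic_transitive (π⁻¹ x) (π⁻¹ (if x = 0 then 1 else 0))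
  have hm : MulAut.conj π g ∈ stabilizer (Perm (Fin 6)) x := h ▸ ⟨g, hg, rfl⟩
  rw [mem_stabilizer_iff, Perm.smul_def, MulAut.conj_apply, Perm.mul_apply, Perm.mul_apply, hgx,
    Perm.inv_def, Equiv.apply_symm_apply] at hm
  revert hm
  split_ifs with h0
  · subst h0; decide
  · exact fun hm => h0 hm.symm

theorem classify {H : Subgroup (Perm (Fin 6))} (hH : H.index = 6) :
    (∃ x : Fin 6, H = stabilizer (Perm (Fin 6)) x) ∨
      ∃ π : Perm (Fin 6), exotic.map (MulAut.conj π).toMonoidHom = H := by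
  rcases fixed_or_transitive (Ω := Fin 6) (by simp) (H := H) (by simpa using hH) with h | h
  · exact Or.inl h
  · exact Or.inr (conj_exotic hH h)

theorem mem_of_conj_eq {π : Perm (Fin 6)} (h : exotic.map (MulAut.conj π).toMonoidHom = exotic) :
    π ∈ exotic := by
  have hle : exotic ≤ Subgroup.normalizer (exotic : Set (Perm (Fin 6))) := Subgroup.le_normalizer
  have hmem : π ∈ Subgroup.normalizer (exotic : Set (Perm (Fin 6))) := by
    rw [Subgroup.mem_normalizer_iff]
    intro x
    constructor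
    · intro hx
      have : MulAut.conj π x ∈ exotic.map (MulAut.conj π).toMonoidHom := ⟨x, hx, rfl⟩
      rw [h] at this
      exact this
    · intro hx
      rw [← h] at hx
      obtain ⟨y, hy, hyx⟩ := hx
      rwa [show x = y from (MulAut.conj π).injective hyx.symm]
  by_contra hπ
  have hne : Subgroup.normalizer (exotic : Set (Perm (Fin 6))) ≠ exotic := fun he => hπ (he ▸ hmem)
  have hN : Subgroup.normalizer (exotic : Set (Perm (Fin 6))) = ⊤ := by
    by_contra hN
    have hA : Subgroup.normalizer (exotic : Set (Perm (Fin 6))) ≠ alternatingGroup (Fin 6) := fun he => by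
      have := (he ▸ hle) (Subgroup.subset_closure (k := ({pgen, cgen, tgen} : Set (Perm (Fin 6))))
        (show cgen ∈ _ by simp))
      rw [mem_alternatingGroup] at this
      revert this
      decide +kernel
    have h1 := le_index_of (Ω := Fin 6) (by simp) hN hA
    have h2 := Subgroup.relIndex_mul_index hle
    rw [index_exotic] at h2
    simp only [Fintype.card_fin] at h1
    have h3 : exotic.relIndex (Subgroup.normalizer (exotic : Set (Perm (Fin 6)))) ≠ 1 := fun h =>
      hne (le_antisymm (Subgroup.relIndex_eq_one.1 h) hle)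
    have h4 : exotic.relIndex (Subgroup.normalizer (exotic : Set (Perm (Fin 6)))) ≠ 0 := fun h => by
      rw [h, zero_mul] at h2; omega
    nlinarith [Nat.one_lt_iff_ne_zero_and_ne_one.2 ⟨h4, h3⟩]
  haveI : exotic.Normal := Subgroup.normalizer_eq_top_iff.1 hN
  have hle' := Equiv.Perm.alternatingGroup_le_of_normal (α := Fin 6) (by simp) (N := exotic)
    ((Subgroup.nontrivial_iff_ne_bot _).2 (fun hb => by
      have := card_exotic_ge
      rw [hb, Subgroup.card_bot] at this
      omega))
  have h1 := Nat.le_of_dvd (by rw [alternatingGroup.index_eq_two]; norm_num) (Subgroup.index_dvd_of_le hle')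
  rw [alternatingGroup.index_eq_two, index_exotic] at h1
  omega

theorem card_index_six : Nat.card {H : Subgroup (Perm (Fin 6)) // H.index = 6} = 12 := by
  let f : Fin 6 ⊕ (Perm (Fin 6) ⧸ exotic) → {H : Subgroup (Perm (Fin 6)) // H.index = 6} :=
    Sum.elim (fun x => ⟨stabilizer (Perm (Fin 6)) x, by rw [index_stab]; simp⟩)
      (fun q => Quotient.liftOn' q (fun π => ⟨exotic.map (MulAut.conj π).toMonoidHom, by
        rw [Subgroup.index_map_of_bijective (MulAut.conj π).bijective]; exact index_exotic⟩) (fun a c h => by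
          apply Subtype.ext
          rw [QuotientGroup.leftRel_apply] at h
          show exotic.map (MulAut.conj a).toMonoidHom = exotic.map (MulAut.conj c).toMonoidHom
          rw [show c = a * (a⁻¹ * c) by group, map_mul]
          ext x
          simp only [Subgroup.mem_map]
          constructor
          · rintro ⟨y, hy, rfl⟩
            exact ⟨(a⁻¹ * c)⁻¹ * y * (a⁻¹ * c), exotic.mul_mem (exotic.mul_mem (exotic.inv_mem h) hy) h,
              by simp [mul_assoc]⟩
          · rintro ⟨y, hy, rfl⟩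
            exact ⟨(a⁻¹ * c) * y * (a⁻¹ * c)⁻¹, exotic.mul_mem (exotic.mul_mem h hy) (exotic.inv_mem h),
              by simp [mul_assoc]⟩))
  have hf : Function.Bijective f := by
    constructor
    · rintro (x | q) (y | q') h
      · have h' : stabilizer (Perm (Fin 6)) x = stabilizer (Perm (Fin 6)) y := congrArg Subtype.val h
        congr 1
        by_contra hxy
        have hz : ∀ x y : Fin 6, x ≠ y → ∃ z, z ≠ x ∧ z ≠ y := by decide
        obtain ⟨z, hzx, hzy⟩ := hz x y hxy
        have : swap x z ∈ stabilizer (Perm (Fin 6)) y := by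
          rw [mem_stabilizer_iff, Perm.smul_def, swap_apply_of_ne_of_ne (Ne.symm hxy) (Ne.symm hzy)]
        rw [← h', mem_stabilizer_iff, Perm.smul_def, swap_apply_left] at this
        exact hzx this
      · induction q' using QuotientGroup.induction_on with
        | H π => exact absurd (congrArg Subtype.val h).symm (exotic_ne_stab π x)
      · induction q using QuotientGroup.induction_on with
        | H π => exact absurd (congrArg Subtype.val h) (exotic_ne_stab π y)
      · induction q using QuotientGroup.induction_on with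
        | H a =>
          induction q' using QuotientGroup.induction_on with
          | H c =>
            congr 1
            rw [QuotientGroup.eq]
            apply mem_of_conj_eq
            have h' : exotic.map (MulAut.conj a).toMonoidHom = exotic.map (MulAut.conj c).toMonoidHom :=
              congrArg Subtype.val h
            have := congrArg (Subgroup.map (MulAut.conj a⁻¹).toMonoidHom) h'
            rw [Subgroup.map_map, Subgroup.map_map] at this
            refine Eq.trans ?_ (this.symm.trans ?_)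
            · congr 1
            · conv_rhs => rw [← Subgroup.map_id exotic]
              congr 1
              ext x; simp [mul_assoc]
    · rintro ⟨H, hH⟩
      rcases classify hH with ⟨x, rfl⟩ | ⟨π, rfl⟩
      · exact ⟨Sum.inl x, rfl⟩
      · exact ⟨Sum.inr (π : Perm (Fin 6) ⧸ exotic), rfl⟩
  rw [← Nat.card_congr (Equiv.ofBijective f hf), Nat.card_sum, Nat.card_fin, ← Subgroup.index_eq_card,
    index_exotic]

theorem iso_five {H : Subgroup (Perm (Fin 6))} (hH : H.index = 6) : Nonempty (H ≃* Perm (Fin 5)) := by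
  obtain ⟨θ, x₀, hθ⟩ := exists_aut (Ω := Fin 6) (by simp) (H := H) (by simpa using hH)
  obtain ⟨e⟩ : Nonempty (Fin 5 ≃ {z : Fin 6 // z ≠ x₀}) :=
    ⟨(Fintype.equivFinOfCardEq (by rw [Fintype.card_subtype_compl]; simp)).symm⟩
  let ψ : Perm (Fin 5) →* Perm (Fin 6) := (θ.symm.toMonoidHom.comp Perm.ofSubtype).comp e.permCongrHom.toMonoidHom
  have hψ : Function.Injective ψ :=
    (θ.symm.injective.comp Perm.ofSubtype_injective).comp e.permCongrHom.injective
  have hle : ψ.range ≤ H := by
    rintro _ ⟨g, rfl⟩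
    rw [hθ]
    show θ (θ.symm (Perm.ofSubtype (e.permCongrHom g))) x₀ = x₀
    rw [MulEquiv.apply_symm_apply]
    exact Perm.ofSubtype_apply_of_not_mem _ (by simp)
  have heq : ψ.range = H := Subgroup.eq_of_le_of_card_ge hle (by
    rw [card_of_index hH, Nat.card_congr (MonoidHom.ofInjective hψ).toEquiv.symm, Nat.card_perm,
      Nat.card_fin]
    rfl)
  exact ⟨((MonoidHom.ofInjective hψ).trans (MulEquiv.subgroupCongr heq)).symm⟩

theorem two_classes {Ω : Type*} [Fintype Ω] [DecidableEq Ω] (h6 : Fintype.card Ω = 6) :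
    ∃ H₁ H₂ : Subgroup (Equiv.Perm Ω), H₁.index = 6 ∧ H₂.index = 6 ∧
      (¬ ∃ g : Equiv.Perm Ω, Subgroup.map (MulAut.conj g).toMonoidHom H₁ = H₂) ∧
      ∀ H : Subgroup (Equiv.Perm Ω), H.index = 6 →
        ∃ g : Equiv.Perm Ω, Subgroup.map (MulAut.conj g).toMonoidHom H₁ = H ∨
          Subgroup.map (MulAut.conj g).toMonoidHom H₂ = H := by
  obtain ⟨e⟩ : Nonempty (Ω ≃ Fin 6) := ⟨Fintype.equivFinOfCardEq h6⟩
  set E : Perm (Fin 6) ≃* Perm Ω := e.symm.permCongrHom with hE
  have hidx : ∀ K : Subgroup (Perm (Fin 6)), (K.map E.toMonoidHom).index = K.index := fun K =>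
    Subgroup.index_map_of_bijective E.bijective K
  have hconj : ∀ (K : Subgroup (Perm (Fin 6))) (π : Perm (Fin 6)),
      (K.map E.toMonoidHom).map (MulAut.conj (E π)).toMonoidHom =
        (K.map (MulAut.conj π).toMonoidHom).map E.toMonoidHom := fun K π => by
    rw [Subgroup.map_map, Subgroup.map_map]
    congr 1
    refine MonoidHom.ext fun x => ?_
    show E π * E x * (E π)⁻¹ = E (π * x * π⁻¹)
    rw [map_mul, map_mul, map_inv]
  refine ⟨(stabilizer (Perm (Fin 6)) (0 : Fin 6)).map E.toMonoidHom, exotic.map E.toMonoidHom, ?_, ?_, ?_, ?_⟩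
  · rw [hidx, index_stab]; simp
  · rw [hidx]; exact index_exotic
  · rintro ⟨g, hg⟩
    obtain ⟨π, rfl⟩ := E.surjective g
    rw [hconj] at hg
    have h := Subgroup.map_injective E.injective hg
    have hst : (stabilizer (Perm (Fin 6)) (0 : Fin 6)).map (MulAut.conj π).toMonoidHom =
        stabilizer (Perm (Fin 6)) (π 0) := (stabilizer_smul_eq_stabilizer_map_conj π (0 : Fin 6)).symm
    rw [hst] at h
    refine exotic_ne_stab 1 (π 0) ?_
    rw [h]
    conv_rhs => rw [← Subgroup.map_id exotic]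
    congr 1
  · intro H hH
    have hH' : (H.comap E.toMonoidHom).index = 6 := by
      rw [Subgroup.index_comap_of_surjective _ E.surjective, hH]
    have hback : (H.comap E.toMonoidHom).map E.toMonoidHom = H :=
      Subgroup.map_comap_eq_self_of_surjective E.surjective H
    rcases classify hH' with ⟨x, hx⟩ | ⟨π, hπ⟩
    · refine ⟨E (swap 0 x), Or.inl ?_⟩
      have hst : (stabilizer (Perm (Fin 6)) (0 : Fin 6)).map (MulAut.conj (swap 0 x)).toMonoidHom =
          stabilizer (Perm (Fin 6)) x := by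
        rw [← stabilizer_smul_eq_stabilizer_map_conj, Perm.smul_def, swap_apply_left]
      rw [hconj, hst, ← hx, hback]
    · exact ⟨E π, Or.inr (by rw [hconj, hπ, hback])⟩

end Cfsg.Agent.PermIndex
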