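/-
The stabiliser of a uniform partition is maximal in the symmetric and alternating groups.
-/
import Mathlib
set_option autoImplicit false

namespace Cfsg.Agent.PermWreath

open Equiv Equiv.Perm MulAction
open scoped Pointwise

variable {Ω : Type*} [Fintype Ω] [DecidableEq Ω] {b : ℕ}

/-- The permutations preserving the partition into the fibres of f. -/
def pres (f : Ω → Fin b) : Subgroup (Perm Ω) where
  carrier := {g | ∀ x y : Ω, f x = f y ↔ f (g x) = f (g y)}
  one_mem' := fun x y => Iff.rfl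
  mul_mem' := fun {g h} hg hh x y => (hh x y).trans (hg (h x) (h y))
  inv_mem' := fun {g} hg x y => by
    have h := hg (g⁻¹ x) (g⁻¹ y)
    simpa using h.symm

theorem closure_pres (f : Ω → Fin b) :
    Subgroup.closure {g : Perm Ω | ∀ x y : Ω, f x = f y ↔ f (g x) = f (g y)} = pres f :=
  le_antisymm ((Subgroup.closure_le (pres f)).2 fun _ h => h) fun _ h => Subgroup.subset_closure h

theorem swap_mem {f : Ω → Fin b} {y z : Ω} (h : f y = f z) : swap y z ∈ pres f := by
  have key : ∀ x, f (swap y z x) = f x := fun x => by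
    rcases eq_or_ne x y with rfl | h1
    · rw [swap_apply_left, h]
    rcases eq_or_ne x z with rfl | h2
    · rw [swap_apply_right, h]
    rw [swap_apply_of_ne_of_ne h1 h2]
  intro u v
  rw [key, key]

section Uniform

variable {a : ℕ} {f : Ω → Fin b}

theorem exists_coords (hf : ∀ i : Fin b, Nat.card {x : Ω // f x = i} = a) :
    ∃ E : Ω ≃ Fin b × Fin a, ∀ x, (E x).1 = f x := by
  have e : ∀ i : Fin b, {x : Ω // f x = i} ≃ Fin a := fun i => Finite.equivFinOfCardEq (hf i)
  exact ⟨((Equiv.sigmaFiberEquiv f).symm.trans (Equiv.sigmaCongrRight e)).trans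
    (Equiv.sigmaEquivProd _ _), fun x => rfl⟩

/-- Any point can be moved to any other one fixing everything outside the two fibres. -/
theorem exists_move (hf : ∀ i : Fin b, Nat.card {x : Ω // f x = i} = a) (y z : Ω) :
    ∃ g ∈ pres f, g y = z ∧ ∀ x, f x ≠ f y → f x ≠ f z → g x = x := by
  obtain ⟨E, hE⟩ := exists_coords hf
  set g0 : Perm Ω := (E.trans ((swap (f y) (f z)).prodCongr (Equiv.refl _))).trans E.symm with hg0
  have hg0f : ∀ x, f (g0 x) = swap (f y) (f z) (f x) := fun x => by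
    rw [← hE (g0 x), hg0]
    simp [hE]
  have hg0m : g0 ∈ pres f := fun u v => by
    rw [hg0f, hg0f, EmbeddingLike.apply_eq_iff_eq]
  have hyz : f (g0 y) = f z := by rw [hg0f, swap_apply_left]
  refine ⟨swap (g0 y) z * g0, (pres f).mul_mem (swap_mem hyz) hg0m, by simp, fun x h1 h2 => ?_⟩
  have hx : g0 x = x := by
    have : swap (f y) (f z) (E x).1 = (E x).1 := swap_apply_of_ne_of_ne (by rwa [hE]) (by rwa [hE])
    rw [hg0]
    simp only [Equiv.trans_apply, Equiv.prodCongr_apply, Prod.map, this, Equiv.refl_apply,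
      Prod.mk.eta, Equiv.symm_apply_apply]
  rw [Perm.mul_apply, hx, swap_apply_of_ne_of_ne]
  · intro h; exact h2 (by rw [h, hyz])
  · intro h; exact h2 (by rw [h])

theorem exists_other (ha : 2 ≤ a) (hf : ∀ i : Fin b, Nat.card {x : Ω // f x = i} = a) (v : Ω) :
    ∃ w, w ≠ v ∧ f w = f v := by
  haveI : Nontrivial {x : Ω // f x = f v} := Finite.one_lt_card_iff_nontrivial.1 (by rw [hf]; omega)
  obtain ⟨⟨w, hw⟩, hne⟩ := exists_ne (⟨v, rfl⟩ : {x : Ω // f x = f v})
  exact ⟨w, fun h => hne (Subtype.ext h), hw⟩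

theorem exists_label (s : Finset (Fin b)) (hs : s.card < b) : ∃ i, i ∉ s := by
  by_contra h
  push Not at h
  have := Finset.card_le_card (fun i (_ : i ∈ (Finset.univ : Finset (Fin b))) => h i)
  simp at this
  omega

theorem exists_fibre (ha : 2 ≤ a) (hf : ∀ i : Fin b, Nat.card {x : Ω // f x = i} = a) (i : Fin b) :
    ∃ p q, p ≠ q ∧ f p = i ∧ f q = i := by
  haveI : Nontrivial {x : Ω // f x = i} := Finite.one_lt_card_iff_nontrivial.1 (by rw [hf]; omega)
  obtain ⟨⟨p, hp⟩, ⟨q, hq⟩, hne⟩ := exists_pair_ne {x : Ω // f x = i}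
  exact ⟨p, q, fun h => hne (Subtype.ext h), hp, hq⟩

theorem exists_three (ha : 3 ≤ a) (hf : ∀ i : Fin b, Nat.card {x : Ω // f x = i} = a) (i : Fin b) :
    ∃ p q r, p ≠ q ∧ p ≠ r ∧ q ≠ r ∧ f p = i ∧ f q = i ∧ f r = i := by
  have h := hf i
  rw [Nat.card_eq_fintype_card] at h
  obtain ⟨⟨p, hp⟩, ⟨q, hq⟩, ⟨r, hr⟩, h1, h2, h3⟩ := Fintype.two_lt_card_iff.1 (show 2 < Fintype.card
    {x : Ω // f x = i} by omega)
  exact ⟨p, q, r, fun h => h1 (Subtype.ext h), fun h => h2 (Subtype.ext h), fun h => h3 (Subtype.ext h),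
    hp, hq, hr⟩

theorem two_fibre_eq (hf : ∀ i : Fin b, Nat.card {x : Ω // f x = i} = 2) {p q r : Ω} (hpq : p ≠ q)
    (h1 : f q = f p) (h2 : f r = f p) : r = p ∨ r = q := by
  by_contra h
  push Not at h
  have h2' : 2 < Fintype.card {x : Ω // f x = f p} := Fintype.two_lt_card_iff.2
    ⟨⟨p, rfl⟩, ⟨q, h1⟩, ⟨r, h2⟩, by simpa using hpq, by simpa using Ne.symm h.1, by simpa using Ne.symm h.2⟩
  rw [← Nat.card_eq_fintype_card, hf] at h2'
  exact lt_irrefl _ h2'

end Uniform

/-- The primitivity criterion. -/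
theorem isPreprimitive_of (f : Ω → Fin b) (G : Subgroup (Perm Ω))
    (h1 : ∀ x y z, f y = f z → f x = f y → y ≠ x → z ≠ x → ∃ g ∈ G, g x = x ∧ g y = z)
    (h2 : ∀ x y z, f x ≠ f y → f x ≠ f z → ∃ g ∈ G, g x = x ∧ g y = z)
    (h3 : ∀ x y, ∃ g ∈ G, g x = y) (hG : ¬ G ≤ pres f) : IsPreprimitive G Ω := by
  have : IsPretransitive G Ω := ⟨fun x y => by
    obtain ⟨g, hg, hgx⟩ := h3 x y
    exact ⟨⟨g, hg⟩, hgx⟩⟩
  refine ⟨fun {B} hB => ?_⟩
  by_contra hcon
  rw [IsTrivialBlock, not_or] at hcon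
  obtain ⟨hns, hnu⟩ := hcon
  have fib : ∀ {C : Set Ω}, IsBlock G C → ¬ C.Subsingleton → C ≠ Set.univ → ∀ x ∈ C,
      C = {z | f z = f x} := by
    intro C hC hCs hCu x hx
    have hmove : ∀ {u y z : Ω}, u ∈ C → y ∈ C → (∃ g ∈ G, g u = u ∧ g y = z) → z ∈ C := by
      rintro u y z hu hy ⟨g, hg, hgu, hgy⟩
      have h := isBlock_iff_smul_eq_of_nonempty.1 hC (g := ⟨g, hg⟩) ⟨u, ⟨u, hu, hgu⟩, hu⟩
      rw [← h]
      exact ⟨y, hy, hgy⟩
    have hin : ∀ u ∈ C, ∀ y ∈ C, f u = f y := by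
      intro u hu y hy
      by_contra hne
      apply hCu
      refine Set.eq_univ_iff_forall.2 fun z => ?_
      by_cases hz : f u = f z
      · exact hmove hy hu (h2 y u z (Ne.symm hne) (fun h => hne (hz.trans h.symm)))
      · exact hmove hu hy (h2 u y z hne hz)
    obtain ⟨u, hu, hux⟩ : ∃ u ∈ C, u ≠ x := by
      by_contra h
      push Not at h
      exact hCs fun p hp q hq => (h p hp).trans (h q hq).symm
    ext z
    refine ⟨fun hz => (hin x hx z hz).symm, fun hz => ?_⟩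
    rcases eq_or_ne z x with rfl | hzx
    · exact hx
    · exact hmove hx hu (h1 x u z ((hin u hu x hx).trans (Eq.symm hz)) (hin x hx u hu) hux hzx)
  obtain ⟨x, hx⟩ : B.Nonempty := by
    by_contra h
    rw [Set.not_nonempty_iff_eq_empty] at h
    exact hns (by rw [h]; exact Set.subsingleton_empty)
  have key : ∀ g ∈ G, ∀ u v, f u = f v → f (g u) = f (g v) := by
    intro g hg u v huv
    obtain ⟨k, hk, hku⟩ := h3 x u
    have t1 : ∀ g' : G, IsBlock G (g' • B) ∧ ¬ (g' • B).Subsingleton ∧ g' • B ≠ Set.univ := fun g' =>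
      ⟨hB.translate _, fun h => hns fun p hp q hq => MulAction.injective g'
          (h (Set.smul_mem_smul_set hp) (Set.smul_mem_smul_set hq)),
        fun h => hnu (by
          have := congrArg (fun s => g'⁻¹ • s) h
          simpa using this)⟩
    obtain ⟨b1, b2, b3⟩ := t1 ⟨k, hk⟩
    have hu : u ∈ (⟨k, hk⟩ : G) • B := ⟨x, hx, hku⟩
    have hvm : v ∈ (⟨k, hk⟩ : G) • B := by rw [fib b1 b2 b3 u hu]; exact huv.symm
    obtain ⟨c1, c2, c3⟩ := t1 (⟨g, hg⟩ * ⟨k, hk⟩)
    rw [mul_smul] at c1 c2 c3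
    have hgu : g u ∈ (⟨g, hg⟩ : G) • (⟨k, hk⟩ : G) • B := ⟨u, hu, rfl⟩
    have hgv : g v ∈ (⟨g, hg⟩ : G) • (⟨k, hk⟩ : G) • B := ⟨v, hvm, rfl⟩
    rw [fib c1 c2 c3 (g u) hgu] at hgv
    exact hgv.symm
  apply hG
  intro g hg u v
  refine ⟨key g hg u v, fun h => ?_⟩
  have h' := key g⁻¹ (G.inv_mem hg) _ _ h
  simpa using h'

theorem exists_split {f : Ω → Fin b} {G : Subgroup (Perm Ω)} (hG : ¬ G ≤ pres f) :
    ∃ g ∈ G, ∃ p q, f p = f q ∧ f (g p) ≠ f (g q) := by
  by_contra h
  push Not at h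
  apply hG
  intro g hg u v
  refine ⟨h g hg u v, fun huv => ?_⟩
  have h' := h g⁻¹ (G.inv_mem hg) _ _ huv
  simpa using h'

theorem isCoatom_pres {a : ℕ} (ha : 2 ≤ a) (hb : 2 ≤ b) {f : Ω → Fin b}
    (hf : ∀ i : Fin b, Nat.card {x : Ω // f x = i} = a) : IsCoatom (pres f) := by
  obtain ⟨p, q, hpq, hp, hq⟩ := exists_fibre ha hf ⟨0, by omega⟩
  obtain ⟨r, -, -, hr, -⟩ := exists_fibre ha hf ⟨1, by omega⟩
  have hrp : f r ≠ f p := by rw [hr, hp]; simp
  refine ⟨fun h => ?_, fun G hG => ?_⟩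
  · have := (h.ge (Subgroup.mem_top (swap q r)) p q).1 (hp.trans hq.symm)
    rw [swap_apply_of_ne_of_ne hpq (fun h => hrp (by rw [h])), swap_apply_left] at this
    exact hrp this.symm
  refine subgroup_eq_top_of_isPreprimitive_of_isSwap_mem ?_ (swap p q) ⟨p, q, hpq, rfl⟩
    (hG.le (swap_mem (hp.trans hq.symm)))
  refine isPreprimitive_of f G (fun x y z hyz _ hy hz => ⟨swap y z, hG.le (swap_mem hyz),
      swap_apply_of_ne_of_ne hy.symm hz.symm, swap_apply_left _ _⟩)
    (fun x y z hxy hxz => ?_) (fun x y => ?_) (fun h => not_lt_of_ge h hG)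
  · obtain ⟨g, hg, hgy, hfix⟩ := exists_move hf y z
    exact ⟨g, hG.le hg, hfix x hxy hxz, hgy⟩
  · obtain ⟨g, hg, hgy, -⟩ := exists_move hf x y
    exact ⟨g, hG.le hg, hgy⟩

section Alternating

variable {a : ℕ} {f : Ω → Fin b}

theorem even_swap_mul_swap {p q r s : Ω} (h1 : p ≠ q) (h2 : r ≠ s) :
    swap p q * swap r s ∈ alternatingGroup Ω := by
  rw [mem_alternatingGroup, map_mul, sign_swap h1, sign_swap h2]
  rfl

theorem exists_even {g : Perm Ω} (hg : g ∈ pres f) {p q : Ω} (hpq : p ≠ q) (hfpq : f p = f q) :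
    ∃ g' ∈ pres f ⊓ alternatingGroup Ω, ∀ z, z ≠ p → z ≠ q → g' z = g z := by
  rcases Int.units_eq_one_or (sign g) with h | h
  · exact ⟨g, ⟨hg, mem_alternatingGroup.2 h⟩, fun z _ _ => rfl⟩
  · refine ⟨g * swap p q, ⟨(pres f).mul_mem hg (swap_mem hfpq), mem_alternatingGroup.2 ?_⟩, fun z hp hq => ?_⟩
    · rw [map_mul, h, sign_swap hpq]; rfl
    · rw [Perm.mul_apply, swap_apply_of_ne_of_ne hp hq]

theorem pair_threeCycle {v w u r r' s s' : Ω} (hvw : v ≠ w) (hvu : v ≠ u) (hwu : w ≠ u) (hr : r ≠ r')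
    (hs : s ≠ s') (hd : (r = s ∧ r' = s') ∨
      (r ≠ s ∧ r ≠ s' ∧ r' ≠ s ∧ r' ≠ s')) (hrv : r ∉ ({v, w, u} : Finset Ω))
    (hrv' : r' ∉ ({v, w, u} : Finset Ω)) (hsv : s ∉ ({v, w, u} : Finset Ω))
    (hsv' : s' ∉ ({v, w, u} : Finset Ω)) :
    ((swap v w * swap r r') * (swap v u * swap s s') *
      ((swap v w * swap r r') * (swap v u * swap s s'))).IsThreeCycle := by
  simp only [Finset.mem_insert, Finset.mem_singleton, not_or] at hrv hrv' hsv hsv'
  have key : (swap v w * swap r r') * (swap v u * swap s s') *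
      ((swap v w * swap r r') * (swap v u * swap s s')) =
      (swap v w * swap v u) * (swap v w * swap v u) := by
    ext z
    simp only [Perm.mul_apply, swap_apply_def]
    rcases hd with ⟨rfl, rfl⟩ | ⟨d1, d2, d3, d4⟩ <;> grind
  rw [key]
  exact (isThreeCycle_swap_mul_swap_same hvw hvu hwu).isThreeCycle_sq

/-- A group over a pairing that moves the pairs contains a three-cycle. -/
theorem exists_threeCycle (hb : b = 3 ∨ 5 ≤ b) (hf : ∀ i : Fin b, Nat.card {x : Ω // f x = i} = 2)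
    {G : Subgroup (Perm Ω)} (hWG : pres f ⊓ alternatingGroup Ω ≤ G) {g : Perm Ω} (hg : g ∈ G) {p p' : Ω}
    (hpp : f p = f p') (hsplit : f (g p) ≠ f (g p')) : ∃ c ∈ G, c.IsThreeCycle := by
  have hdt : ∀ {s t s' t' : Ω}, f s = f s' → f t = f t' → s ≠ s' → t ≠ t' →
      swap s s' * swap t t' ∈ G := fun h1 h2 h3 h4 =>
    hWG ⟨(pres f).mul_mem (swap_mem h1) (swap_mem h2), even_swap_mul_swap h3 h4⟩
  have hconj : ∀ {s t s' t' : Ω}, f s = f s' → f t = f t' → s ≠ s' → t ≠ t' →
      swap (g s) (g s') * swap (g t) (g t') ∈ G := fun h1 h2 h3 h4 => by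
    rw [swap_apply_apply, swap_apply_apply]
    have := G.mul_mem (G.mul_mem hg (hdt h1 h2 h3 h4)) (G.inv_mem hg)
    simpa [mul_assoc] using this
  have hne : p ≠ p' := fun h => hsplit (by rw [h])
  set v := g p with hv
  set u := g p' with hu
  have hvu : v ≠ u := fun h => hsplit (by rw [h])
  obtain ⟨w, hwv, hfw⟩ := exists_other le_rfl hf v
  obtain ⟨u', huu, hfu⟩ := exists_other le_rfl hf u
  have hwu : w ≠ u := fun h => hsplit (by rw [← hfw, h])
  -- the image pair through w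
  set q := g⁻¹ w with hq
  have hgq : g q = w := by simp [q]
  obtain ⟨q', hqq, hfq⟩ := exists_other le_rfl hf q
  have hqp : f q ≠ f p := by
    intro h
    rcases two_fibre_eq hf hne hpp.symm h with h' | h'
    · exact hwv (by rw [← hgq, h'])
    · exact hwu (by rw [← hgq, h'])
  have hq'p : q' ≠ p := fun h => hqp (by rw [← hfq, h])
  have hq'p' : q' ≠ p' := fun h => hqp (by rw [← hfq, h, hpp])
  have hu'v : u' ≠ v := fun h => hsplit (by rw [← hfu, h])
  have hu'w : u' ≠ w := fun h => hsplit (by rw [← hfu, h, hfw])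
  by_cases hcase : g q' = u'
  swap
  · refine ⟨(swap v u * swap w u') * (swap v u * swap w (g q')), G.mul_mem ?_ ?_, ?_⟩
    · refine hWG ⟨?_, even_swap_mul_swap hvu hu'w.symm⟩
      have key : ∀ x, f ((swap v u * swap w u') x) = swap (f v) (f u) (f x) := by
        intro x
        have hx : x = v ∨ x = w ∨ x = u ∨ x = u' ∨ (f x ≠ f v ∧ f x ≠ f u) := by
          by_cases h1 : f x = f v
          · rcases two_fibre_eq hf hwv.symm hfw h1 with h | h <;> simp [h]
          by_cases h2 : f x = f u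
          · rcases two_fibre_eq hf huu.symm hfu h2 with h | h <;> simp [h]
          simp [h1, h2]
        simp only [Perm.mul_apply, swap_apply_def]
        grind
      intro x y
      rw [key, key, EmbeddingLike.apply_eq_iff_eq]
    · have := hconj hpp hfq.symm hne hqq.symm
      rwa [hgq, ← hv, ← hu] at this
    · have hx1 : g q' ≠ v := fun h => hq'p (g.injective h)
      have hx2 : g q' ≠ u := fun h => hq'p' (g.injective h)
      have hx3 : g q' ≠ w := fun h => hqq (g.injective (by rw [h, hgq]))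
      have key : (swap v u * swap w u') * (swap v u * swap w (g q')) = swap w u' * swap w (g q') := by
        ext z
        simp only [Perm.mul_apply, swap_apply_def]
        grind
      rw [key]
      exact isThreeCycle_swap_mul_swap_same hu'w.symm hx3.symm (Ne.symm hcase)
  -- two image pairs form a square with two pairs
  obtain ⟨i, hi⟩ := exists_label ({f v, f u} : Finset (Fin b))
    (lt_of_le_of_lt Finset.card_le_two (by omega))
  simp only [Finset.mem_insert, Finset.mem_singleton, not_or] at hi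
  obtain ⟨r, r', hrr, hr, hr'⟩ := exists_fibre le_rfl hf i
  have hnr : ∀ x, f x = i → x ≠ v ∧ x ≠ u ∧ x ≠ w ∧ x ≠ u' := fun x hx =>
    ⟨fun h => hi.1 (by rw [← hx, h]), fun h => hi.2 (by rw [← hx, h]),
      fun h => hi.1 (by rw [← hx, h, hfw]), fun h => hi.2 (by rw [← hx, h, hfu])⟩
  obtain ⟨r1, r2, r3, r4⟩ := hnr r hr
  obtain ⟨r1', r2', r3', r4'⟩ := hnr r' hr'
  set s₀ := g⁻¹ r with hs₀
  set s₁ := g⁻¹ r' with hs₁
  have hgs₀ : g s₀ = r := by simp [s₀]
  have hgs₁ : g s₁ = r' := by simp [s₁]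
  have hcell : ∀ x, f x = f p ∨ f x = f q → g x = v ∨ g x = u ∨ g x = w ∨ g x = u' := by
    intro x hx
    rcases hx with h | h
    · rcases two_fibre_eq hf hne hpp.symm h with rfl | rfl
      · exact Or.inl rfl
      · exact Or.inr (Or.inl rfl)
    · rcases two_fibre_eq hf hqq.symm hfq h with rfl | rfl
      · exact Or.inr (Or.inr (Or.inl hgq))
      · exact Or.inr (Or.inr (Or.inr hcase))
  by_cases hsame : f s₀ = f s₁
  · refine ⟨_, ?_, pair_threeCycle hwv.symm hvu hwu hrr hrr (Or.inl ⟨rfl, rfl⟩) (by simp [r1, r2, r3])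
      (by simp [r1', r2', r3']) (by simp [r1, r2, r3]) (by simp [r1', r2', r3'])⟩
    have h1 := hdt hfw.symm (hr.trans hr'.symm) hwv.symm hrr
    have h2 := hconj hpp hsame hne (fun h => hrr (by rw [← hgs₀, h, hgs₁]))
    rw [hgs₀, hgs₁, ← hv, ← hu] at h2
    exact G.mul_mem (G.mul_mem h1 h2) (G.mul_mem h1 h2)
  rcases hb with hb | hb
  · exfalso
    obtain ⟨n0, n1⟩ : (f s₀ ≠ f p ∧ f s₀ ≠ f q) ∧ (f s₁ ≠ f p ∧ f s₁ ≠ f q) := by
      refine ⟨⟨fun h => ?_, fun h => ?_⟩, fun h => ?_, fun h => ?_⟩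
      · have := hcell s₀ (Or.inl h); rw [hgs₀] at this; tauto
      · have := hcell s₀ (Or.inr h); rw [hgs₀] at this; tauto
      · have := hcell s₁ (Or.inl h); rw [hgs₁] at this; tauto
      · have := hcell s₁ (Or.inr h); rw [hgs₁] at this; tauto
    subst hb
    revert hsame hqp n0 n1
    generalize f s₀ = A
    generalize f s₁ = B
    generalize f p = C
    generalize f q = D
    revert A B C D
    decide
  obtain ⟨j, hj⟩ := exists_label ({f p, f q, f s₀, f s₁} : Finset (Fin b))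
    (lt_of_le_of_lt Finset.card_le_four (by omega))
  simp only [Finset.mem_insert, Finset.mem_singleton, not_or] at hj
  obtain ⟨s, s', hss, hs, hs'⟩ := exists_fibre le_rfl hf j
  have hns : ∀ x, f x = j → g x ≠ v ∧ g x ≠ u ∧ g x ≠ w ∧ g x ≠ r ∧ g x ≠ r' := fun x hx =>
    ⟨fun h => hj.1 (by rw [← hx, g.injective h]), fun h => hj.1 (by rw [← hx, g.injective h, hpp]),
      fun h => hj.2.1 (by rw [← hx, g.injective (h.trans hgq.symm)]),
      fun h => hj.2.2.1 (by rw [← hx, g.injective (h.trans hgs₀.symm)]),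
      fun h => hj.2.2.2 (by rw [← hx, g.injective (h.trans hgs₁.symm)])⟩
  obtain ⟨s1, s2, s3, s4, s5⟩ := hns s hs
  obtain ⟨s1', s2', s3', s4', s5'⟩ := hns s' hs'
  refine ⟨_, ?_, pair_threeCycle hwv.symm hvu hwu hrr (fun h => hss (g.injective h))
    (Or.inr ⟨Ne.symm s4, Ne.symm s4', Ne.symm s5, Ne.symm s5'⟩) (by simp [r1, r2, r3])
    (by simp [r1', r2', r3']) (by simp [s1, s2, s3]) (by simp [s1', s2', s3'])⟩
  have h1 := hdt hfw.symm (hr.trans hr'.symm) hwv.symm hrr
  have h2 := hconj hpp (hs.trans hs'.symm) hne hss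
  rw [← hv, ← hu] at h2
  exact G.mul_mem (G.mul_mem h1 h2) (G.mul_mem h1 h2)

theorem four_points : ∀ g : Perm (Fin 2 × Fin 2), sign g = 1 →
    (∀ x y : Fin 2 × Fin 2, x.1 = y.1 → (g x).1 = (g y).1) ∨ g * g * g = 1 := by
  decide +kernel

theorem isCoatom_pres_inf (h8 : Fintype.card Ω ≠ 8) (ha : 2 ≤ a) (hb : 2 ≤ b)
    (hf : ∀ i : Fin b, Nat.card {x : Ω // f x = i} = a) :
    IsCoatom ((pres f ⊓ alternatingGroup Ω).subgroupOf (alternatingGroup Ω)) := by
  obtain ⟨E, hE⟩ := exists_coords hf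
  have hcard : Fintype.card Ω = b * a := by rw [Fintype.card_congr E]; simp
  obtain ⟨p, q, hpq, hp, hq⟩ := exists_fibre ha hf ⟨0, by omega⟩
  obtain ⟨r, -, -, hr, -⟩ := exists_fibre ha hf ⟨1, by omega⟩
  have hrp : f r ≠ f p := by rw [hr, hp]; simp
  refine ⟨fun h => ?_, fun K hK => ?_⟩
  · have hc : swap q r * swap q p ∈ alternatingGroup Ω :=
      even_swap_mul_swap (fun h => hrp (by rw [← h, hp, hq])) hpq.symm
    have hm : (⟨_, hc⟩ : alternatingGroup Ω) ∈ (pres f ⊓ alternatingGroup Ω).subgroupOf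
        (alternatingGroup Ω) := h ▸ Subgroup.mem_top _
    have := ((Subgroup.mem_subgroupOf.1 hm).1 q p).1 (hq.trans hp.symm)
    simp only [Perm.mul_apply, swap_apply_left, swap_apply_right] at this
    rw [swap_apply_of_ne_of_ne hpq (fun h => hrp (by rw [h]))] at this
    exact hrp (this.symm ▸ rfl)
  set G := K.map (alternatingGroup Ω).subtype with hGdef
  have hGA : G ≤ alternatingGroup Ω := Subgroup.map_subtype_le K
  have hWG : pres f ⊓ alternatingGroup Ω ≤ G := fun g hg =>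
    ⟨⟨g, hg.2⟩, hK.le (Subgroup.mem_subgroupOf.2 hg), rfl⟩
  have hnle : ¬ G ≤ pres f := fun h => not_le_of_gt hK fun k hk =>
    Subgroup.mem_subgroupOf.2 ⟨h ⟨k, hk, rfl⟩, k.2⟩
  suffices hle : alternatingGroup Ω ≤ G by
    refine eq_top_iff.2 fun k _ => ?_
    obtain ⟨k', hk', hkk⟩ := hle k.2
    rwa [show k = k' from Subtype.ext hkk.symm]
  have htrans : ∀ x y, ∃ g ∈ G, g x = y := by
    intro x y
    obtain ⟨g, hg, hgy, -⟩ := exists_move hf x y
    obtain ⟨i, hi⟩ := exists_label ({f x} : Finset (Fin b)) (by rw [Finset.card_singleton]; omega)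
    obtain ⟨p', q', hne, hp', hq'⟩ := exists_fibre ha hf i
    obtain ⟨g', hg', hgg⟩ := exists_even hg hne (hp'.trans hq'.symm)
    simp only [Finset.mem_singleton] at hi
    refine ⟨g', hWG hg', ?_⟩
    rw [hgg x (fun h => hi (by rw [← hp', h])) (fun h => hi (by rw [← hq', h])), hgy]
  by_cases hfour : a = 2 ∧ b = 2
  · obtain ⟨rfl, rfl⟩ := hfour
    obtain ⟨g, hg, u, v, huv, hsplit⟩ := exists_split hnle
    have hcube : g * g * g = 1 := by
      have hsg : sign (E.permCongr g) = 1 := by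
        rw [sign_permCongr]; exact mem_alternatingGroup.1 (hGA hg)
      rcases four_points (E.permCongr g) hsg with h | h
      · refine absurd ?_ hsplit
        have := h (E u) (E v) (by rw [hE, hE, huv])
        simpa [hE] using this
      · ext x
        have := congrArg (fun π : Perm (Fin 2 × Fin 2) => π (E x)) h
        simpa using this
    have hord : orderOf g = 3 := by
      have := Fact.mk Nat.prime_three
      refine orderOf_eq_prime (by rw [pow_succ, pow_two]; exact hcube) fun h => hsplit ?_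
      rw [h]; exact huv
    have h3 : 3 ∣ Nat.card G := by
      rw [← hord, ← Subgroup.orderOf_mk g hg]
      exact orderOf_dvd_natCard _
    have h4 : 4 ∣ Nat.card G := by
      haveI : IsPretransitive G Ω := ⟨fun x y => by
        obtain ⟨g, hg, hgx⟩ := htrans x y
        exact ⟨⟨g, hg⟩, hgx⟩⟩
      have h := MulAction.index_stabilizer_of_transitive G p
      rw [Nat.card_eq_fintype_card (α := Ω), hcard] at h
      exact ⟨_, by rw [← Subgroup.index_mul_card (MulAction.stabilizer G p), h]⟩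
    haveI : Nontrivial Ω := ⟨p, q, hpq⟩
    have hA : Nat.card (alternatingGroup Ω) = 12 := by
      rw [Nat.card_eq_fintype_card]
      have := two_mul_card_alternatingGroup (α := Ω)
      rw [Fintype.card_perm, hcard, show Nat.factorial (2 * 2) = 24 from rfl] at this
      omega
    have := Nat.card_pos (α := G)
    refine (Subgroup.eq_of_le_of_card_ge hGA ?_).ge
    rw [hA]
    omega
  have hroom : ∀ x y, ∃ p' q' : Ω, p' ≠ q' ∧ f p' = f q' ∧ p' ≠ x ∧ p' ≠ y ∧ q' ≠ x ∧ q' ≠ y := by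
    intro x y
    have out : ∀ i, i ≠ f x → i ≠ f y →
        ∃ p' q' : Ω, p' ≠ q' ∧ f p' = f q' ∧ p' ≠ x ∧ p' ≠ y ∧ q' ≠ x ∧ q' ≠ y := fun i h1 h2 => by
      obtain ⟨p', q', hne, hp', hq'⟩ := exists_fibre ha hf i
      exact ⟨p', q', hne, hp'.trans hq'.symm, fun h => h1 (by rw [← hp', h]), fun h => h2 (by rw [← hp', h]),
        fun h => h1 (by rw [← hq', h]), fun h => h2 (by rw [← hq', h])⟩
    by_cases hxy : f x = f y
    · obtain ⟨i, hi⟩ := exists_label ({f x} : Finset (Fin b)) (by rw [Finset.card_singleton]; omega)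
      simp only [Finset.mem_singleton] at hi
      exact out i hi (hxy ▸ hi)
    by_cases hb3 : 3 ≤ b
    · obtain ⟨i, hi⟩ := exists_label ({f x, f y} : Finset (Fin b))
        (lt_of_le_of_lt Finset.card_le_two (by omega))
      simp only [Finset.mem_insert, Finset.mem_singleton, not_or] at hi
      exact out i hi.1 hi.2
    · obtain ⟨u, v, w, huv, huw, hvw, hu, hv, hw⟩ := exists_three (by omega) hf (f x)
      have hny : ∀ z, f z = f x → z ≠ y := fun z hz h => hxy (by rw [← hz, h])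
      rcases eq_or_ne u x with rfl | hux
      · exact ⟨v, w, hvw, hv.trans hw.symm, huv.symm, hny v hv, huw.symm, hny w hw⟩
      rcases eq_or_ne v x with rfl | hvx
      · exact ⟨u, w, huw, hu.trans hw.symm, hux, hny u hu, hvw.symm, hny w hw⟩
      exact ⟨u, v, huv, hu.trans hv.symm, hux, hny u hu, hvx, hny v hv⟩
  have hfixmove : ∀ x y z, (∃ g ∈ pres f, g x = x ∧ g y = z) → ∃ g ∈ G, g x = x ∧ g y = z := by
    rintro x y z ⟨g, hg, hgx, hgy⟩
    obtain ⟨p', q', hne, hfe, h1, h2, h3, h4⟩ := hroom x y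
    obtain ⟨g', hg', hgg⟩ := exists_even hg hne hfe
    exact ⟨g', hWG hg', by rw [hgg x h1.symm h3.symm, hgx], by rw [hgg y h2.symm h4.symm, hgy]⟩
  have hprim : IsPreprimitive G Ω := by
    refine isPreprimitive_of f G (fun x y z hyz _ hy hz => hfixmove x y z ⟨swap y z, swap_mem hyz,
      swap_apply_of_ne_of_ne hy.symm hz.symm, swap_apply_left _ _⟩) (fun x y z hxy hxz => ?_) htrans hnle
    obtain ⟨g, hg, hgy, hfix⟩ := exists_move hf y z
    exact hfixmove x y z ⟨g, hg, hfix x hxy hxz, hgy⟩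
  by_cases ha3 : 3 ≤ a
  · obtain ⟨u, v, w, huv, huw, hvw, hu, hv, hw⟩ := exists_three ha3 hf ⟨0, by omega⟩
    exact alternatingGroup_le_of_isPreprimitive_of_isThreeCycle_mem hprim
      (isThreeCycle_swap_mul_swap_same huv huw hvw)
      (hWG ⟨(pres f).mul_mem (swap_mem (hu.trans hv.symm)) (swap_mem (hu.trans hw.symm)),
        even_swap_mul_swap huv huw⟩)
  · obtain rfl : a = 2 := by omega
    obtain ⟨g, hg, u, v, huv, hsplit⟩ := exists_split hnle
    obtain ⟨c, hc, hc3⟩ := exists_threeCycle (by omega) hf hWG hg huv hsplit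
    exact alternatingGroup_le_of_isPreprimitive_of_isThreeCycle_mem hprim hc3 hc

end Alternating

end Cfsg.Agent.PermWreath
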