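/-
Characteristically simple groups, and the exceptional non-maximal wreath product in A_8.
-/
import Mathlib
import Cfsg.Agent.Lib.Recog.CharSimple
import Cfsg.Agent.Lib.Imprimitive.PermWreath
set_option autoImplicit false

namespace Cfsg.Agent.PermMisc

open Equiv Equiv.Perm

theorem forward {G : Type*} [Group G] [Finite G] [Nontrivial G]
    (h : ∀ H : Subgroup G, H.Characteristic → H = ⊥ ∨ H = ⊤) :
    ∃ (S : Type) (_ : Group S) (_ : IsSimpleGroup S) (n : ℕ), 1 ≤ n ∧ Nonempty (G ≃* (Fin n → S)) := by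
  haveI : Finite (MulAut G) := Finite.of_injective (fun φ : MulAut G => (φ : G → G)) DFunLike.coe_injective
  haveI : Finite (SemidirectProduct G (MulAut G) (MonoidHom.id _)) :=
    Finite.of_equiv _ SemidirectProduct.equivProd.symm
  let ι : G →* SemidirectProduct G (MulAut G) (MonoidHom.id _) := SemidirectProduct.inl
  have hι : Function.Injective ι := SemidirectProduct.inl_injective
  have hn : ι.range.Normal := by
    rw [show ι.range = SemidirectProduct.rightHom.ker from SemidirectProduct.range_inl_eq_ker_rightHom]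
    infer_instance
  obtain ⟨T, iT, m, hT, hm, ⟨e⟩⟩ := Cfsg.Agent.CharSimple.minimalNormal_iso_pi ι.range
    (fun hb => not_subsingleton G ⟨fun a b => hι ((show ι a = 1 from Subgroup.mem_bot.1 (hb ▸ ⟨a, rfl⟩)).trans
      (show ι b = 1 from Subgroup.mem_bot.1 (hb ▸ ⟨b, rfl⟩)).symm)⟩)
    (fun M hM hle => by
      have hc : (M.comap ι).Characteristic := by
        refine Subgroup.characteristic_iff_le_comap.2 fun φ x hx => ?_
        show ι (φ x) ∈ M
        have := hM.conj_mem _ hx (SemidirectProduct.inr φ)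
        rwa [← map_inv, ← SemidirectProduct.inl_aut] at this
      rcases h _ hc with h1 | h1
      · refine Or.inl ((Subgroup.eq_bot_iff_forall M).2 fun x hx => ?_)
        obtain ⟨a, rfl⟩ := hle hx
        rw [show a = 1 from Subgroup.mem_bot.1 (h1 ▸ hx), map_one]
      · refine Or.inr (le_antisymm hle ?_)
        rintro _ ⟨a, rfl⟩
        exact (h1.ge (Subgroup.mem_top a) : a ∈ M.comap ι))
  exact ⟨T, iT, hT, m, hm, ⟨(MonoidHom.ofInjective hι).trans e⟩⟩

/-- Automorphism adding one coordinate to another, in a commutative power. -/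
def shear {n : ℕ} {S : Type*} [Group S] (hS : ∀ a b : S, a * b = b * a) (i j : Fin n) (hij : i ≠ j) :
    (Fin n → S) ≃* (Fin n → S) where
  toFun x := x * Pi.mulSingle j (x i)
  invFun x := x * Pi.mulSingle j (x i)⁻¹
  left_inv x := by
    funext k
    rcases eq_or_ne k j with rfl | hk
    · simp [Pi.mulSingle_eq_of_ne hij, mul_assoc]
    · simp [Pi.mulSingle_eq_of_ne hk]
  right_inv x := by
    funext k
    rcases eq_or_ne k j with rfl | hk
    · simp [Pi.mulSingle_eq_of_ne hij, mul_assoc]
    · simp [Pi.mulSingle_eq_of_ne hk]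
  map_mul' x y := by
    funext k
    rcases eq_or_ne k j with rfl | hk
    · simp only [Pi.mul_apply, Pi.mulSingle_eq_same]
      rw [mul_assoc, mul_assoc, ← mul_assoc (y k), hS (y k) (x i), mul_assoc]
    · simp [Pi.mulSingle_eq_of_ne hk]

/-- Permutation of coordinates. -/
def coordPerm {n : ℕ} {S : Type*} [Group S] (π : Perm (Fin n)) : (Fin n → S) ≃* (Fin n → S) where
  toFun x k := x (π k)
  invFun x k := x (π.symm k)
  left_inv x := funext fun k => by simp
  right_inv x := funext fun k => by simp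
  map_mul' _ _ := rfl

theorem eq_bot_or_top {n : ℕ} {S : Type*} [Group S] [IsSimpleGroup S] (K : Subgroup (Fin n → S))
    (hK : ∀ ψ : (Fin n → S) ≃* (Fin n → S), ∀ x ∈ K, ψ x ∈ K) : K = ⊥ ∨ K = ⊤ := by
  refine (em (K = ⊥)).imp_right fun hne => ?_
  obtain ⟨⟨x, hx⟩, hx'⟩ := K.ne_bot_iff_exists_ne_one.1 hne
  have hx1 : x ≠ 1 := fun h => hx' (Subtype.ext h)
  obtain ⟨i, hi⟩ := Function.ne_iff.1 hx1
  have hone : ∃ (k : Fin n) (c : S), c ≠ 1 ∧ Pi.mulSingle k c ∈ K := by
    by_cases hS : ∀ a b : S, a * b = b * a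
    · by_cases hj : ∃ j, i ≠ j
      · obtain ⟨j, hij⟩ := hj
        refine ⟨j, x i, hi, ?_⟩
        have := K.mul_mem (K.inv_mem hx) (hK (shear hS i j hij) x hx)
        simpa [shear] using this
      · push Not at hj
        refine ⟨i, x i, hi, ?_⟩
        convert! hx using 1
        funext k
        rw [← hj k, Pi.mulSingle_eq_same]
    · have hc : Subgroup.center S = ⊥ := by
        refine (IsSimpleGroup.eq_bot_or_eq_top_of_normal _ inferInstance).resolve_right fun h => hS ?_
        intro a b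
        exact (Subgroup.mem_center_iff.1 (h ▸ Subgroup.mem_top a) b).symm
      obtain ⟨s, hs⟩ : ∃ s, x i * s * (x i)⁻¹ * s⁻¹ ≠ 1 := by
        by_contra h
        push Not at h
        have hm : x i ∈ Subgroup.center S := Subgroup.mem_center_iff.2 fun s => by
          have := h s
          rw [mul_inv_eq_one, mul_inv_eq_iff_eq_mul] at this
          exact this.symm
        rw [hc] at hm
        exact hi (Subgroup.mem_bot.1 hm)
      refine ⟨i, _, hs, ?_⟩
      have := K.mul_mem hx (hK (MulAut.conj (Pi.mulSingle i s)) x⁻¹ (K.inv_mem hx))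
      convert! this using 1
      funext k
      rcases eq_or_ne k i with rfl | hk
      · simp [mul_assoc]
      · simp [Pi.mulSingle_eq_of_ne hk]
  obtain ⟨k, c, hc, hck⟩ := hone
  have hN : (K.comap (MonoidHom.mulSingle (fun _ => S) k)) = ⊤ := by
    refine (IsSimpleGroup.eq_bot_or_eq_top_of_normal _ ⟨fun a ha g => ?_⟩).resolve_left fun h => hc ?_
    · have := hK (MulAut.conj (Pi.mulSingle k g)) _ (Subgroup.mem_comap.1 ha)
      rw [Subgroup.mem_comap]
      convert! this using 1
      simp [Pi.mulSingle_mul, ← Pi.mulSingle_inv]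
    · have : c ∈ K.comap (MonoidHom.mulSingle (fun _ => S) k) := Subgroup.mem_comap.2 hck
      rw [h] at this
      exact Subgroup.mem_bot.1 this
  refine eq_top_iff.2 fun y _ => Subgroup.pi_mem_of_mulSingle_mem y fun j => ?_
  have h1 : Pi.mulSingle k (y j) ∈ K := Subgroup.mem_comap.1 (hN.ge (Subgroup.mem_top (y j)))
  have h2 := hK (coordPerm (swap k j)) _ h1
  convert! h2 using 1
  funext l
  show _ = (Pi.mulSingle k (y j) : Fin n → S) (swap k j l)
  rcases eq_or_ne l j with rfl | hl
  · simp
  · rw [Pi.mulSingle_eq_of_ne hl, Pi.mulSingle_eq_of_ne]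
    intro h
    have := congrArg (swap k j) h
    simp at this
    exact hl this

theorem charSimple_iff {G : Type*} [Group G] [Finite G] [Nontrivial G] :
    (∀ H : Subgroup G, H.Characteristic → H = ⊥ ∨ H = ⊤) ↔
    ∃ (S : Type) (_ : Group S) (_ : IsSimpleGroup S) (n : ℕ), 1 ≤ n ∧ Nonempty (G ≃* (Fin n → S)) := by
  refine ⟨forward, ?_⟩
  rintro ⟨S, _, _, n, -, ⟨e⟩⟩ H hH
  rcases eq_bot_or_top (H.map e.toMonoidHom) (fun ψ x hx => by
    obtain ⟨a, ha, rfl⟩ := hx
    refine ⟨((e.trans ψ).trans e.symm) a, ?_, by simp⟩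
    exact Subgroup.mem_comap.1 ((Subgroup.characteristic_iff_le_comap.1 hH _) ha)) with h | h
  · exact Or.inl ((Subgroup.map_eq_bot_iff_of_injective _ e.injective).1 h)
  · refine Or.inr ?_
    rw [← Subgroup.map_top_of_surjective e.toMonoidHom e.surjective] at h
    exact Subgroup.map_injective e.injective h

/-- The binary space of dimension three. -/
abbrev V8 : Type := (Fin 2 × Fin 2) × Fin 2

/-- Affine permutations of the binary space of dimension three. -/
def affine : Subgroup (Perm V8) where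
  carrier := {g | ∀ a b : V8, g (a + b) = g a + g b + g 0}
  one_mem' := fun a b => by simp
  mul_mem' := by
    intro g h hg hh a b
    have h3 : ∀ x y z : V8, g (x + y + z) = g x + g y + g z := by
      intro x y z
      rw [hg, hg]
      have : ∀ p q r s : V8, p + q + s + r + s = p + q + r := by decide +kernel
      exact this _ _ _ _
    simp only [Perm.mul_apply]
    rw [hh, h3]
  inv_mem' := by
    intro g hg a b
    apply g.injective
    have h3 : ∀ x y z : V8, g (x + y + z) = g x + g y + g z := by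
      intro x y z
      rw [hg, hg]
      have : ∀ p q r s : V8, p + q + s + r + s = p + q + r := by decide +kernel
      exact this _ _ _ _
    rw [h3]
    simp

/-- A permutation of pairs with flips. -/
def mk (σ : Perm (Fin 2 × Fin 2)) (ε : Fin 2 × Fin 2 → Fin 2) : Perm V8 where
  toFun x := (σ x.1, x.2 + ε x.1)
  invFun x := (σ.symm x.1, x.2 - ε (σ.symm x.1))
  left_inv x := by simp
  right_inv x := by simp

theorem mk_affine : ∀ (σ : Perm (Fin 2 × Fin 2)) (ε : Fin 2 × Fin 2 → Fin 2),
    sign (mk σ ε) = 1 → ∀ a b : V8, mk σ ε (a + b) = mk σ ε a + mk σ ε b + mk σ ε 0 := by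
  decide +kernel

theorem even_pres_le {g : Perm V8} (hg : ∀ x y : V8, x.1 = y.1 ↔ (g x).1 = (g y).1) (hs : sign g = 1) :
    g ∈ affine := by
  have hinj : Function.Injective (fun i : Fin 2 × Fin 2 => (g (i, 0)).1) := fun i j h =>
    (hg (i, 0) (j, 0)).2 h
  set σ := Equiv.ofBijective _ (Finite.injective_iff_bijective.1 hinj) with hσ
  have hgeq : g = mk σ (fun i => (g (i, 0)).2) := by
    ext1 ⟨i, u⟩
    have h1 : (g (i, u)).1 = (g (i, 0)).1 := (hg (i, u) (i, 0)).1 rfl
    have h2 : u ≠ 0 → (g (i, u)).2 ≠ (g (i, 0)).2 := fun hu h => hu (by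
      simpa using g.injective (Prod.ext h1 h))
    have key : ∀ u p q : Fin 2, (u ≠ 0 → p ≠ q) → (u = 0 → p = q) → p = u + q := by decide
    exact Prod.ext h1 (key u _ _ h2 fun hu => by rw [hu])
  rw [hgeq] at hs ⊢
  exact mk_affine _ _ hs

theorem not_coatom {Ω : Type*} [Fintype Ω] [DecidableEq Ω] (f : Ω → Fin 4)
    (hf : ∀ i : Fin 4, Nat.card {x : Ω // f x = i} = 2) :
    ¬ IsCoatom ((Cfsg.Agent.PermWreath.pres f ⊓ alternatingGroup Ω).subgroupOf (alternatingGroup Ω)) := by
  obtain ⟨E₀, hE₀⟩ := Cfsg.Agent.PermWreath.exists_coords hf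
  set E : Ω ≃ V8 := E₀.trans ((finProdFinEquiv (m := 2) (n := 2)).symm.prodCongr (Equiv.refl _)) with hE
  have hE1 : ∀ x y, f x = f y ↔ (E x).1 = (E y).1 := fun x y => by
    simp [hE, hE₀]
  set K := (affine.comap E.permCongrHom.toMonoidHom).subgroupOf (alternatingGroup Ω)
  have hle : (Cfsg.Agent.PermWreath.pres f ⊓ alternatingGroup Ω).subgroupOf (alternatingGroup Ω) ≤ K := by
    intro g hg
    refine even_pres_le (g := E.permCongr g) (fun x y => ?_) ?_
    · have := hg.1 (E.symm x) (E.symm y)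
      rw [hE1, hE1] at this
      simpa using this
    · rw [sign_permCongr]; exact g.2
  have he1 : ∀ a b : V8, ((fun x : V8 => ((x.2, x.1.2), x.1.1)) (a + b) : V8) =
      (fun x : V8 => ((x.2, x.1.2), x.1.1)) a + (fun x : V8 => ((x.2, x.1.2), x.1.1)) b +
        (fun x : V8 => ((x.2, x.1.2), x.1.1)) 0 := by decide +kernel
  let s : Perm V8 := ⟨fun x => ((x.2, x.1.2), x.1.1), fun x => ((x.2, x.1.2), x.1.1), fun x => rfl, fun x => rfl⟩
  have hs : sign s = 1 := by decide +kernel
  let c : Perm V8 := swap ((0, 0), 0) ((1, 0), 0) * swap ((0, 0), 0) ((0, 1), 0)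
  have hc : sign c = 1 := by decide +kernel
  intro hmax
  have hsA : E.symm.permCongr s ∈ alternatingGroup Ω := by rw [mem_alternatingGroup, sign_permCongr, hs]
  have hcA : E.symm.permCongr c ∈ alternatingGroup Ω := by rw [mem_alternatingGroup, sign_permCongr, hc]
  have hKtop : K = ⊤ := hmax.2 K (lt_of_le_of_ne hle fun heq => by
    have hm : (⟨_, hsA⟩ : alternatingGroup Ω) ∈ K := by
      show E.permCongr (E.symm.permCongr s) ∈ affine
      rw [show E.permCongr (E.symm.permCongr s) = s by ext1 x; simp]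
      exact he1
    rw [← heq] at hm
    have := (hm.1 (E.symm ((0, 0), 0)) (E.symm ((0, 0), 1)))
    rw [hE1, hE1] at this
    simp [s] at this)
  have hm : E.permCongr (E.symm.permCongr c) ∈ affine :=
    (hKtop.ge (Subgroup.mem_top (⟨_, hcA⟩ : alternatingGroup Ω)) : _)
  rw [show E.permCongr (E.symm.permCongr c) = c by ext1 x; simp] at hm
  have hnot : ¬ ∀ a b : V8, c (a + b) = c a + c b + c 0 := by decide +kernel
  exact hnot hm

end Cfsg.Agent.PermMisc
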