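/-
A tensor factor with an orthonormal frame permuted by its similitudes: the tensor product stabiliser lies in
the stabiliser of a decomposition into blocks.
-/
import Mathlib
import Cfsg.Agent.Lib.Imprimitive.Frames
import Cfsg.Agent.Lib.Aschbacher.FormTensor
set_option autoImplicit false

namespace Cfsg.Agent.Imprim

open scoped Matrix Kronecker
open Matrix
open Cfsg.Agent.Transvec

attribute [-simp] Matrix.mulVec_single Matrix.mulVec_single_one

variable {ι : Type} [Fintype ι] [DecidableEq ι] {F : Type*} [Field F] {k n : ℕ}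

/-- A Kronecker product with rows and columns indexed through e. -/
def kMat (e : ι ≃ Fin k × Fin n) (b : Matrix (Fin k) (Fin k) F) (a : Matrix (Fin n) (Fin n) F) :
    Matrix ι ι F := Matrix.of fun r s => b (e r).1 (e s).1 * a (e r).2 (e s).2

theorem kMat_eq (e : ι ≃ Fin k × Fin n) (b : Matrix (Fin k) (Fin k) F) (a : Matrix (Fin n) (Fin n) F) :
    kMat e b a = (b ⊗ₖ a).submatrix e e := rfl

theorem kMat_mul (e : ι ≃ Fin k × Fin n) (b b' : Matrix (Fin k) (Fin k) F)
    (a a' : Matrix (Fin n) (Fin n) F) : kMat e b a * kMat e b' a' = kMat e (b * b') (a * a') := by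
  rw [kMat_eq, kMat_eq, kMat_eq, Matrix.submatrix_mul_equiv, Matrix.mul_kronecker_mul]

theorem kMat_one (e : ι ≃ Fin k × Fin n) :
    kMat e (1 : Matrix (Fin k) (Fin k) F) (1 : Matrix (Fin n) (Fin n) F) = 1 := by
  rw [kMat_eq, Matrix.one_kronecker_one, Matrix.submatrix_one_equiv]

theorem kMat_transpose (e : ι ≃ Fin k × Fin n) (b : Matrix (Fin k) (Fin k) F)
    (a : Matrix (Fin n) (Fin n) F) : (kMat e b a)ᵀ = kMat e bᵀ aᵀ := rfl

theorem kMat_map (e : ι ≃ Fin k × Fin n) (σ : F →+* F) (b : Matrix (Fin k) (Fin k) F)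
    (a : Matrix (Fin n) (Fin n) F) : (kMat e b a).map σ = kMat e (b.map σ) (a.map σ) :=
  Matrix.ext fun r s => by simp [kMat]

theorem tensor_entries {n₁ n₂ : ℕ} {e : ι ≃ Fin n₁ × Fin n₂} {P g : GL ι F}
    (h : g ∈ Geo.tensorProductSubgroup n₁ n₂ e P) :
    ∃ (a : GL (Fin n₁) F) (b : GL (Fin n₂) F), ((P⁻¹ * g * P : GL ι F) : Matrix ι ι F) = kMat e a b := by
  obtain ⟨_, ⟨z, ⟨a, b, hz⟩, rfl⟩, rfl⟩ := h
  refine ⟨a, b, ?_⟩
  simp [kMat_eq, ← hz, Geo.glReindex, mul_assoc]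

theorem swap_entries {n₁ n₂ : ℕ} (e : ι ≃ Fin n₁ × Fin n₂) (a : Matrix (Fin n₁) (Fin n₁) F)
    (b : Matrix (Fin n₂) (Fin n₂) F) :
    kMat e a b = kMat (e.trans (Equiv.prodComm _ _)) b a :=
  Matrix.ext fun r s => by simp [kMat, mul_comm]

theorem blockMon_of_kMat {e : ι ≃ Fin k × Fin n} {g : GL ι F} {b : Matrix (Fin k) (Fin k) F}
    {a : Matrix (Fin n) (Fin n) F} (h : (g : Matrix ι ι F) = kMat e b a)
    (hb : ∀ s, ∃ r, ∀ r', r' ≠ r → b r' s = 0) : BlockMon e g := by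
  intro i
  obtain ⟨r, hr⟩ := hb i
  refine ⟨r, fun x hx l hl => ?_⟩
  show ((g : Matrix ι ι F) *ᵥ x) l = 0
  rw [h]
  refine Finset.sum_eq_zero fun s _ => ?_
  by_cases hs : (e s).1 = i
  · show b (e l).1 (e s).1 * a (e l).2 (e s).2 * x s = 0
    rw [hs, hr _ hl]; ring
  · rw [hx s hs, mul_zero]

/-- The elements permuting the blocks, as a subgroup. -/
def blockGroup (e : ι ≃ Fin k × Fin n) [Finite F] : Subgroup (GL ι F) where
  carrier := {g | BlockMon e g}
  one_mem' := fun i => ⟨i, fun x hx => by rwa [mv_one]⟩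
  mul_mem' := BlockMon.mul
  inv_mem' {g} hg := by
    have hpow : ∀ j : ℕ, BlockMon e (g ^ j) := by
      intro j
      induction j with
      | zero => exact fun i => ⟨i, fun x hx => by rwa [pow_zero, mv_one]⟩
      | succ j ih => rw [pow_succ]; exact ih.mul hg
    have : g⁻¹ = g ^ (orderOf g - 1) := by
      rw [inv_eq_iff_mul_eq_one, ← pow_succ', Nat.sub_add_cancel (orderOf_pos g), pow_orderOf_eq_one]
    show BlockMon e g⁻¹
    rw [this]
    exact hpow _

/-- The refinement criterion. -/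
theorem frame_core [Finite F] (e : ι ≃ Fin k × Fin n) (Q : GL ι F) {T G : Subgroup (GL ι F)}
    (hT : ∀ g ∈ T, g ∈ G → ∃ (b : Matrix (Fin k) (Fin k) F) (a : Matrix (Fin n) (Fin n) F),
      ((Q⁻¹ * g * Q : GL ι F) : Matrix ι ι F) = kMat e b a ∧ ∀ s, ∃ r, ∀ r', r' ≠ r → b r' s = 0)
    {j0 j1 : Fin k} {h : GL ι F} (hG : h ∈ G) (hblock : BlockMon e (Q⁻¹ * h * Q))
    (hmap : ∀ x, InBlock e j0 x → InBlock e j0 (mv (Q⁻¹ * h * Q) x))
    (hfix : ∀ x, InBlock e j1 x → mv h (mv Q x) = mv Q x)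
    (hns : ∃ x, InBlock e j0 x ∧ ∀ c : F, mv h (mv Q x) ≠ c • mv Q x)
    {g : GL ι F} (hgG : g ∈ G) (hg : ¬ BlockMon e (Q⁻¹ * g * Q)) :
    ∃ K : Subgroup (GL ι F), T ⊓ G < K ∧ K < G := by
  classical
  refine ⟨(blockGroup e).comap (MulAut.conj Q⁻¹).toMonoidHom ⊓ G, lt_of_le_not_ge ?_ ?_,
    lt_of_le_not_ge inf_le_right ?_⟩
  · refine fun z hz => ⟨?_, hz.2⟩
    show BlockMon e (Q⁻¹ * z * (Q⁻¹)⁻¹)
    rw [inv_inv]
    obtain ⟨b, a, hba, hb⟩ := hT z hz.1 hz.2
    exact blockMon_of_kMat hba hb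
  · intro hle
    have hm : h ∈ T ⊓ G := hle ⟨show BlockMon e (Q⁻¹ * h * (Q⁻¹)⁻¹) by rwa [inv_inv], hG⟩
    obtain ⟨b, a, hba, -⟩ := hT h hm.1 hm.2
    set H := Q⁻¹ * h * Q
    have hH : ∀ s r, mv H (ev s) r = b (e r).1 (e s).1 * a (e r).2 (e s).2 := fun s r => by
      show ((H : Matrix ι ι F) *ᵥ Pi.single s 1) r = _
      rw [hba, Matrix.mulVec_single_one]
      rfl
    have hfix' : ∀ x, InBlock e j1 x → mv H x = x := fun x hx => by
      rw [mv_mul, mv_mul, hfix x hx, mv_inv_mv]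
    obtain ⟨x, hx, hxc⟩ := hns
    -- the second factor is scalar
    have hb11 : ∀ i i', b j1 j1 * a i' i = (ev (e.symm (j1, i)) : ι → F) (e.symm (j1, i')) := by
      intro i i'
      have := congrFun (hfix' (ev (e.symm (j1, i))) (by simpa using inBlock_ev e (e.symm (j1, i)) (1 : F)))
        (e.symm (j1, i'))
      rw [hH] at this
      simpa using this
    have hb0 : ∀ r, r ≠ j0 → ∀ i i', b r j0 * a i' i = 0 := by
      intro r hr i i'
      have := hmap (ev (e.symm (j0, i))) (by simpa using inBlock_ev e (e.symm (j0, i)) (1 : F))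
        (e.symm (r, i')) (by simpa using hr)
      rw [hH] at this
      simpa using this
    have hd : ∀ i, b j1 j1 * a i i = 1 := fun i => by simpa using hb11 i i
    have ho : ∀ i i', i' ≠ i → a i' i = 0 := fun i i' hii => by
      have h0 : b j1 j1 * a i' i = 0 := (hb11 i i').trans (Pi.single_eq_of_ne (by simpa using hii) _)
      exact (mul_eq_zero.1 h0).resolve_left (left_ne_zero_of_mul_eq_one (hd i))
    apply hxc (b j0 j0 / b j1 j1)
    have key : mv H x = (b j0 j0 / b j1 j1) • x := by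
      rw [mv_eq_sum H x]
      conv_rhs => rw [show x = ∑ s, x s • (ev s : ι → F) from pi_eq_sum_univ' x, Finset.smul_sum]
      refine Finset.sum_congr rfl fun s _ => ?_
      by_cases hs : (e s).1 = j0
      swap
      · simp [hx s hs]
      rw [smul_comm]
      congr 1
      funext r
      rw [hH, hs, Pi.smul_apply, smul_eq_mul]
      have hne1 : b j1 j1 ≠ 0 := left_ne_zero_of_mul_eq_one (hd (e s).2)
      by_cases hr2 : (e r).2 = (e s).2
      · by_cases hr1 : (e r).1 = j0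
        · have : r = s := e.injective (Prod.ext (hr1.trans hs.symm) hr2)
          subst this
          rw [hr1, show (ev r : ι → F) r = 1 from Pi.single_eq_same r 1, mul_one, show a (e r).2 (e r).2 = 1 / b j1 j1 by
            rw [eq_div_iff hne1, mul_comm]; exact hd _, mul_one_div]
        · rw [hb0 _ hr1, show (ev s : ι → F) r = 0 from Pi.single_eq_of_ne (fun h : r = s => hr1 (by rw [h]; exact hs)) _, mul_zero]
      · rw [ho _ _ hr2, mul_zero, show (ev s : ι → F) r = 0 from Pi.single_eq_of_ne (fun h : r = s => hr2 (by rw [h])) _, mul_zero]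
    have h2 := congrArg (mv Q) key
    rwa [mv_smul, mv_mul, mv_mul, mv_mv_inv] at h2
  · intro hle
    have := (hle hgG).1
    replace this : BlockMon e (Q⁻¹ * g * (Q⁻¹)⁻¹) := this
    rw [inv_inv] at this
    exact hg this

/-- The linearity assumptions on a sesquilinear form. -/
structure IsSesq (σ : F →+* F) (f : (ι → F) → (ι → F) → F) : Prop where
  add_left : ∀ x y v, f (x + y) v = f x v + f y v
  smul_left : ∀ (c : F) x v, f (c • x) v = c * f x v
  add_right : ∀ v x y, f v (x + y) = f v x + f v y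
  smul_right : ∀ (c : F) v x, f v (c • x) = σ c * f v x

/-- The values of a form on the columns of P. -/
def gramOn (f : (ι → F) → (ι → F) → F) (P : GL ι F) : Matrix ι ι F :=
  Matrix.of fun r s => f (mv P (ev r)) (mv P (ev s))

theorem IsSesq.zero_left {σ : F →+* F} {f : (ι → F) → (ι → F) → F} (hf : IsSesq σ f) (v : ι → F) :
    f 0 v = 0 := by
  have := hf.smul_left 0 0 v
  rwa [zero_smul, zero_mul] at this

theorem IsSesq.zero_right {σ : F →+* F} {f : (ι → F) → (ι → F) → F} (hf : IsSesq σ f) (v : ι → F) :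
    f v 0 = 0 := by
  have := hf.smul_right 0 v 0
  rwa [zero_smul, map_zero, zero_mul] at this

theorem IsSesq.sum_left {σ : F →+* F} {f : (ι → F) → (ι → F) → F} (hf : IsSesq σ f) (s : Finset ι)
    (x : ι → ι → F) (v : ι → F) : f (∑ i ∈ s, x i) v = ∑ i ∈ s, f (x i) v := by
  induction s using Finset.induction with
  | empty => simp [hf.zero_left]
  | insert i s hi ih => rw [Finset.sum_insert hi, Finset.sum_insert hi, hf.add_left, ih]

theorem IsSesq.sum_right {σ : F →+* F} {f : (ι → F) → (ι → F) → F} (hf : IsSesq σ f) (s : Finset ι)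
    (x : ι → ι → F) (v : ι → F) : f v (∑ i ∈ s, x i) = ∑ i ∈ s, f v (x i) := by
  induction s using Finset.induction with
  | empty => simp [hf.zero_right]
  | insert i s hi ih => rw [Finset.sum_insert hi, Finset.sum_insert hi, hf.add_right, ih]

theorem IsSesq.apply_eq {σ : F →+* F} {f : (ι → F) → (ι → F) → F} (hf : IsSesq σ f) (P : GL ι F)
    (x y : ι → F) : f (mv P x) (mv P y) = ∑ r, ∑ s, x r * σ (y s) * gramOn f P r s := by
  rw [mv_eq_sum P x, hf.sum_left]
  refine Finset.sum_congr rfl fun r _ => ?_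
  rw [hf.smul_left, mv_eq_sum P y, hf.sum_right, Finset.mul_sum]
  refine Finset.sum_congr rfl fun s _ => ?_
  rw [hf.smul_right]
  simp [gramOn, mul_assoc]

theorem gramOn_mul {σ : F →+* F} {f : (ι → F) → (ι → F) → F} (hf : IsSesq σ f) (P U : GL ι F) :
    gramOn f (P * U) = (U : Matrix ι ι F)ᵀ * gramOn f P * (U : Matrix ι ι F).map σ := by
  ext r s
  show f (mv (P * U) (ev r)) (mv (P * U) (ev s)) = _
  rw [mv_mul, mv_mul, hf.apply_eq]
  simp only [Matrix.mul_apply, Matrix.transpose_apply, Matrix.map_apply, Finset.sum_mul]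
  rw [Finset.sum_comm]
  refine Finset.sum_congr rfl fun q _ => Finset.sum_congr rfl fun p _ => ?_
  rw [show mv U (ev r) p = (U : Matrix ι ι F) p r by
      show ((U : Matrix ι ι F) *ᵥ Pi.single r 1) p = _; rw [Matrix.mulVec_single_one]; rfl,
    show mv U (ev s) q = (U : Matrix ι ι F) q s by
      show ((U : Matrix ι ι F) *ᵥ Pi.single s 1) q = _; rw [Matrix.mulVec_single_one]; rfl]
  ring

/-- The change to the frame coordinates. -/
theorem frame_exists (e : ι ≃ Fin k × Fin n) {σ : F →+* F} {f : (ι → F) → (ι → F) → F} (hf : IsSesq σ f)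
    (P : GL ι F) {c d : F} (hc : c ≠ 0) (hd : d ≠ 0) {G1 : Matrix (Fin k) (Fin k) F}
    {G2 : Matrix (Fin n) (Fin n) F} (hG2 : G2 ≠ 0) (hk : 0 < k)
    (hP : gramOn f P = c • kMat e G1 G2) (M : GL (Fin k) F)
    (hM : (M : Matrix (Fin k) (Fin k) F)ᵀ * G1 * (M : Matrix (Fin k) (Fin k) F).map σ = d • 1)
    (hmono : ∀ (b : GL (Fin k) F) (μ : F), μ ≠ 0 →
      (b : Matrix (Fin k) (Fin k) F)ᵀ * (b : Matrix (Fin k) (Fin k) F).map σ = μ • 1 →
      ∀ s, ∃ r, ∀ r', r' ≠ r → (b : Matrix (Fin k) (Fin k) F) r' s = 0)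
    {T G : Subgroup (GL ι F)}
    (hT : ∀ g ∈ T, ∃ (b : GL (Fin k) F) (a : GL (Fin n) F), ((P⁻¹ * g * P : GL ι F) : Matrix ι ι F) = kMat e b a)
    (hG : ∀ g ∈ G, ∀ x y, f (mv g x) (mv g y) = f x y) :
    ∃ Q : GL ι F,
      (∀ i j x y, i ≠ j → InBlock e i x → InBlock e j y → f (mv Q x) (mv Q y) = 0) ∧
      ∀ g ∈ T, g ∈ G → ∃ (b : Matrix (Fin k) (Fin k) F) (a : Matrix (Fin n) (Fin n) F),
        ((Q⁻¹ * g * Q : GL ι F) : Matrix ι ι F) = kMat e b a ∧ ∀ s, ∃ r, ∀ r', r' ≠ r → b r' s = 0 := by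
  classical
  let X : GL ι F :=
    { val := kMat e (M : Matrix (Fin k) (Fin k) F) 1
      inv := kMat e ((M⁻¹ : GL (Fin k) F) : Matrix (Fin k) (Fin k) F) 1
      val_inv := by rw [kMat_mul, one_mul, Units.mul_inv, kMat_one]
      inv_val := by rw [kMat_mul, one_mul, Units.inv_mul, kMat_one] }
  have hgram : gramOn f (P * X) = (c * d) • kMat e 1 G2 := by
    rw [gramOn_mul hf, hP]
    show (kMat e _ 1)ᵀ * _ * (kMat e _ 1).map σ = _
    rw [kMat_transpose, kMat_map, Matrix.mul_smul, Matrix.smul_mul, kMat_mul, kMat_mul, hM,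
      Matrix.transpose_one, one_mul, Matrix.map_one σ (map_zero σ) (map_one σ), mul_one]
    ext r s
    simp [kMat]
    ring
  refine ⟨P * X, fun i j x y hij hx hy => ?_, fun g hgT hgG => ?_⟩
  · rw [hf.apply_eq, hgram]
    refine Finset.sum_eq_zero fun r _ => Finset.sum_eq_zero fun s _ => ?_
    by_cases hr : (e r).1 = i
    · by_cases hs : (e s).1 = j
      · simp [kMat, hr, hs, hij]
      · simp [hy s hs]
    · simp [hx r hr]
  obtain ⟨b, a, hba⟩ := hT g hgT
  set U : GL ι F := (P * X)⁻¹ * g * (P * X) with hU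
  have hUX : U = X⁻¹ * (P⁻¹ * g * P) * X := by rw [hU]; group
  set b' : GL (Fin k) F := M⁻¹ * b * M
  have hUv : (U : Matrix ι ι F) = kMat e (b' : Matrix (Fin k) (Fin k) F) (a : Matrix (Fin n) (Fin n) F) := by
    rw [hUX, Units.val_mul, Units.val_mul, hba]
    show kMat e _ 1 * _ * kMat e _ 1 = _
    rw [kMat_mul, kMat_mul, one_mul, mul_one]
    rfl
  have hinv : gramOn f (P * X * U) = gramOn f (P * X) := by
    ext r s
    show f (mv (P * X * U) (ev r)) (mv (P * X * U) (ev s)) = f (mv (P * X) (ev r)) (mv (P * X) (ev s))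
    rw [show P * X * U = g * (P * X) by rw [hU]; group, mv_mul, mv_mul g, hG g hgG]
  rw [gramOn_mul hf, hgram, hUv, kMat_transpose, kMat_map, Matrix.mul_smul, Matrix.smul_mul, kMat_mul,
    kMat_mul, mul_one] at hinv
  have hkr : ((b' : Matrix (Fin k) (Fin k) F)ᵀ * (b' : Matrix (Fin k) (Fin k) F).map σ) ⊗ₖ
      ((a : Matrix (Fin n) (Fin n) F)ᵀ * G2 * (a : Matrix (Fin n) (Fin n) F).map σ) =
      (1 : F) • ((1 : Matrix (Fin k) (Fin k) F) ⊗ₖ G2) := by
    rw [one_smul]
    have h1 := smul_right_injective _ (mul_ne_zero hc hd) hinv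
    rw [kMat_eq, kMat_eq] at h1
    have h2 := congrArg (fun Z => Z.submatrix e.symm e.symm) h1
    simpa [Matrix.submatrix_submatrix] using h2
  haveI : NeZero k := ⟨hk.ne'⟩
  have hA0 : (1 : Matrix (Fin k) (Fin k) F) ⊗ₖ G2 ≠ 0 := fun h0 => hG2 (Matrix.ext fun i j => by
    simpa using congrFun (congrFun h0 (0, i)) (0, j))
  have hX0 : (b' : Matrix (Fin k) (Fin k) F)ᵀ * (b' : Matrix (Fin k) (Fin k) F).map σ ≠ 0 := fun h0 => by
    rw [h0, Matrix.zero_kronecker, one_smul] at hkr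
    exact hA0 hkr.symm
  have hY0 : (a : Matrix (Fin n) (Fin n) F)ᵀ * G2 * (a : Matrix (Fin n) (Fin n) F).map σ ≠ 0 := fun h0 => by
    rw [h0, Matrix.kronecker_zero, one_smul] at hkr
    exact hA0 hkr.symm
  obtain ⟨μ, ν, hμν, hμ, -⟩ := Aschbacher.kron_factor hkr hY0 hX0 one_ne_zero one_ne_zero
  exact ⟨b', a, hUv, hmono b' μ (left_ne_zero_of_mul_eq_one hμν) hμ⟩

/-- Partner of a non-zero vector inside its block. -/
theorem exists_block_partner (e : ι ≃ Fin k × Fin n) {σ : F →+* F} {f : (ι → F) → (ι → F) → F}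
    (hf : IsSesq σ f) (hnd : Geo.IsNondegenerateForm f) {Q : GL ι F}
    (horth : ∀ i j x y, i ≠ j → InBlock e i x → InBlock e j y → f (mv Q x) (mv Q y) = 0)
    {j : Fin k} {y : ι → F} (hy : InBlock e j y) (hy0 : y ≠ 0) :
    ∃ z, InBlock e j z ∧ f (mv Q z) (mv Q y) ≠ 0 := by
  classical
  obtain ⟨⟨w, hw⟩, -⟩ := hnd (mv Q y) (fun h => hy0 (mv_inj Q (h.trans (mv_zero Q).symm)))
  set v := mv Q⁻¹ w with hv
  let z : ι → F := fun r => if (e r).1 = j then v r else 0
  refine ⟨z, fun r hr => by simp [z, hr], ?_⟩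
  have hsplit : f (mv Q (v - z)) (mv Q y) = 0 := by
    rw [show v - z = ∑ r, (v - z) r • (ev r : ι → F) from pi_eq_sum_univ' _, mv_sum, hf.sum_left]
    refine Finset.sum_eq_zero fun r _ => ?_
    by_cases hr : (e r).1 = j
    · simp [z, hr, hf.zero_left, mv_zero]
    · rw [mv_smul, hf.smul_left, horth _ _ _ _ hr (by simpa using inBlock_ev e r (1 : F)) hy, mul_zero]
  intro h0
  apply hw
  have : f w (mv Q y) = f (mv Q (v - z) + mv Q z) (mv Q y) := by
    rw [← mv_add, sub_add_cancel, hv, mv_mv_inv]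
  rw [this, hf.add_left, hsplit, h0, add_zero]

end Cfsg.Agent.Imprim
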