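/-
Over two elements a tensor factor of dimension two is an extension field structure:
the stabilisers of such decompositions are not maximal.
-/
import Mathlib
import Cfsg.Prelude.Def_LieClassical
import Cfsg.Agent.Lib.Imprimitive.TensorFrame
import Cfsg.Agent.Lib.Transvec.QuadGen
import Cfsg.Agent.Lib.Aschbacher.LinRefine
set_option autoImplicit false

namespace Cfsg.Agent.Imprim.Ext

open scoped Matrix Kronecker
open Matrix
open Cfsg.Agent.Transvec

attribute [-simp] Matrix.mulVec_single Matrix.mulVec_single_one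

variable {ι : Type} [Fintype ι] [DecidableEq ι] {F : Type*} [Field F] {n₂ : ℕ}

/-- The vector with the two given rows. -/
def pv (e : ι ≃ Fin 2 × Fin n₂) (P : GL ι F) (x0 x1 : Fin n₂ → F) : ι → F :=
  mv P (fun r => if (e r).1 = 0 then x0 (e r).2 else x1 (e r).2)

theorem pv_add (e : ι ≃ Fin 2 × Fin n₂) (P : GL ι F) (x0 x1 y0 y1 : Fin n₂ → F) :
    pv e P x0 x1 + pv e P y0 y1 = pv e P (x0 + y0) (x1 + y1) := by
  rw [pv, pv, pv, ← mv_add]; congr 1; funext r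
  by_cases h : (e r).1 = 0 <;> simp [h]

theorem pv_smul (e : ι ≃ Fin 2 × Fin n₂) (P : GL ι F) (c : F) (x0 x1 : Fin n₂ → F) :
    c • pv e P x0 x1 = pv e P (c • x0) (c • x1) := by
  rw [pv, pv, ← mv_smul]; congr 1; funext r
  by_cases h : (e r).1 = 0 <;> simp [h]

theorem exists_pv (e : ι ≃ Fin 2 × Fin n₂) (P : GL ι F) (v : ι → F) : ∃ x0 x1, v = pv e P x0 x1 := by
  refine ⟨fun t => mv P⁻¹ v (e.symm (0, t)), fun t => mv P⁻¹ v (e.symm (1, t)), ?_⟩
  conv_lhs => rw [← mv_mv_inv P v]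
  rw [pv]
  congr 1
  funext r
  by_cases h : (e r).1 = 0
  · simp only [h, if_true]
    rw [show (0 : Fin 2) = (e r).1 from h.symm, Prod.mk.eta, Equiv.symm_apply_apply]
  · simp only [h, if_false]
    rw [show (1 : Fin 2) = (e r).1 by omega, Prod.mk.eta, Equiv.symm_apply_apply]

theorem pv_inj {e : ι ≃ Fin 2 × Fin n₂} {P : GL ι F} {x0 x1 y0 y1 : Fin n₂ → F}
    (h : pv e P x0 x1 = pv e P y0 y1) : x0 = y0 ∧ x1 = y1 := by
  have h' := mv_inj P h
  constructor <;> funext t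
  · simpa using congrFun h' (e.symm (0, t))
  · simpa using congrFun h' (e.symm (1, t))

theorem mv_kron (e : ι ≃ Fin 2 × Fin n₂) (P g : GL ι F) (a : Matrix (Fin 2) (Fin 2) F)
    (b : Matrix (Fin n₂) (Fin n₂) F)
    (hg : (g : Matrix ι ι F) = Aschbacher.cj P ((a ⊗ₖ b).submatrix e e)) (x0 x1 : Fin n₂ → F) :
    mv g (pv e P x0 x1) =
      pv e P (a 0 0 • (b *ᵥ x0) + a 0 1 • (b *ᵥ x1)) (a 1 0 • (b *ᵥ x0) + a 1 1 • (b *ᵥ x1)) := by
  simp only [pv, mv]
  rw [hg, Aschbacher.cj_apply, Matrix.mulVec_mulVec, mul_assoc, mul_assoc, Units.inv_mul, mul_one,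
    ← Matrix.mulVec_mulVec]
  congr 1
  funext r
  rw [Matrix.mulVec, dotProduct, ← Equiv.sum_comp e.symm, Fintype.sum_prod_type, Fin.sum_univ_two]
  obtain ⟨⟨i, t⟩, rfl⟩ := e.symm.surjective r
  fin_cases i <;>
    simp [Matrix.mulVec, dotProduct, Finset.mul_sum, mul_assoc]

/-- Multiplication by a generator of the field with four elements. -/
def wGL (h2 : (2 : F) = 0) (e : ι ≃ Fin 2 × Fin n₂) (P : GL ι F) : GL ι F :=
  Units.map (Aschbacher.kemb e P).toMonoidHom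
    ⟨!![0, 1; 1, 1], !![1, 1; 1, 0],
      by ext i j; fin_cases i <;> fin_cases j <;> simp [Matrix.mul_apply, Fin.sum_univ_two, one_add_one_eq_two, h2],
      by ext i j; fin_cases i <;> fin_cases j <;> simp [Matrix.mul_apply, Fin.sum_univ_two, one_add_one_eq_two, h2]⟩

theorem mv_wGL (h2 : (2 : F) = 0) (e : ι ≃ Fin 2 × Fin n₂) (P : GL ι F) (x0 x1 : Fin n₂ → F) :
    mv (wGL h2 e P) (pv e P x0 x1) = pv e P x1 (x0 + x1) := by
  rw [mv_kron e P (wGL h2 e P) !![0, 1; 1, 1] 1 (Aschbacher.kemb_apply e P _)]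
  simp

theorem add_self (h2 : (2 : F) = 0) {α : Type*} [AddCommGroup α] [Module F α] (v : α) : v + v = 0 := by
  rw [← two_smul F v, h2, zero_smul]

theorem add_add_self (h2 : (2 : F) = 0) {α : Type*} [AddCommGroup α] [Module F α] (u v : α) :
    u + (v + v) = u := by rw [add_self h2, add_zero]

theorem wGL_pow_four (h2 : (2 : F) = 0) (e : ι ≃ Fin 2 × Fin n₂) (P : GL ι F) :
    wGL h2 e P * wGL h2 e P * (wGL h2 e P * wGL h2 e P) = wGL h2 e P := by
  refine ext_mv fun v => ?_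
  obtain ⟨x0, x1, rfl⟩ := exists_pv e P v
  simp only [mv_mul, mv_wGL]
  congr 1 <;> funext t <;> simp only [Pi.add_apply]
  · linear_combination (x0 t + x1 t) * h2
  · linear_combination (x0 t + 2 * x1 t) * h2

/-- The normaliser of the field structure. -/
def nW (h2 : (2 : F) = 0) (e : ι ≃ Fin 2 × Fin n₂) (P : GL ι F) : Subgroup (GL ι F) where
  carrier := {g | g * wGL h2 e P * g⁻¹ = wGL h2 e P ∨ g * wGL h2 e P * g⁻¹ = wGL h2 e P * wGL h2 e P}
  one_mem' := Or.inl (by simp)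
  mul_mem' := by
    intro g g' hg hg'
    have hc : g * g' * wGL h2 e P * (g * g')⁻¹ = g * (g' * wGL h2 e P * g'⁻¹) * g⁻¹ := by group
    simp only [Set.mem_setOf_eq] at hg hg' ⊢
    rw [hc]
    rcases hg' with h | h <;> rw [h]
    · exact hg
    · rw [show g * (wGL h2 e P * wGL h2 e P) * g⁻¹ =
        (g * wGL h2 e P * g⁻¹) * (g * wGL h2 e P * g⁻¹) by group]
      rcases hg with h' | h' <;> rw [h']
      · exact Or.inr rfl
      · exact Or.inl (wGL_pow_four h2 e P)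
  inv_mem' := by
    intro g hg
    simp only [Set.mem_setOf_eq, inv_inv] at hg ⊢
    rcases hg with h | h
    · left
      rw [← h]; conv_rhs => rw [h]
      group
    · right
      have h' : g⁻¹ * (wGL h2 e P * wGL h2 e P) * g = wGL h2 e P := by rw [← h]; group
      calc g⁻¹ * wGL h2 e P * g
          = g⁻¹ * (wGL h2 e P * wGL h2 e P * (wGL h2 e P * wGL h2 e P)) * g := by rw [wGL_pow_four]
        _ = (g⁻¹ * (wGL h2 e P * wGL h2 e P) * g) * (g⁻¹ * (wGL h2 e P * wGL h2 e P) * g) := by group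
        _ = _ := by rw [h']

theorem mem_nW {h2 : (2 : F) = 0} {e : ι ≃ Fin 2 × Fin n₂} {P g : GL ι F} :
    g ∈ nW h2 e P ↔ (∀ v, mv g (mv (wGL h2 e P) v) = mv (wGL h2 e P) (mv g v)) ∨
      ∀ v, mv g (mv (wGL h2 e P) v) = mv (wGL h2 e P) (mv (wGL h2 e P) (mv g v)) := by
  show g * _ * g⁻¹ = _ ∨ g * _ * g⁻¹ = _ ↔ _
  rw [mul_inv_eq_iff_eq_mul, mul_inv_eq_iff_eq_mul]
  refine or_congr ⟨fun h v => ?_, fun h => ext_mv fun v => ?_⟩ ⟨fun h v => ?_, fun h => ext_mv fun v => ?_⟩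
  · rw [← mv_mul, h, mv_mul]
  · rw [mv_mul, mv_mul, h v]
  · rw [← mv_mul, h, mv_mul, mv_mul]
  · rw [mv_mul, mv_mul, mv_mul, h v]

theorem tensor_kron {e : ι ≃ Fin 2 × Fin n₂} {P g : GL ι F}
    (hg : g ∈ Geo.tensorProductSubgroup 2 n₂ e P) :
    ∃ (a : GL (Fin 2) F) (b : GL (Fin n₂) F), (g : Matrix ι ι F) =
      Aschbacher.cj P (((a : Matrix (Fin 2) (Fin 2) F) ⊗ₖ (b : Matrix (Fin n₂) (Fin n₂) F)).submatrix e e) := by
  obtain ⟨_, ⟨k, ⟨a, b, hk⟩, rfl⟩, hg'⟩ := hg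
  refine ⟨a, b, ?_⟩
  rw [← hk, ← hg']
  simp [Aschbacher.cj_apply, Geo.glReindex]

theorem tensor_le_nW [Fintype F] (hq : Fintype.card F = 2) (h2 : (2 : F) = 0) (e : ι ≃ Fin 2 × Fin n₂)
    (P : GL ι F) : Geo.tensorProductSubgroup 2 n₂ e P ≤ nW h2 e P := by
  intro g hg
  obtain ⟨a, b, hab⟩ := tensor_kron hg
  have h01 : ∀ x : F, x = 0 ∨ x = 1 := fun x =>
    (em (x = 0)).imp_right fun h => Aschbacher.eq_one_of_card_two hq h
  have hd : (a : Matrix (Fin 2) (Fin 2) F).det ≠ 0 :=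
    ((Matrix.isUnit_iff_isUnit_det _).1 a.isUnit).ne_zero
  rw [Matrix.det_fin_two] at hd
  rw [mem_nW]
  obtain ⟨p, hp⟩ : ∃ p, (a : Matrix (Fin 2) (Fin 2) F) 0 0 = p := ⟨_, rfl⟩
  obtain ⟨q, hq'⟩ : ∃ q, (a : Matrix (Fin 2) (Fin 2) F) 0 1 = q := ⟨_, rfl⟩
  obtain ⟨r, hr⟩ : ∃ r, (a : Matrix (Fin 2) (Fin 2) F) 1 0 = r := ⟨_, rfl⟩
  obtain ⟨s, hs⟩ : ∃ s, (a : Matrix (Fin 2) (Fin 2) F) 1 1 = s := ⟨_, rfl⟩
  rw [hp, hq', hr, hs] at hd
  have hcase : (r = q ∧ s = p + q) ∨ (s = p ∧ q = p + r) := by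
    rcases h01 p with rfl | rfl <;> rcases h01 q with rfl | rfl <;>
      rcases h01 r with rfl | rfl <;> rcases h01 s with rfl | rfl <;>
      simp [one_add_one_eq_two, h2] at hd ⊢
  rcases hcase with ⟨rfl, rfl⟩ | ⟨rfl, rfl⟩
  · left
    intro v
    obtain ⟨x0, x1, rfl⟩ := exists_pv e P v
    rw [mv_wGL, mv_kron e P g _ _ hab, mv_kron e P g _ _ hab, mv_wGL, hp, hq', hr, hs, Matrix.mulVec_add]
    congr 1 <;> module
  · right
    intro v
    obtain ⟨x0, x1, rfl⟩ := exists_pv e P v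
    rw [mv_wGL, mv_kron e P g _ _ hab, mv_kron e P g _ _ hab, mv_wGL, mv_wGL, hp, hq', hr, hs,
      Matrix.mulVec_add]
    congr 1 <;> funext t <;> simp only [Pi.add_apply, Pi.smul_apply, smul_eq_mul]
    · linear_combination (0 : F) * h2
    · linear_combination (-(r * ((b : Matrix (Fin n₂) (Fin n₂) F) *ᵥ x0) t) - s * ((b : Matrix (Fin n₂) (Fin n₂) F) *ᵥ x1) t) * h2

/-- A tensor product fixing both copies of a non-zero vector does not mix the rows. -/
theorem not_tensor {e : ι ≃ Fin 2 × Fin n₂} {P g : GL ι F} {y x x0 x1 : Fin n₂ → F} (hy : y ≠ 0)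
    (h0 : mv g (pv e P y 0) = pv e P y 0) (h1 : mv g (pv e P 0 y) = pv e P 0 y)
    (hx : mv g (pv e P x 0) = pv e P x0 x1) (hx1 : x1 ≠ 0) :
    g ∉ Geo.tensorProductSubgroup 2 n₂ e P := by
  intro hg
  obtain ⟨a, b, hab⟩ := tensor_kron hg
  rw [mv_kron e P g _ _ hab, Matrix.mulVec_zero, smul_zero, smul_zero, add_zero, add_zero] at h0 hx
  have hby : (b : Matrix (Fin n₂) (Fin n₂) F) *ᵥ y ≠ 0 := fun h => hy (by
    rw [← (pv_inj h0).1, h, smul_zero])
  have hr := (smul_eq_zero.1 (pv_inj h0).2).resolve_right hby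
  apply hx1
  rw [← (pv_inj hx).2, hr, zero_smul]

theorem card_two_facts [Fintype F] (hq : Fintype.card F = 2) : (2 : F) = 0 := by
  have := FiniteField.cast_card_eq_zero F
  rw [hq] at this
  exact_mod_cast this

theorem linear_tensor_two_not_maximal [Fintype F] (n : ℕ) (hn : 13 ≤ n) (hq : Fintype.card F = 2) (n₂ : ℕ)
    (e : Fin n ≃ Fin 2 × Fin n₂) (P : GL (Fin n) F) :
    ∃ K : Subgroup (GL (Fin n) F), Geo.tensorProductSubgroup 2 n₂ e P ⊓ Geo.specialLinear (Fin n) F < K ∧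
      K < Geo.specialLinear (Fin n) F := by
  classical
  have hn2 : 4 ≤ n₂ := by have := Fintype.card_congr e; simp at this; omega
  have h2 := card_two_facts hq
  have hSL : ∀ g : GL (Fin n) F, g ∈ Geo.specialLinear (Fin n) F := fun g =>
    MonoidHom.mem_ker.2 (Units.ext (Aschbacher.eq_one_of_card_two hq (Units.ne_zero _)))
  let φ : Fin 2 → ((Fin n → F) →ₗ[F] F) := fun i =>
    (LinearMap.proj (e.symm (i, (⟨2, by omega⟩ : Fin n₂)))).comp (mvLin P⁻¹)
  set d : Fin 4 → (Fin n₂ → F) := fun j => Pi.single (Fin.castLE hn2 j) 1 with hdd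
  have hφ : ∀ i x0 x1, φ i (pv e P x0 x1) = if i = 0 then x0 ⟨2, by omega⟩ else x1 ⟨2, by omega⟩ :=
    fun i x0 x1 => by
      show mv P⁻¹ (mv P _) _ = _
      rw [mv_inv_mv]
      simp
  have hd : ∀ j : Fin 4, j ≠ 2 → d j ⟨2, by omega⟩ = 0 := fun j hj => by
    simp only [d]
    rw [Pi.single_eq_of_ne]
    intro h
    exact hj (Fin.ext (by simpa using (congrArg Fin.val h).symm))
  have hd2 : d 2 ⟨2, by omega⟩ = 1 := by
    simp only [d]
    rw [show Fin.castLE hn2 2 = ⟨2, by omega⟩ from Fin.ext rfl, Pi.single_eq_same]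
  have hdne : ∀ j, d j ≠ 0 := fun j h => by simpa [d] using congrFun h (Fin.castLE hn2 j)
  have h0 : φ 0 (pv e P (d 0) (d 1)) = 0 := by simp [hφ, hd]
  have h1 : φ 1 (pv e P (d 1) (d 0 + d 1)) = 0 := by simp [hφ, hd]
  set b := tv (pv e P (d 0) (d 1)) (φ 0) h0 * tv (pv e P (d 1) (d 0 + d 1)) (φ 1) h1 with hbdef
  have hb : ∀ x0 x1, mv b (pv e P x0 x1) = pv e P (x0 + x0 ⟨2, by omega⟩ • d 0 + x1 ⟨2, by omega⟩ • d 1)
      (x1 + x0 ⟨2, by omega⟩ • d 1 + x1 ⟨2, by omega⟩ • (d 0 + d 1)) := fun x0 x1 => by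
    rw [hbdef, mv_mul, mv_tv, mv_tv, map_add, map_smul, hφ, hφ, hφ, pv_smul, pv_add, pv_smul, pv_add]
    simp [hd]
    congr 1 <;> module
  have hbW : b ∈ nW h2 e P := mem_nW.2 (Or.inl fun v => by
    obtain ⟨x0, x1, rfl⟩ := exists_pv e P v
    rw [mv_wGL, hb, hb, mv_wGL]
    congr 1 <;> funext t <;> simp only [Pi.add_apply, Pi.smul_apply, smul_eq_mul]
    · ring
    · linear_combination (0 : F) * h2)
  have hbT : b ∉ Geo.tensorProductSubgroup 2 n₂ e P := by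
    refine not_tensor (y := d 3) (x := d 2) (hdne 3) ?_ ?_ (hb _ _) ?_
    · rw [hb]; simp [hd]
    · rw [hb]; simp [hd]
    · simpa [hd2] using hdne 1
  refine ⟨nW h2 e P ⊓ Geo.specialLinear (Fin n) F,
    lt_of_le_of_ne (inf_le_inf_right _ (tensor_le_nW hq h2 e P))
      (fun h => hbT (h.ge ⟨hbW, hSL b⟩).1),
    lt_of_le_of_ne inf_le_right fun h => ?_⟩
  have hg0 : φ 0 (pv e P (d 0) 0) = 0 := by simp [hφ, hd]
  have hg := (h.ge (hSL (tv (pv e P (d 0) 0) (φ 0) hg0))).1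
  rcases mem_nW.1 hg with hc | hc <;>
    · have := hc (pv e P 0 (d 2))
      simp only [mv_wGL, mv_tv, hφ, pv_smul, pv_add, if_true, Pi.zero_apply, zero_smul, zero_add, add_zero,
        smul_zero, hd2, one_smul] at this
      exact hdne 0 (add_left_cancel ((pv_inj this).1.trans (add_zero (d 2)).symm))

theorem gram_two [Fintype F] (hq : Fintype.card F = 2) {f : (Fin 2 → F) → (Fin 2 → F) → F}
    (hf : Geo.IsSymplecticForm f) :
    Geo.gramMatrix f 0 0 = 0 ∧ Geo.gramMatrix f 1 1 = 0 ∧ Geo.gramMatrix f 0 1 = 1 ∧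
      Geo.gramMatrix f 1 0 = 1 := by
  have hne : Geo.gramMatrix f 0 1 ≠ 0 := by
    intro h
    obtain ⟨⟨x, hx⟩, -⟩ := hf.nondegenerate (Pi.single 1 1) (by simp)
    apply hx
    rw [show x = x 0 • Pi.single 0 1 + x 1 • Pi.single 1 1 by funext i; fin_cases i <;> simp,
      hf.bilinear.add_left, hf.bilinear.smul_left, hf.bilinear.smul_left, hf.alternating]
    rw [show f (Pi.single 0 1) (Pi.single 1 1) = 0 from h]
    simp
  have h1 := Aschbacher.eq_one_of_card_two hq hne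
  refine ⟨hf.alternating _, hf.alternating _, h1, ?_⟩
  have := hf.alternating (Pi.single 0 1 + Pi.single 1 1)
  rw [hf.bilinear.add_left, hf.bilinear.add_right, hf.bilinear.add_right, hf.alternating, hf.alternating] at this
  change (0 : F) + Geo.gramMatrix f 0 1 + (Geo.gramMatrix f 1 0 + 0) = 0 at this
  linear_combination this - (1 : F) * h1 - card_two_facts hq

theorem orth_tensor_two_not_maximal [Fintype F] (hq : Fintype.card F = 2) {Q : (ι → F) → F}
    (hQ : Geo.IsNondegenerateQuadraticForm Q) (hcard : 11 ≤ Fintype.card ι) (n₂ : ℕ) (hn2 : 2 < n₂)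
    (e : ι ≃ Fin 2 × Fin n₂) (P : GL ι F) (f₁ : (Fin 2 → F) → (Fin 2 → F) → F)
    (f₂ : (Fin n₂ → F) → (Fin n₂ → F) → F) (hf₁ : Geo.IsSymplecticForm f₁) (hf₂ : Geo.IsSymplecticForm f₂)
    (hT : Geo.IsTensorFormStructure id (QuadraticMap.polar Q) f₁ f₂ e P)
    (hpure : ∀ (x₁ : Fin 2 → F) (x₂ : Fin n₂ → F),
      Q ((P : Matrix ι ι F) *ᵥ ((fun a : Fin 2 × Fin n₂ => x₁ a.1 * x₂ a.2) ∘ e)) = 0) :
    ∃ K : Subgroup (GL ι F), Geo.tensorProductSubgroup 2 n₂ e P ⊓ Geo.omegaGL Q < K ∧ K < Geo.omegaGL Q := by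
  classical
  have h2 := card_two_facts hq
  have hb := hf₂.bilinear
  have hs2 : IsSesq (RingHom.id F) f₂ := ⟨hb.add_left, hb.smul_left, hb.add_right, hb.smul_right⟩
  have hsym : ∀ x y, f₂ x y = f₂ y x := fun x y => by
    have := hf₂.alternating (x + y)
    rw [hb.add_left, hb.add_right, hb.add_right, hf₂.alternating, hf₂.alternating] at this
    linear_combination this - f₂ y x * h2
  have hf0 : ∀ x, f₂ 0 x = 0 := hs2.zero_left
  have hf0' : ∀ x, f₂ x 0 = 0 := fun x => by rw [hsym, hf0]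
  have hpol : ∀ x0 x1 y0 y1, Orth.pol Q (pv e P x0 x1) (pv e P y0 y1) = f₂ x0 y1 + f₂ x1 y0 := by
    intro x0 x1 y0 y1
    obtain ⟨c, hc, hT⟩ := hT
    rw [Aschbacher.eq_one_of_card_two hq hc] at hT
    obtain ⟨g00, g11, g01, g10⟩ := gram_two hq hf₁
    have hg1 : gramOn f₂ 1 = Geo.gramMatrix f₂ := Matrix.ext fun r s => by
      show f₂ (mv 1 (ev r)) (mv 1 (ev s)) = _
      rw [mv_one, mv_one]; rfl
    have hexp : ∀ x y, f₂ x y = ∑ r, ∑ s, x r * y s * Geo.gramMatrix f₂ r s := fun x y => by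
      conv_lhs => rw [← mv_one x, ← mv_one y, hs2.apply_eq, hg1]
      simp
    have := hT (fun a => if a.1 = 0 then x0 a.2 else x1 a.2) (fun a => if a.1 = 0 then y0 a.2 else y1 a.2)
    refine this.trans ?_
    rw [hexp, hexp, one_mul, Geo.formOfGram]
    simp only [Fintype.sum_prod_type, Fin.sum_univ_two, Matrix.kroneckerMap_apply, g00, g11, g01, g10, id]
    simp [mul_assoc, mul_comm, mul_left_comm]
  have hpure0 : ∀ x, Q (pv e P x 0) = 0 := fun x => by
    rw [← hpure (Pi.single 0 1) x, pv, mv]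
    congr 2
    funext r
    obtain ⟨⟨i, t⟩, rfl⟩ := e.symm.surjective r
    fin_cases i <;> simp
  have hpure1 : ∀ x, Q (pv e P 0 x) = 0 := fun x => by
    rw [← hpure (Pi.single 1 1) x, pv, mv]
    congr 2
    funext r
    obtain ⟨⟨i, t⟩, rfl⟩ := e.symm.surjective r
    fin_cases i <;> simp
  have hQv : ∀ x0 x1, Q (pv e P x0 x1) = f₂ x0 x1 := fun x0 x1 => by
    have h : Orth.pol Q (pv e P x0 0) (pv e P 0 x1) = f₂ x0 x1 := by rw [hpol, hf0, add_zero]
    rw [Orth.pol, QuadraticMap.polar, hpure0, hpure1, pv_add, add_zero, zero_add] at h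
    linear_combination h
  -- vectors
  have h1 : ∀ {c : F}, c ≠ 0 → c = 1 := fun hc => Aschbacher.eq_one_of_card_two hq hc
  obtain ⟨z, hz⟩ : ∃ z : Fin n₂ → F, z ≠ 0 := ⟨Pi.single ⟨0, by omega⟩ 1, by simp⟩
  obtain ⟨⟨z', hz'⟩, -⟩ := hf₂.nondegenerate z hz
  have hz'1 : f₂ z' z = 1 := h1 hz'
  let L : (Fin n₂ → F) →ₗ[F] (Fin 2 → F) :=
    { toFun := fun x => ![f₂ x z, f₂ x z']
      map_add' := fun x y => by funext i; fin_cases i <;> simp [hb.add_left]
      map_smul' := fun c x => by funext i; fin_cases i <;> simp [hb.smul_left] }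
  obtain ⟨w, hwL, hw0⟩ := (LinearMap.ker L).ne_bot_iff.1 (LinearMap.ker_ne_bot_of_finrank_lt (by simp; omega))
  have hwz : f₂ w z = 0 := congrFun hwL 0
  have hwz' : f₂ w z' = 0 := congrFun hwL 1
  obtain ⟨⟨p, hp⟩, -⟩ := hf₂.nondegenerate w hw0
  set x := p + f₂ p z • z' with hxdef
  have hxz : f₂ x z = 0 := by
    rw [hxdef, hb.add_left, hb.smul_left, hz'1]; linear_combination f₂ p z * h2
  have hxw : f₂ x w = 1 := by
    rw [hxdef, hb.add_left, hb.smul_left, hsym z' w, hwz', mul_zero, add_zero]; exact h1 hp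
  have hzw : f₂ z w = 0 := by rw [hsym, hwz]
  have hzz := hf₂.alternating z
  have hww := hf₂.alternating w
  set u := pv e P z w with hu
  set y := pv e P w (z + w) with hy
  have hQu : Q u = 0 := by rw [hu, hQv, hzw]
  have hQy : Q y = 0 := by rw [hy, hQv, hb.add_right, hwz, hww, add_zero]
  have huy : Orth.pol Q u y = 0 := by rw [hu, hy, hpol, hb.add_right, hzz, hzw, hww]; simp
  obtain ⟨b, -, hbs⟩ := Orth.exists_siegel hQ hQu huy
  have hbO := Orth.siegel_mem_omega hQ (by omega) hQu huy hbs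
  have hbv : ∀ x0 x1, mv b (pv e P x0 x1) = pv e P
      (x0 + (f₂ x0 w + f₂ x1 z) • w - (f₂ x0 (z + w) + f₂ x1 w) • z)
      (x1 + (f₂ x0 w + f₂ x1 z) • (z + w) - (f₂ x0 (z + w) + f₂ x1 w) • w) := fun x0 x1 => by
    rw [hbs, hQy, zero_mul, add_zero, hu, hy, hpol, hpol, sub_eq_add_neg, ← neg_smul, pv_smul, pv_smul,
      pv_add, pv_add]
    congr 1 <;> module
  have hbW : b ∈ nW h2 e P := mem_nW.2 (Or.inl fun v => by
    obtain ⟨x0, x1, rfl⟩ := exists_pv e P v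
    rw [mv_wGL, hbv, hbv, mv_wGL]
    simp only [hb.add_left, hb.add_right]
    congr 1 <;> funext t <;> simp only [Pi.add_apply, Pi.sub_apply, Pi.smul_apply, smul_eq_mul]
    · linear_combination (f₂ x1 w * w t - f₂ x1 w * z t + f₂ x0 z * w t - f₂ x1 z * z t - f₂ x0 w * z t) * h2
    · linear_combination (f₂ x1 w * z t + f₂ x0 z * z t + f₂ x0 z * w t - f₂ x1 z * w t - w t * f₂ x0 w) * h2)
  have hbT : b ∉ Geo.tensorProductSubgroup 2 n₂ e P := by
    refine not_tensor (y := z) (x := x) hz ?_ ?_ (hbv x 0) ?_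
    · rw [hbv, hb.add_right, hzw, hzz, hf0, hf0]; simp
    · rw [hbv, hb.add_right, hzw, hzz, hf0, hf0]; simp
    · rw [hxw, hb.add_right, hxz, hxw, hf0, hf0]
      simp only [zero_add, add_zero, one_smul, add_sub_cancel_right]
      exact hz
  refine ⟨nW h2 e P ⊓ Geo.omegaGL Q,
    lt_of_le_of_ne (inf_le_inf_right _ (tensor_le_nW hq h2 e P)) (fun h => hbT (h.ge ⟨hbW, hbO⟩).1),
    lt_of_le_of_ne inf_le_right fun h => ?_⟩
  have huy2 : Orth.pol Q (pv e P z 0) (pv e P w 0) = 0 := by rw [hpol, hf0', hf0, add_zero]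
  obtain ⟨g, -, hgs⟩ := Orth.exists_siegel hQ (hpure0 z) huy2
  have hg := (h.ge (Orth.siegel_mem_omega hQ (by omega) (hpure0 z) huy2 hgs)).1
  have hgv : ∀ x0 x1, mv g (pv e P x0 x1) = pv e P (x0 + f₂ x1 z • w - f₂ x1 w • z) x1 := fun x0 x1 => by
    rw [hgs, hpure0, zero_mul, add_zero, hpol, hpol, hf0', zero_add, zero_add, sub_eq_add_neg,
      ← neg_smul, pv_smul, pv_smul, pv_add, pv_add]
    congr 1 <;> module
  rcases mem_nW.1 hg with hc | hc
  · have := (pv_inj (by simpa only [mv_wGL, hgv] using hc (pv e P 0 x))).1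
    simp only [zero_add, hxz, hxw, zero_smul, one_smul, add_zero, zero_sub] at this
    exact hz (sub_eq_self.1 this)
  · have := (pv_inj (by simpa only [mv_wGL, hgv] using hc (pv e P 0 x))).2
    simp only [hxz, hxw, zero_smul, one_smul, add_zero, zero_add, zero_sub] at this
    have := congrArg (fun v => f₂ v w) this
    simp only [hb.add_left, show f₂ (-z) w = 0 by rw [← neg_one_smul F z, hb.smul_left, hzw, mul_zero],
      hxw, zero_add] at this
    exact one_ne_zero (α := F) (by linear_combination this + (1 : F) * h2)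

end Cfsg.Agent.Imprim.Ext
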