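/-
Non-maximality of tensor product stabilisers with a small framed factor: symplectic, orthogonal, unitary.
-/
import Mathlib
import Cfsg.Prelude.Def_LieClassical
import Cfsg.Agent.Lib.Imprimitive.TensorFrame
import Cfsg.Agent.Lib.Aschbacher.SympTensorThree
import Cfsg.Agent.Lib.Transvec.SympStd
import Cfsg.Agent.Lib.Transvec.HermStd
import Cfsg.Agent.Lib.Transvec.HermGen
import Cfsg.Agent.Lib.Transvec.QuadGen
set_option autoImplicit false

namespace Cfsg.Agent.Imprim

open scoped Matrix Kronecker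
open Matrix
open Cfsg.Agent.Transvec

attribute [-simp] Matrix.mulVec_single Matrix.mulVec_single_one

variable {ι : Type} [Fintype ι] [DecidableEq ι] {F : Type*} [Field F] {k n : ℕ}

theorem gram_of_structure {σ : F →+* F} {f : (ι → F) → (ι → F) → F} {n₁ n₂ : ℕ}
    {f₁ : (Fin n₁ → F) → (Fin n₁ → F) → F} {f₂ : (Fin n₂ → F) → (Fin n₂ → F) → F}
    {e : ι ≃ Fin n₁ × Fin n₂} {P : GL ι F} (h : Geo.IsTensorFormStructure σ f f₁ f₂ e P) :
    ∃ c : F, c ≠ 0 ∧ gramOn f P = c • kMat e (Geo.gramMatrix f₁) (Geo.gramMatrix f₂) := by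
  classical
  obtain ⟨c, hc, h⟩ := h
  refine ⟨c, hc, Matrix.ext fun r s => ?_⟩
  have hs : ∀ r, (Pi.single (e r) 1 : Fin n₁ × Fin n₂ → F) ∘ e = ev r := fun r => funext fun l => by
    rcases eq_or_ne l r with rfl | hl
    · simp
    · simp [hl]
  have := h (Pi.single (e r) 1) (Pi.single (e s) 1)
  rw [hs, hs] at this
  show f (mv P (ev r)) (mv P (ev s)) = _
  rw [show f (mv P (ev r)) (mv P (ev s)) = _ from this, Geo.formOfGram,
    Finset.sum_eq_single (e r) (fun a _ ha => Finset.sum_eq_zero fun b _ => by simp [ha]) (by simp),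
    Finset.sum_eq_single (e s) (fun b _ hb => by simp [hb]) (by simp)]
  simp [kMat]

theorem gram_ne_zero [NeZero n] {σ : F →+* F} {f : (Fin n → F) → (Fin n → F) → F} (hf : IsSesq σ f)
    (hnd : Geo.IsNondegenerateForm f) : Geo.gramMatrix f ≠ 0 := by
  intro h0
  obtain ⟨v, hv⟩ := exists_ne (0 : Fin n → F)
  obtain ⟨⟨x, hx⟩, -⟩ := hnd v hv
  apply hx
  rw [← mv_one x, ← mv_one v, hf.apply_eq]
  refine Finset.sum_eq_zero fun r _ => Finset.sum_eq_zero fun s _ => ?_
  rw [show gramOn f 1 r s = Geo.gramMatrix f r s by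
    show f (mv 1 (ev r)) (mv 1 (ev s)) = _
    rw [mv_one, mv_one]; rfl, h0]
  simp

/-- A basis in which the Gram matrix is scalar. -/
theorem frame_matrix {σ : F →+* F} {f : (Fin k → F) → (Fin k → F) → F} (hf : IsSesq σ f) {d : F}
    (hd : d ≠ 0) {w : Fin k → Fin k → F} (hw : ∀ i j, f (w i) (w j) = if i = j then d else 0) :
    ∃ M : GL (Fin k) F,
      (M : Matrix (Fin k) (Fin k) F)ᵀ * Geo.gramMatrix f * (M : Matrix (Fin k) (Fin k) F).map σ = d • 1 := by
  classical
  have hli : LinearIndependent F w := by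
    rw [Fintype.linearIndependent_iff]
    intro g hg j
    have h1 : f (∑ i, g i • w i) (w j) = g j * d := by
      rw [hf.sum_left, Finset.sum_eq_single j (fun i _ hi => by rw [hf.smul_left, hw, if_neg hi, mul_zero])
        (by simp), hf.smul_left, hw, if_pos rfl]
    rw [hg, hf.zero_left] at h1
    exact (mul_eq_zero.1 h1.symm).resolve_right hd
  obtain ⟨M, hM⟩ := exists_gl_of_li w hli
  refine ⟨M, ?_⟩
  have h1 : gramOn f 1 = Geo.gramMatrix f := Matrix.ext fun r s => by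
    show f (mv 1 (ev r)) (mv 1 (ev s)) = _
    rw [mv_one, mv_one]; rfl
  rw [← h1, ← gramOn_mul hf, one_mul]
  ext i j
  show f (mv M (ev i)) (mv M (ev j)) = _
  rw [hM, hM, hw, Matrix.smul_apply, Matrix.one_apply, smul_eq_mul, mul_ite, mul_one, mul_zero]

/-- The block i in the coordinates of Q. -/
noncomputable def blockEmb (e : ι ≃ Fin k × Fin n) (Q : GL ι F) (i : Fin k) : (Fin n → F) →ₗ[F] ι → F :=
  (mvLin Q).comp (LinearMap.pi fun r => if (e r).1 = i then LinearMap.proj (e r).2 else 0)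

theorem mem_range_blockEmb {e : ι ≃ Fin k × Fin n} {Q : GL ι F} {i : Fin k} {v : ι → F} :
    v ∈ LinearMap.range (blockEmb e Q i) ↔ ∃ x, InBlock e i x ∧ v = mv Q x := by
  constructor
  · rintro ⟨z, rfl⟩
    refine ⟨(LinearMap.pi fun r => if (e r).1 = i then LinearMap.proj (e r).2 else 0 :
      (Fin n → F) →ₗ[F] ι → F) z, fun r hr => by simp [hr], ?_⟩
    simp [blockEmb, mvLin, mv]
  · rintro ⟨x, hx, rfl⟩
    refine ⟨fun a => x (e.symm (i, a)), ?_⟩
    simp only [blockEmb, LinearMap.comp_apply, Matrix.toLin'_apply]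
    congr 1
    funext r
    by_cases hr : (e r).1 = i
    · simp [hr]
      rw [← hr, Prod.mk.eta, Equiv.symm_apply_apply]
    · simp [hr, hx r hr]

theorem finrank_blockEmb (e : ι ≃ Fin k × Fin n) (Q : GL ι F) (i : Fin k) :
    Module.finrank F (LinearMap.range (blockEmb e Q i)) = n := by
  rw [LinearMap.finrank_range_of_inj, Module.finrank_fin_fun]
  intro z z' h
  simp only [blockEmb, LinearMap.comp_apply, Matrix.toLin'_apply] at h
  funext a
  have := congrFun (mv_inj Q h) (e.symm (i, a))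
  simpa using this

theorem blockMon_fixing {e : ι ≃ Fin k × Fin n} {H : GL ι F}
    (h : ∀ i x, InBlock e i x → InBlock e i (mv H x)) : BlockMon e H := fun i => ⟨i, h i⟩

theorem inBlock_add {e : ι ≃ Fin k × Fin n} {i : Fin k} {x y : ι → F} (hx : InBlock e i x)
    (hy : InBlock e i y) (c : F) : InBlock e i (x + c • y) := fun r hr => by simp [hx r hr, hy r hr]

theorem not_blockMon_two {e : ι ≃ Fin k × Fin n} {H : GL ι F} {i j : Fin k} (hij : i ≠ j) {x a b : ι → F}
    (hx : InBlock e i x) (ha : InBlock e i a) (hb : InBlock e j b) (ha0 : a ≠ 0) (hb0 : b ≠ 0)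
    (h : mv H x = a + b) : ¬ BlockMon e H := by
  intro hH
  obtain ⟨l, hl⟩ := hH i
  have h' := hl x hx
  rw [h] at h'
  obtain ⟨r, hr⟩ := Function.ne_iff.1 ha0
  obtain ⟨s, hs⟩ := Function.ne_iff.1 hb0
  have hri : (e r).1 = i := by_contra fun hc => hr (by simpa using ha r hc)
  have hsj : (e s).1 = j := by_contra fun hc => hs (by simpa using hb s hc)
  have e1 : (e r).1 = l := by
    by_contra hc
    have := h' r hc
    rw [Pi.add_apply, hb r (by rw [hri]; exact hij), add_zero] at this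
    exact hr (by simpa using this)
  have e2 : (e s).1 = l := by
    by_contra hc
    have := h' s hc
    rw [Pi.add_apply, ha s (by rw [hsj]; exact Ne.symm hij), zero_add] at this
    exact hs (by simpa using this)
  exact hij (by rw [← hri, ← hsj, e1, e2])

/-- Transvection witnesses. -/
theorem transvection_frame [Finite F] (e : ι ≃ Fin k × Fin n) {σ : F →+* F}
    {f : (ι → F) → (ι → F) → F} (hf : IsSesq σ f) (hnd : Geo.IsNondegenerateForm f) (Q : GL ι F)
    {T G : Subgroup (GL ι F)}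
    (horth : ∀ i j x y, i ≠ j → InBlock e i x → InBlock e j y → f (mv Q x) (mv Q y) = 0)
    (hT : ∀ g ∈ T, g ∈ G → ∃ (b : Matrix (Fin k) (Fin k) F) (a : Matrix (Fin n) (Fin n) F),
      ((Q⁻¹ * g * Q : GL ι F) : Matrix ι ι F) = kMat e b a ∧ ∀ s, ∃ r, ∀ r', r' ≠ r → b r' s = 0)
    {t : F} (ht : t ≠ 0)
    (hGmem : ∀ v, f v v = 0 → ∃ g ∈ G, ∀ x, mv g x = x + (t * f x v) • v)
    {j0 j1 : Fin k} (hj : j0 ≠ j1) {y0 y1 a x : ι → F}
    (hy0 : InBlock e j0 y0) (hy1 : InBlock e j1 y1) (hy10 : y1 ≠ 0) (ha : InBlock e j0 a) (ha0 : a ≠ 0)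
    (haa : f (mv Q a) (mv Q a) = 0) (hyy : f (mv Q y0) (mv Q y0) + f (mv Q y1) (mv Q y1) = 0)
    (hx : InBlock e j0 x) (hxy : f (mv Q x) (mv Q y0) ≠ 0) (hxspan : ∀ c : F, x ≠ c • y0) :
    ∃ K : Subgroup (GL ι F), T ⊓ G < K ∧ K < G := by
  classical
  obtain ⟨h, hG, hh⟩ := hGmem (mv Q a) haa
  have hHx : ∀ x, mv (Q⁻¹ * h * Q) x = x + (t * f (mv Q x) (mv Q a)) • a := fun x => by
    rw [mv_mul, mv_mul, hh, mv_add, mv_smul, mv_inv_mv, mv_inv_mv]
  have hiso : f (mv Q (y0 + y1)) (mv Q (y0 + y1)) = 0 := by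
    rw [mv_add, hf.add_left, hf.add_right, hf.add_right, horth _ _ _ _ hj hy0 hy1,
      horth _ _ _ _ (Ne.symm hj) hy1 hy0]
    linear_combination hyy
  obtain ⟨g, hgG, hg⟩ := hGmem _ hiso
  obtain ⟨z, hz, hza⟩ := exists_block_partner e hf hnd horth ha ha0
  refine frame_core e Q hT hG (blockMon_fixing fun i y hy => ?_) (fun y hy => ?_) (j1 := j1) (fun y hy => ?_)
    ⟨z, hz, fun c hc => ?_⟩ hgG ?_
  · rw [hHx]
    rcases eq_or_ne i j0 with rfl | hij
    · exact inBlock_add hy ha _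
    · rw [horth _ _ _ _ hij hy ha, mul_zero, zero_smul, add_zero]; exact hy
  · rw [hHx]; exact inBlock_add hy ha _
  · rw [hh, horth _ _ _ _ (Ne.symm hj) hy ha, mul_zero, zero_smul, add_zero]
  · rw [hh] at hc
    have h2 : (1 - c) • z + (t * f (mv Q z) (mv Q a)) • a = 0 := mv_inj Q (by
      rw [mv_add, mv_smul, mv_smul, mv_zero, sub_smul, one_smul]
      linear_combination (norm := module) hc)
    have h3 := congrArg (fun w => f (mv Q w) (mv Q a)) h2
    simp only [mv_add, mv_smul, hf.add_left, hf.smul_left, haa, mul_zero, add_zero, mv_zero, hf.zero_left,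
      mul_eq_zero, hza, or_false] at h3
    rw [h3, zero_smul, zero_add, smul_eq_zero] at h2
    exact h2.elim (mul_ne_zero ht hza) ha0
  · have hs : f (mv Q x) (mv Q (y0 + y1)) = f (mv Q x) (mv Q y0) := by
      rw [mv_add, hf.add_right, horth _ _ _ _ hj hx hy1, add_zero]
    refine not_blockMon_two hj hx (inBlock_add hx hy0 (t * f (mv Q x) (mv Q y0)))
      (b := (t * f (mv Q x) (mv Q y0)) • y1) (fun r hr => by simp [hy1 r hr]) (fun h0 => ?_)
      (smul_ne_zero (mul_ne_zero ht hxy) hy10) ?_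
    · exact hxspan (-(t * f (mv Q x) (mv Q y0))) (by linear_combination (norm := module) h0)
    · rw [mv_mul, mv_mul, hg, mv_add, mv_smul, mv_inv_mv, mv_inv_mv, hs, smul_add, add_assoc]

theorem exists_not_span (e : ι ≃ Fin k × Fin n) (hn : 2 ≤ n) (j : Fin k) (y : ι → F) :
    ∃ w, InBlock e j w ∧ ∀ c : F, w ≠ c • y := by
  classical
  set p := e.symm (j, ⟨0, by omega⟩)
  set q := e.symm (j, ⟨1, by omega⟩)
  have hpq : p ≠ q := fun h => by simpa [p, q, Fin.ext_iff] using congrArg e h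
  by_contra hcon
  push Not at hcon
  obtain ⟨c, hc⟩ := hcon (ev p) (by simpa [p] using inBlock_ev e p (1 : F))
  obtain ⟨c', hc'⟩ := hcon (ev q) (by simpa [q] using inBlock_ev e q (1 : F))
  have e1 := congrFun hc p
  have e2 := congrFun hc' p
  simp [hpq] at e1 e2
  have hc'0 : c' = 0 := by
    rcases e2 with h | h
    · exact h
    · rw [h, mul_zero] at e1; exact absurd e1 one_ne_zero
  rw [hc'0, zero_smul] at hc'
  simpa using congrFun hc' q

theorem symp_tensor_three_not_maximal [Fintype F] (m : ℕ) (hm : 7 ≤ m) (hq : Fintype.card F = 3) (n₁ : ℕ)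
    (e : (Fin m ⊕ Fin m) ≃ Fin n₁ × Fin 3) (P : GL (Fin m ⊕ Fin m) F)
    (f₁ : (Fin n₁ → F) → (Fin n₁ → F) → F) (f₂ : (Fin 3 → F) → (Fin 3 → F) → F)
    (hf₁ : Geo.IsSymplecticForm f₁) (hf₂ : Geo.IsSymmetricForm f₂)
    (hT : Geo.IsTensorFormStructure id (sympForm m F) f₁ f₂ e P) :
    ∃ K : Subgroup (GL (Fin m ⊕ Fin m) F), Geo.tensorProductSubgroup n₁ 3 e P ⊓ spGL m F < K ∧ K < spGL m F := by
  classical
  have hn : 2 ≤ n₁ := by
    have := Fintype.card_congr e
    simp at this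
    omega
  haveI : NeZero n₁ := ⟨by omega⟩
  have hf := sympForm_isSymplectic m F
  have hs : IsSesq (RingHom.id F) (sympForm m F) :=
    ⟨hf.bilinear.add_left, hf.bilinear.smul_left, hf.bilinear.add_right, hf.bilinear.smul_right⟩
  obtain ⟨c, hc, hP⟩ := gram_of_structure (σ := RingHom.id F) hT
  obtain ⟨w, d, hd, hw⟩ := Aschbacher.exists_scalar_basis_three hq hf₂
  obtain ⟨M, hM⟩ := frame_matrix (σ := RingHom.id F)
    ⟨hf₂.bilinear.add_left, hf₂.bilinear.smul_left, hf₂.bilinear.add_right, hf₂.bilinear.smul_right⟩ hd hw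
  set e' := e.trans (Equiv.prodComm _ _)
  rw [swap_entries] at hP
  obtain ⟨Q, horth, hQT⟩ := frame_exists e' hs P hc hd (gram_ne_zero (σ := RingHom.id F)
      ⟨hf₁.bilinear.add_left, hf₁.bilinear.smul_left, hf₁.bilinear.add_right, hf₁.bilinear.smul_right⟩
      hf₁.nondegenerate) (by norm_num) hP M hM
    (fun b μ hμ hb => Aschbacher.monomial_of_orth_three hq b hμ (by simpa [Matrix.map_id] using hb))
    (T := Geo.tensorProductSubgroup n₁ 3 e P) (G := spGL m F)
    (fun g hg => by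
      obtain ⟨a, b, hab⟩ := tensor_entries hg
      exact ⟨b, a, by rw [hab, swap_entries]⟩)
    (fun g hg x y => hg x y)
  set y0 : Fin m ⊕ Fin m → F := ev (e'.symm (0, 0)) with hy0d
  set y1 : Fin m ⊕ Fin m → F := ev (e'.symm (1, 0)) with hy1d
  have hy0 : InBlock e' 0 y0 := by simpa [y0] using inBlock_ev e' (e'.symm (0, 0)) (1 : F)
  have hy1 : InBlock e' 1 y1 := by simpa [y1] using inBlock_ev e' (e'.symm (1, 0)) (1 : F)
  have h00 : y0 ≠ 0 := fun h => by simpa [y0] using congrFun h (e'.symm (0, 0))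
  have h10 : y1 ≠ 0 := fun h => by simpa [y1] using congrFun h (e'.symm (1, 0))
  obtain ⟨x, hx, hxy⟩ := exists_block_partner e' hs hf.nondegenerate horth hy0 h00
  refine transvection_frame e' hs hf.nondegenerate Q horth hQT one_ne_zero
    (fun v _ => ⟨stv hf v 1, stv_mem hf v 1, mv_stv hf v 1⟩) (j0 := 0) (j1 := 1) (by decide)
    hy0 hy1 h10 hy0 h00 (hf.alternating _) (by rw [hf.alternating, hf.alternating, add_zero]) hx hxy
    fun c' hc' => hxy ?_
  rw [hc', mv_smul, hf.bilinear.smul_left, hf.alternating, mul_zero]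

theorem orth_tensor_three_not_maximal [Fintype F] (hq : Fintype.card F = 3) {Q₀ : (ι → F) → F}
    (hQ : Geo.IsNondegenerateQuadraticForm Q₀) (hcard : 11 ≤ Fintype.card ι) (n₂ : ℕ) (h2 : 3 < n₂)
    (e : ι ≃ Fin 3 × Fin n₂) (P : GL ι F) (f₁ : (Fin 3 → F) → (Fin 3 → F) → F)
    (f₂ : (Fin n₂ → F) → (Fin n₂ → F) → F) (hf₁ : Geo.IsSymmetricForm f₁) (hf₂ : Geo.IsSymmetricForm f₂)
    (hT : Geo.IsTensorFormStructure id (QuadraticMap.polar Q₀) f₁ f₂ e P) :
    ∃ K : Subgroup (GL ι F), Geo.tensorProductSubgroup 3 n₂ e P ⊓ Geo.omegaGL Q₀ < K ∧ K < Geo.omegaGL Q₀ := by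
  classical
  haveI : NeZero n₂ := ⟨by omega⟩
  have hb := hQ.polar_bilinear
  have hs : IsSesq (RingHom.id F) (QuadraticMap.polar Q₀) :=
    ⟨hb.add_left, hb.smul_left, hb.add_right, hb.smul_right⟩
  obtain ⟨c, hc, hP⟩ := gram_of_structure (σ := RingHom.id F) hT
  obtain ⟨w, d, hd, hw⟩ := Aschbacher.exists_scalar_basis_three hq hf₁
  obtain ⟨M, hM⟩ := frame_matrix (σ := RingHom.id F)
    ⟨hf₁.bilinear.add_left, hf₁.bilinear.smul_left, hf₁.bilinear.add_right, hf₁.bilinear.smul_right⟩ hd hw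
  obtain ⟨Q, horth, hQT⟩ := frame_exists e hs P hc hd (gram_ne_zero (σ := RingHom.id F)
      ⟨hf₂.bilinear.add_left, hf₂.bilinear.smul_left, hf₂.bilinear.add_right, hf₂.bilinear.smul_right⟩
      hf₂.nondegenerate) (by norm_num) hP M hM
    (fun b μ hμ hb => Aschbacher.monomial_of_orth_three hq b hμ (by simpa [Matrix.map_id] using hb))
    (T := Geo.tensorProductSubgroup 3 n₂ e P) (G := Geo.omegaGL Q₀)
    (fun g hg => tensor_entries hg)
    (fun g hg x y => Orth.pol_mv hQ (Orth.omega_le_isometry hQ hg) x y)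
  set X := LinearMap.range (blockEmb e Q 0)
  have hX : Module.finrank F X = n₂ := finrank_blockEmb e Q 0
  obtain ⟨u, hu, hu0, huu⟩ := Orth.exists_singular hQ (X := X) (by omega)
  obtain ⟨a, ha, rfl⟩ := mem_range_blockEmb.1 hu
  have ha0 : a ≠ 0 := fun h => hu0 (by rw [h, mv_zero])
  have huu2 : Orth.pol Q₀ (mv Q a) (mv Q a) = 0 := by rw [Orth.pol_self hQ, huu, mul_zero]
  obtain ⟨z, hz, hza⟩ := exists_block_partner e hs hQ.nondegenerate horth ha ha0
  -- a vector orthogonal to a, not a multiple of it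
  obtain ⟨w0, hw0, hw0s⟩ := exists_not_span e (by omega) 0 a
  obtain ⟨y, hy, hys, hay⟩ : ∃ y, InBlock e 0 y ∧ (∀ c : F, y ≠ c • a) ∧
      Orth.pol Q₀ (mv Q a) (mv Q y) = 0 := by
    by_contra hcon
    push Not at hcon
    -- a functional whose kernel on the block is the line of a
    let φ : (Fin n₂ → F) →ₗ[F] F := (Orth.formQ hQ (mv Q a)).comp (blockEmb e Q 0)
    have hle : (LinearMap.ker φ).map (blockEmb e Q 0) ≤ Submodule.span F {mv Q a} := by
      rintro v ⟨s, hs', rfl⟩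
      obtain ⟨y, hy, hyv⟩ := mem_range_blockEmb.1 (LinearMap.mem_range_self (blockEmb e Q 0) s)
      rw [hyv]
      by_cases hys : ∀ c : F, y ≠ c • a
      · exfalso
        apply hcon y hy hys
        have : Orth.pol Q₀ (mv Q y) (mv Q a) = 0 := by rw [← hyv]; exact hs'
        rw [Orth.pol_comm, this]
      · push Not at hys
        obtain ⟨c, rfl⟩ := hys
        rw [mv_smul]
        exact Submodule.smul_mem _ _ (Submodule.mem_span_singleton_self _)
    have hinj : Function.Injective (blockEmb e Q 0) := by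
      rw [← LinearMap.ker_eq_bot]
      apply Submodule.finrank_eq_zero.1
      have := LinearMap.finrank_range_add_finrank_ker (blockEmb e Q 0)
      rw [finrank_blockEmb, Module.finrank_fin_fun] at this
      omega
    have h1 := (Submodule.finrank_mono hle).trans (finrank_span_singleton (hu0)).le
    rw [← LinearEquiv.finrank_eq (Submodule.equivMapOfInjective _ hinj _)] at h1
    have h3 := LinearMap.finrank_range_add_finrank_ker φ
    have h4 : Module.finrank F (LinearMap.range φ) ≤ 1 := (Submodule.finrank_le _).trans (by simp)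
    rw [Module.finrank_fin_fun] at h3
    omega
  obtain ⟨h, hI, hsg⟩ := Orth.exists_siegel hQ huu hay
  have hG := Orth.siegel_mem_omega hQ (by omega) huu hay hsg
  set y1 : ι → F := ev (e.symm (1, 0)) with hy1d
  have hy1 : InBlock e 1 y1 := by simpa [y1] using inBlock_ev e (e.symm (1, 0)) (1 : F)
  have hy10 : y1 ≠ 0 := fun h => by simpa [y1] using congrFun h (e.symm (1, 0))
  have hay1 : Orth.pol Q₀ (mv Q a) (mv Q y1) = 0 := horth _ _ _ _ (by decide) ha hy1
  obtain ⟨g, -, hg⟩ := Orth.exists_siegel hQ huu hay1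
  have hgG := Orth.siegel_mem_omega hQ (by omega) huu hay1 hg
  refine frame_core e Q hQT hG (blockMon_fixing fun i x hx => ?_) (fun x hx => ?_) (j1 := 1) (fun x hx => ?_)
    ⟨z, hz, fun cc hcc => ?_⟩ hgG ?_
  · rw [mv_mul, mv_mul, hsg]
    rcases eq_or_ne i 0 with rfl | hi
    · rw [mv_sub, mv_add, mv_smul, mv_smul, mv_inv_mv, mv_inv_mv, mv_inv_mv, sub_eq_add_neg, ← neg_smul]
      exact inBlock_add (inBlock_add hx hy _) ha _
    · rw [show Orth.pol Q₀ (mv Q x) (mv Q a) = 0 from horth _ _ _ _ hi hx ha,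
        show Orth.pol Q₀ (mv Q x) (mv Q y) = 0 from horth _ _ _ _ hi hx hy]
      simpa [mv_inv_mv] using hx
  · rw [mv_mul, mv_mul, hsg, mv_sub, mv_add, mv_smul, mv_smul, mv_inv_mv, mv_inv_mv, mv_inv_mv,
      sub_eq_add_neg, ← neg_smul]
    exact inBlock_add (inBlock_add hx hy _) ha _
  · exact Orth.isSiegel_fix hQ hsg (horth _ _ _ _ (by decide) hx ha) (horth _ _ _ _ (by decide) hx hy)
  · rw [hsg] at hcc
    set p := Orth.pol Q₀ (mv Q z) (mv Q a) with hp
    have h5 := congrArg (fun v => Orth.pol Q₀ v (mv Q a)) hcc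
    simp only [Orth.pol_sub_left hQ, Orth.pol_add_left hQ, Orth.pol_smul_left hQ, huu2, mul_zero, sub_zero,
      (Orth.pol_comm _ _).trans hay, add_zero, ← hp] at h5
    have hcc1 : cc = 1 := ((mul_eq_right₀ hza).1 h5.symm)
    rw [hcc1, one_smul] at hcc
    have h6 : mv Q (p • y - (Orth.pol Q₀ (mv Q z) (mv Q y) + Q₀ (mv Q y) * p) • a) = mv Q 0 := by
      rw [mv_zero, mv_sub, mv_smul, mv_smul]
      linear_combination (norm := module) hcc
    have h7 := mv_inj Q h6
    refine hys (p⁻¹ * (Orth.pol Q₀ (mv Q z) (mv Q y) + Q₀ (mv Q y) * p)) ?_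
    rw [mul_smul, ← sub_eq_zero.1 h7, smul_smul, inv_mul_cancel₀ hza, one_smul]
  · set p := Orth.pol Q₀ (mv Q z) (mv Q a) with hp
    have hzy : Orth.pol Q₀ (mv Q z) (mv Q y1) = 0 := horth _ _ _ _ (by decide) hz hy1
    refine not_blockMon_two (show (0 : Fin 3) ≠ 1 by decide) hz
      (inBlock_add hz ha (-(Q₀ (mv Q y1) * p))) (b := p • y1) (fun r hr => by simp [hy1 r hr])
      (fun h0 => ?_) (smul_ne_zero hza hy10) ?_
    · have h5 := congrArg (fun v => Orth.pol Q₀ (mv Q v) (mv Q a)) h0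
      simp only [mv_add, mv_smul, Orth.pol_add_left hQ, Orth.pol_smul_left hQ, huu2, mul_zero, add_zero,
        mv_zero, Orth.pol_zero_left hQ] at h5
      exact hza h5
    · rw [mv_mul, mv_mul, hg, hzy, zero_add, mv_sub, mv_add, mv_smul, mv_smul, mv_inv_mv, mv_inv_mv, mv_inv_mv]
      module

theorem unitary_tensor_two_not_maximal [Fintype F] (n : ℕ) (hF : Fintype.card F = 4) (hn : 13 ≤ n) (n₂ : ℕ)
    (e : Fin n ≃ Fin 2 × Fin n₂) (P : GL (Fin n) F) (f₁ : (Fin 2 → F) → (Fin 2 → F) → F)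
    (f₂ : (Fin n₂ → F) → (Fin n₂ → F) → F) (hf₁ : Geo.IsUnitaryFormPow 2 f₁)
    (hf₂ : Geo.IsUnitaryFormPow 2 f₂)
    (hT : Geo.IsTensorFormStructure (fun x : F => x ^ 2) (hermForm n F 2) f₁ f₂ e P) :
    ∃ K : Subgroup (GL (Fin n) F),
      Geo.tensorProductSubgroup 2 n₂ e P ⊓ (GU n F 2 ⊓ Geo.specialLinear (Fin n) F) < K ∧
        K < (GU n F 2 ⊓ Geo.specialLinear (Fin n) F) := by
  classical
  obtain ⟨σ, hσ, -, hf⟩ := Herm.exists_unitary_std (n := n) (q := 2) (by simpa using hF) (by omega)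
  have hn₂ : 2 ≤ n₂ := by
    have := Fintype.card_congr e
    simp at this
    omega
  haveI : NeZero n₂ := ⟨by omega⟩
  have h2 : (2 : F) = 0 := by
    have : (2 : F) * 2 = 0 := by
      have : ((4 : ℕ) : F) = 0 := by rw [← hF]; exact Nat.cast_card_eq_zero F
      push_cast at this
      linear_combination this
    rcases mul_eq_zero.1 this with h | h <;> exact h
  have hfix : ∀ y : F, σ y = y → y ≠ 0 → y = 1 := fun y hy hy0 => by
    rw [hσ] at hy
    exact (mul_eq_left₀ hy0).1 (by linear_combination hy)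
  let τ : F →+* F := σ.toRingHom
  have hτ : ∀ x, τ x = x ^ 2 := hσ
  have mkU : ∀ {m : ℕ} (g : (Fin m → F) → (Fin m → F) → F), Geo.IsUnitaryFormPow 2 g →
      Geo.IsUnitaryForm σ g := fun g hg =>
    ⟨hf.ne_refl, hf.involutive, hg.add_left, hg.smul_left, fun v w => by rw [hg.herm, hσ], hg.nondegenerate⟩
  have mkS : ∀ {m : ℕ} (g : (Fin m → F) → (Fin m → F) → F), Geo.IsUnitaryForm σ g → IsSesq τ g :=
    fun g hg => ⟨hg.add_left, hg.smul_left, Herm.add_right hg, fun c v x => Herm.smul_right hg c v x⟩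
  have hu₁ := mkU f₁ hf₁
  have hu₂ := mkU f₂ hf₂
  have hs := mkS _ hf
  obtain ⟨c, hc, hP⟩ := gram_of_structure (σ := τ) (f := hermForm n F 2) (f₁ := f₁) (f₂ := f₂) (e := e)
    (P := P) (by
      obtain ⟨c, hc, h⟩ := hT
      refine ⟨c, hc, fun x y => (h x y).trans ?_⟩
      rw [show (fun x : F => x ^ 2) = ⇑τ from funext fun x => (hτ x).symm])
  -- an orthonormal pair for the small factor
  have hN1 : Herm.Nondeg hu₁ (⊤ : Submodule F (Fin 2 → F)) := Herm.nondeg_top hu₁
  obtain ⟨v, -, hvv⟩ := Herm.exists_anisotropic hu₁ hN1 top_ne_bot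
  have hvv1 : f₁ v v = 1 := hfix _ (Herm.self_fixed hu₁ v) hvv
  obtain ⟨w0, hw0, hw00⟩ := (LinearMap.ker (Herm.formH hu₁ v)).ne_bot_iff.1
    (LinearMap.ker_ne_bot_of_finrank_lt (by simp))
  have hwv : f₁ w0 v = 0 := hw0
  have hvw : f₁ v w0 = 0 := (Herm.f_eq_zero_comm hu₁).1 hwv
  have hww : f₁ w0 w0 ≠ 0 := by
    intro h0
    have hsp : Submodule.span F ({v, w0} : Set (Fin 2 → F)) = ⊤ := by
      have hli : LinearIndependent F ![v, w0] := by
        rw [LinearIndependent.pair_iff]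
        intro a b hab
        have h1 := congrArg (fun z => f₁ z v) hab
        simp only [hu₁.add_left, hu₁.smul_left, hvv1, hwv, mul_one, mul_zero, add_zero,
          Herm.zero_left hu₁] at h1
        refine ⟨h1, ?_⟩
        rw [h1, zero_smul, zero_add] at hab
        exact (smul_eq_zero.1 hab).resolve_right hw00
      have := hli.span_eq_top_of_card_eq_finrank (by simp)
      rwa [Matrix.range_cons_cons_empty] at this
    refine hw00 ((Herm.nondeg_iff hu₁).1 hN1 w0 Submodule.mem_top fun z _ => ?_)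
    obtain ⟨a, b, rfl⟩ := Submodule.mem_span_pair.1 (hsp ▸ Submodule.mem_top : z ∈ Submodule.span F {v, w0})
    rw [hu₁.add_left, hu₁.smul_left, hu₁.smul_left, hvw, h0, mul_zero, mul_zero, add_zero]
  have hww1 : f₁ w0 w0 = 1 := hfix _ (Herm.self_fixed hu₁ w0) hww
  obtain ⟨M, hM⟩ := frame_matrix (mkS _ hu₁) (d := (1 : F)) one_ne_zero (w := ![v, w0]) (fun i j => by
    fin_cases i <;> fin_cases j <;> simp [hvv1, hww1, hvw, hwv])
  have hmono : ∀ (b : GL (Fin 2) F) (μ : F), μ ≠ 0 →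
      (b : Matrix (Fin 2) (Fin 2) F)ᵀ * (b : Matrix (Fin 2) (Fin 2) F).map τ = μ • 1 →
      ∀ s, ∃ r, ∀ r', r' ≠ r → (b : Matrix (Fin 2) (Fin 2) F) r' s = 0 := by
    intro b μ hμ hb s
    by_contra hcon
    push Not at hcon
    have h0 : ∀ r, (b : Matrix (Fin 2) (Fin 2) F) r s ≠ 0 := fun r => by
      obtain ⟨r', hr', hne⟩ := hcon (1 - r)
      have key : ∀ r r' : Fin 2, r' ≠ 1 - r → r' = r := by decide
      have : r' = r := key r r' hr'
      exact this ▸ hne
    have h1 : ∀ r, (b : Matrix (Fin 2) (Fin 2) F) r s ^ 3 = 1 := fun r => by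
      have := FiniteField.pow_card_sub_one_eq_one _ (h0 r)
      rwa [hF] at this
    have := congrFun (congrFun hb s) s
    simp only [Matrix.mul_apply, Matrix.transpose_apply, Matrix.map_apply, hτ, Fin.sum_univ_two,
      Matrix.smul_apply, Matrix.one_apply_eq, smul_eq_mul, mul_one] at this
    exact hμ (by linear_combination -this + h1 0 + h1 1 + h2)
  have hG2 : Geo.gramMatrix f₂ ≠ 0 := gram_ne_zero (mkS _ hu₂) hu₂.nondegenerate
  obtain ⟨Q, horth, hQT⟩ := frame_exists e hs P hc one_ne_zero hG2 (by norm_num) hP M hM hmono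
    (T := Geo.tensorProductSubgroup 2 n₂ e P) (G := GU n F 2 ⊓ Geo.specialLinear (Fin n) F)
    (fun g hg => tensor_entries hg) (fun g hg x y => hg.1 x y)
  -- vectors in the blocks
  have hblockN : ∀ i, Herm.Nondeg hf (LinearMap.range (blockEmb e Q i)) := fun i =>
    (Herm.nondeg_iff hf).2 fun u hu h => by
      obtain ⟨y, hy, rfl⟩ := mem_range_blockEmb.1 hu
      by_contra hne
      obtain ⟨z, hz, hzy⟩ := exists_block_partner e hs hf.nondegenerate horth hy
        (fun h0 => hne (by rw [h0, mv_zero]))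
      exact hzy (h _ (mem_range_blockEmb.2 ⟨z, hz, rfl⟩))
  have hne : ∀ i, LinearMap.range (blockEmb e Q i) ≠ ⊥ := fun i h => by
    have := finrank_blockEmb e Q i
    rw [h, finrank_bot] at this
    omega
  obtain ⟨u0, hu0, hu00⟩ := Herm.exists_anisotropic hf (hblockN 0) (hne 0)
  obtain ⟨y0, hy0, rfl⟩ := mem_range_blockEmb.1 hu0
  obtain ⟨u1, hu1, hu10⟩ := Herm.exists_anisotropic hf (hblockN 1) (hne 1)
  obtain ⟨y1, hy1, rfl⟩ := mem_range_blockEmb.1 hu1
  have e0 := hfix _ (Herm.self_fixed hf _) hu00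
  have e1 := hfix _ (Herm.self_fixed hf _) hu10
  obtain ⟨ua, hua, hua0, huaa⟩ := Herm.exists_isotropic hf (hblockN 0) (by rw [finrank_blockEmb]; omega)
  obtain ⟨a, ha, rfl⟩ := mem_range_blockEmb.1 hua
  obtain ⟨w, hw, hws⟩ := exists_not_span e hn₂ 0 y0
  obtain ⟨x, hx, hxy, hxs⟩ : ∃ x, InBlock e 0 x ∧ hermForm n F 2 (mv Q x) (mv Q y0) ≠ 0 ∧
      ∀ c : F, x ≠ c • y0 := by
    by_cases h : hermForm n F 2 (mv Q w) (mv Q y0) = 0
    · refine ⟨w + (1 : F) • y0, inBlock_add hw hy0 1, ?_, fun c hcc => hws (c - 1) ?_⟩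
      · rw [one_smul, mv_add, hf.add_left, h, zero_add]; exact hu00
      · linear_combination (norm := module) hcc
    · exact ⟨w, hw, h, hws⟩
  refine transvection_frame e hs hf.nondegenerate Q horth hQT one_ne_zero
    (fun v hv => ⟨Herm.htv hf v hv 1, ⟨Herm.htv_mem hf v hv (by rw [map_one]; linear_combination h2),
      Herm.htv_mem_specialLinear hf v hv 1⟩, Herm.mv_htv hf v hv 1⟩) (j0 := 0) (j1 := 1) (by decide)
    hy0 hy1 (fun h => hu10 (by rw [h, mv_zero, hs.zero_left])) ha (fun h => hua0 (by rw [h, mv_zero]))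
    huaa (by linear_combination e0 + e1 + h2) hx hxy hxs

end Cfsg.Agent.Imprim
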